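/-
Omega is transitive on vectors and on pairs of vectors with given values.
-/
import Cfsg.Agent.Lib.OrthDeg.Geometry
import Cfsg.Agent.Lib.Orthogonal.MaxSingular

set_option autoImplicit false

namespace Cfsg.Agent.OrthMin

open QuadraticMap Module Cfsg.Agent.Orth Cfsg.Agent.OrthDeg

variable {F V : Type*} [Field F] [AddCommGroup V] [Module F V] {Q : QuadraticForm F V}
variable [FiniteDimensional F V]

/-- The orthogonal of P takes every value when it is not too degenerate. -/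
theorem exists_value_perp [Finite F] (hQ : (polarBilin Q).Nondegenerate) (P : Submodule F V)
    (h : finrank F P + finrank F (P ⊓ perp Q P : Submodule F V) + 2 ≤ finrank F V) (c : F) :
    ∃ v ∈ perp Q P, Q v = c := by
  obtain ⟨C, hC⟩ := Submodule.exists_isCompl ((P ⊓ perp Q P).comap (perp Q P).subtype)
  have hnd : ∀ a ∈ C.map (perp Q P).subtype, (∀ b ∈ C.map (perp Q P).subtype, polar Q a b = 0) → a = 0 := by
    rintro _ ⟨a, ha, rfl⟩ hb
    have haP : (a : V) ∈ P := by
      refine (le_of_eq (perp_perp hQ P) : perp Q (perp Q P) ≤ P) ?_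
      intro b hb'
      obtain ⟨r, hr, s, hs, hrs⟩ := Submodule.mem_sup.1
        (show (⟨b, hb'⟩ : perp Q P) ∈ (P ⊓ perp Q P).comap (perp Q P).subtype ⊔ C by
          rw [hC.sup_eq_top]; exact Submodule.mem_top)
      have e : b = (r : V) + (s : V) := (congrArg Subtype.val hrs).symm
      rw [e, b_add_left, a.2 r hr.1, zero_add, b_comm]
      exact hb _ ⟨s, hs, rfl⟩
    exact congrArg Subtype.val (Submodule.disjoint_def.1 hC.disjoint a ⟨haP, a.2⟩ ha)
  have hd := Submodule.finrank_add_eq_of_isCompl hC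
  rw [(Submodule.comapSubtypeEquivOfLe inf_le_right).finrank_eq] at hd
  have hp := finrank_perp_eq hQ P
  have hC2 : 2 ≤ finrank F (C.map (perp Q P).subtype) := by
    rw [← (Submodule.equivMapOfInjective _ (perp Q P).injective_subtype C).finrank_eq]; omega
  obtain ⟨v, hv⟩ := exists_value (nondeg_restr hnd) hC2 c
  obtain ⟨v', -, hv'⟩ := v.2
  exact ⟨v, hv' ▸ v'.2, hv⟩

theorem finrank_span_pair {a b : V} (h : LinearIndependent F ![a, b]) :
    finrank F (Submodule.span F ({a, b} : Set V)) = 2 := by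
  have h3 := finrank_span_eq_card h
  rwa [Matrix.range_cons, Matrix.range_cons, Matrix.range_empty, Set.union_empty, Set.singleton_union,
    Fintype.card_fin] at h3

theorem rad_span_pair {a b : V} (h : LinearIndependent F ![a, b])
    (hnts : ¬ (2 * Q a = 0 ∧ 2 * Q b = 0 ∧ polar Q a b = 0)) :
    finrank F (Submodule.span F ({a, b} : Set V) ⊓ perp Q (Submodule.span F {a, b}) : Submodule F V) ≤ 1 := by
  by_contra hh
  have e : Submodule.span F ({a, b} : Set V) ⊓ perp Q (Submodule.span F {a, b}) = Submodule.span F {a, b} :=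
    Submodule.eq_of_le_of_finrank_le inf_le_left (by rw [finrank_span_pair h]; omega)
  have hle : Submodule.span F ({a, b} : Set V) ≤ perp Q (Submodule.span F {a, b}) := by
    conv_lhs => rw [← e]
    exact inf_le_right
  have ha := hle (Submodule.subset_span (show a ∈ ({a, b} : Set V) by simp))
  have hb := hle (Submodule.subset_span (show b ∈ ({a, b} : Set V) by simp))
  refine hnts ⟨?_, ?_, hb a (Submodule.subset_span (by simp))⟩
  · rw [← b_self]; exact ha a (Submodule.subset_span (by simp))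
  · rw [← b_self]; exact hb b (Submodule.subset_span (by simp))

/-- An isometry equals an element of Omega on a set whose orthogonal takes every value. -/
theorem correct [Fintype F] (hG : Good Q) (g : oGroup Q) (S : Set V)
    (hv : ∀ c : F, c ≠ 0 → ∃ v, Q v = c ∧ ∀ x ∈ S, polar Q x v = 0) :
    ∃ h : omg Q, ∀ x ∈ S, app h x = g.1 x := by
  obtain ⟨χ, hker, hχ⟩ := spinor_exists_ker hG.nd hG.dim
  have hr : ∀ c : SqCls F, ∃ r : oGroup Q, χ r = (Multiplicative.ofAdd 1, c) ∧ ∀ x ∈ S, r.1 x = x := by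
    intro c
    obtain ⟨u, rfl⟩ := QuotientGroup.mk_surjective c
    obtain ⟨v, hv1, hv2⟩ := hv u u.ne_zero
    obtain ⟨r, hrm, hr⟩ := exists_isRefl (a := v) (Q := Q) (by rw [hv1]; exact u.ne_zero)
    exact ⟨⟨r, hrm⟩, by rw [hχ _ _ hr, reflVal, hv1, sqc_unit], fun x hx => hr.fix (hv2 x hx)⟩
  obtain ⟨k, hkχ, hkfix⟩ : ∃ k : oGroup Q, χ k = (χ g)⁻¹ ∧ ∀ x ∈ S, k.1 x = x := by
    obtain ⟨r, hr1, hr2⟩ := hr (χ g)⁻¹.2
    obtain ⟨r₀, h01, h02⟩ := hr 1
    rcases (show ∀ x : ZMod 2, x = 0 ∨ x = 1 by decide) (Multiplicative.toAdd (χ g)⁻¹.1) with he | he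
    · refine ⟨r₀ * r, ?_, fun x hx => ?_⟩
      · rw [map_mul, hr1, h01, Prod.mk_mul_mk, one_mul]
        exact Prod.ext (Multiplicative.toAdd.injective (he.symm ▸ (by decide : (1 : ZMod 2) + 1 = 0))) rfl
      · rw [Subgroup.coe_mul, LinearEquiv.mul_apply, hr2 x hx, h02 x hx]
    · exact ⟨r, by rw [hr1]; exact Prod.ext (Multiplicative.toAdd.injective he.symm) rfl, hr2⟩
  refine ⟨⟨g * k, ?_⟩, fun x hx => ?_⟩
  · show g * k ∈ commutator _
    rw [← hker, MonoidHom.mem_ker, map_mul, hkχ, mul_inv_cancel]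
  · show (g * k).1 x = g.1 x
    rw [Subgroup.coe_mul, LinearEquiv.mul_apply, hkfix x hx]

theorem witt_one (hQ : (polarBilin Q).Nondegenerate) {a a' : V} (ha : a ≠ 0) (ha' : a' ≠ 0) (hq : Q a' = Q a) :
    ∃ g ∈ oGroup Q, g a = a' := by
  obtain ⟨g, hg, hgφ⟩ := witt_pair hQ ((LinearEquiv.toSpanNonzeroSingleton F V a ha).symm.trans
    (LinearEquiv.toSpanNonzeroSingleton F V a' ha')) (fun x => by
      obtain ⟨t, rfl⟩ := (LinearEquiv.toSpanNonzeroSingleton F V a ha).surjective x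
      rw [LinearEquiv.trans_apply, LinearEquiv.symm_apply_apply]
      simp only [LinearEquiv.toSpanNonzeroSingleton_apply]
      rw [q_smul, q_smul, hq])
  refine ⟨g, hg, ?_⟩
  have h1 := hgφ (LinearEquiv.toSpanNonzeroSingleton F V a ha 1)
  rw [LinearEquiv.trans_apply, LinearEquiv.symm_apply_apply] at h1
  simpa only [LinearEquiv.toSpanNonzeroSingleton_apply, one_smul] using h1

/-- Omega is transitive on the vectors of a given value. -/
theorem move_one [Fintype F] (hG : Good Q) {a a' : V} (ha : a ≠ 0) (ha' : a' ≠ 0) (hq : Q a' = Q a) :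
    ∃ h : omg Q, app h a = a' := by
  obtain ⟨g, hg, hga⟩ := witt_one hG.nd ha ha' hq
  obtain ⟨h, hh⟩ := correct hG ⟨g, hg⟩ {a} fun c _ => by
    obtain ⟨v, hv, hvc⟩ := exists_value_perp hG.nd (Submodule.span F {a}) (by
      have h1 := Submodule.finrank_mono (inf_le_left : Submodule.span F {a} ⊓ perp Q (Submodule.span F {a}) ≤ Submodule.span F {a})
      have h2 := hG.dim
      rw [finrank_span_singleton ha] at h1 ⊢
      omega) c
    exact ⟨v, hvc, fun x hx => by rw [Set.mem_singleton_iff.1 hx]; exact mem_perp_span.1 hv a (by simp)⟩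
  exact ⟨h, (hh a rfl).trans hga⟩

/-- Omega is transitive on independent pairs with given values, unless the span is totally singular in dimension five. -/
theorem move_two [Fintype F] (hG : Good Q) {a b a' b' : V} (h : LinearIndependent F ![a, b])
    (h' : LinearIndependent F ![a', b']) (ha : Q a' = Q a) (hb : Q b' = Q b) (hab : polar Q a' b' = polar Q a b)
    (hcond : 6 ≤ finrank F V ∨ ¬ (2 * Q a = 0 ∧ 2 * Q b = 0 ∧ polar Q a b = 0)) :
    ∃ g : omg Q, app g a = a' ∧ app g b = b' := by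
  obtain ⟨g, hg, hga, hgb⟩ := witt_two hG.nd h h' ha hb hab
  obtain ⟨k, hk⟩ := correct hG ⟨g, hg⟩ {a, b} fun c _ => by
    obtain ⟨v, hv, hvc⟩ := exists_value_perp hG.nd (Submodule.span F {a, b}) (by
      have h1 := Submodule.finrank_mono (inf_le_left :
        Submodule.span F ({a, b} : Set V) ⊓ perp Q (Submodule.span F {a, b}) ≤ Submodule.span F {a, b})
      have h2 := hG.dim
      rw [finrank_span_pair h] at h1 ⊢
      rcases hcond with hd | hd
      · omega
      · have := rad_span_pair h hd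
        omega) c
    exact ⟨v, hvc, fun x hx => mem_perp_span.1 hv x hx⟩
  exact ⟨k, (hk a (by simp)).trans hga, (hk b (by simp)).trans hgb⟩

/-- For a totally singular pair Omega reaches every pair up to a scalar on the second vector. -/
theorem move_two_scaled [Fintype F] (hG : Good Q) {a b a' b' : V} (h : LinearIndependent F ![a, b])
    (h' : LinearIndependent F ![a', b']) (ha : Q a = 0) (hb : Q b = 0) (hab : polar Q a b = 0)
    (ha' : Q a' = 0) (hb' : Q b' = 0) (hab' : polar Q a' b' = 0) :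
    ∃ (g : omg Q) (c : F), c ≠ 0 ∧ app g a = a' ∧ app g b = c • b' := by
  obtain ⟨g, hg, hga, hgb⟩ := witt_two hG.nd h h' (ha'.trans ha.symm) (hb'.trans hb.symm) (hab'.trans hab.symm)
  have hanb : a ∉ Submodule.span F {b} := by
    rw [Submodule.mem_span_singleton]
    rintro ⟨t, ht⟩
    exact one_ne_zero (LinearIndependent.pair_iff.1 h 1 (-t) (by rw [← ht]; module)).1
  have hb0 : b ≠ 0 := by simpa using h.ne_zero 1
  obtain ⟨a₁, b₁, h1, h2, h3, h4, h5, h6, h7⟩ := exists_partners hG.nd ha hb hab hanb hb0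
  obtain ⟨χ, hker, hχ⟩ := spinor_exists_ker hG.nd hG.dim
  -- the products of two reflections in the plane of b and b₁ give every class
  have hS : ∀ cl : SqCls F, ∃ (s : oGroup Q) (c : F), c ≠ 0 ∧ χ s = (1, cl) ∧ s.1 a = a ∧ s.1 b = c • b := by
    intro cl
    obtain ⟨u, rfl⟩ := QuotientGroup.mk_surjective cl
    have e1 : Q (b - b₁) = -1 := by rw [q_sub, hb, h2, h4]; ring
    have e2 : Q (b - (u : F) • b₁) = -(u : F) := by rw [q_sub, q_smul, b_smul_right, hb, h2, h4]; ring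
    obtain ⟨r₁, hr₁m, hr₁⟩ := exists_isRefl (a := b - b₁) (Q := Q) (by rw [e1]; simp)
    obtain ⟨r₂, hr₂m, hr₂⟩ := exists_isRefl (a := b - (u : F) • b₁) (Q := Q) (by rw [e2]; simp)
    refine ⟨⟨r₂, hr₂m⟩ * ⟨r₁, hr₁m⟩, (u : F)⁻¹, inv_ne_zero u.ne_zero, ?_, ?_, ?_⟩
    · rw [map_mul, hχ ⟨r₁, hr₁m⟩ _ hr₁, hχ ⟨r₂, hr₂m⟩ _ hr₂, reflVal, reflVal, e1, e2, Prod.mk_mul_mk]
      refine Prod.ext (show Multiplicative.ofAdd (1 : ZMod 2) * Multiplicative.ofAdd 1 = 1 by decide) ?_
      show sqc F _ * sqc F _ = _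
      rw [← sqc_mul (neg_ne_zero.2 u.ne_zero) (by simp), show -(u : F) * -1 = (u : F) by ring, sqc_unit]
    · have f1 : polar Q a (b - b₁) = 0 := by rw [b_sub_right, hab, h6, sub_zero]
      have f2 : polar Q a (b - (u : F) • b₁) = 0 := by rw [b_sub_right, b_smul_right, hab, h6, mul_zero, sub_zero]
      show r₂ (r₁ a) = a
      rw [hr₁.fix f1, hr₂.fix f2]
    · show r₂ (r₁ b) = _
      rw [hr₁.2, hr₂.2, e1, e2]
      simp only [b_sub_right, b_sub_left, b_smul_right, b_smul_left, b_self, hb, h2, h4, b_comm b₁ b]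
      match_scalars <;> field_simp <;> ring
  -- one reflection fixing both
  obtain ⟨v, hv0, hav, hbv⟩ : ∃ v, Q v ≠ 0 ∧ polar Q a v = 0 ∧ polar Q b v = 0 := by
    by_contra hcon
    push Not at hcon
    have hz : ∀ w ∈ perp Q (Submodule.span F ({a, b} : Set V)), Q w = 0 := fun w hw => by
      by_contra hne
      exact hcon w hne (mem_perp_span.1 hw a (by simp)) (mem_perp_span.1 hw b (by simp))
    have h9 := finrank_singular_le hG.nd hz
    have h10 := finrank_perp_eq hG.nd (Submodule.span F ({a, b} : Set V))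
    have h11 := hG.dim
    rw [finrank_span_pair h] at h10
    omega
  obtain ⟨r, hrm, hr⟩ := exists_isRefl hv0
  obtain ⟨k, c, hc, hkχ, hka, hkb⟩ :
      ∃ (k : oGroup Q) (c : F), c ≠ 0 ∧ χ k = (χ ⟨g, hg⟩)⁻¹ ∧ k.1 a = a ∧ k.1 b = c • b := by
    obtain ⟨ε, hε⟩ : ∃ ε, Multiplicative.toAdd (χ ⟨g, hg⟩)⁻¹.1 = ε := ⟨_, rfl⟩
    rcases (show ∀ x : ZMod 2, x = 0 ∨ x = 1 by decide) ε with rfl | rfl
    · obtain ⟨s, c, hc, hs, hsa, hsb⟩ := hS (χ ⟨g, hg⟩)⁻¹.2
      exact ⟨s, c, hc, by rw [hs]; exact Prod.ext (Multiplicative.toAdd.injective hε.symm) rfl, hsa, hsb⟩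
    · obtain ⟨s, c, hc, hs, hsa, hsb⟩ := hS ((χ ⟨g, hg⟩)⁻¹.2 * sqc F (Q v))
      refine ⟨⟨r, hrm⟩ * s, c, hc, ?_, ?_, ?_⟩
      · rw [map_mul, hs, hχ ⟨r, hrm⟩ _ hr, reflVal, Prod.mk_mul_mk, mul_one, mul_comm _ (sqc F (Q v)), ← mul_assoc,
          sqc_mul_self hv0, one_mul]
        exact Prod.ext (Multiplicative.toAdd.injective hε.symm) rfl
      · show r (s.1 a) = a
        rw [hsa, hr.fix hav]
      · show r (s.1 b) = _
        rw [hsb, map_smul, hr.fix hbv]
  refine ⟨⟨⟨g, hg⟩ * k, ?_⟩, c, hc, ?_, ?_⟩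
  · show ⟨g, hg⟩ * k ∈ commutator _
    rw [← hker, MonoidHom.mem_ker, map_mul, hkχ, mul_inv_cancel]
  · show g (k.1 a) = a'
    rw [hka, hga]
  · show g (k.1 b) = c • b'
    rw [hkb, map_smul, hgb]

end Cfsg.Agent.OrthMin
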