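/-
Counting vectors with prescribed values, and the size of totally singular subspaces.
-/
import Cfsg.Agent.Lib.OrthMinIndex.Moves
import Cfsg.Agent.Lib.OrthDeg.Count
import Mathlib.Tactic.Positivity

set_option autoImplicit false

namespace Cfsg.Agent.OrthMin

open QuadraticMap Module Cfsg.Agent.Orth Cfsg.Agent.OrthDeg

variable {F V : Type*} [Field F] [AddCommGroup V] [Module F V] {Q : QuadraticForm F V}
variable [Finite F] [FiniteDimensional F V]

/-- The fibres of two independent functionals. -/
theorem card_two_fibre {φ₁ φ₂ : Dual F V} (h : ∀ s t : F, s • φ₁ + t • φ₂ = 0 → s = 0 ∧ t = 0) (γ δ : F) :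
    Nat.card {w : V // φ₁ w = γ ∧ φ₂ w = δ} * Nat.card F ^ 2 = Nat.card V := by
  let Φ : V →ₗ[F] F × F := φ₁.prod φ₂
  have hsurj : Function.Surjective Φ := by
    rw [← LinearMap.range_eq_top]
    by_contra hne
    obtain ⟨ψ, hψ0, hψ⟩ := Submodule.exists_dual_map_eq_bot_of_lt_top (lt_top_iff_ne_top.2 hne) inferInstance
    have h0 : ψ.comp Φ = 0 := by
      refine LinearMap.ext fun w => ?_
      have := Submodule.mem_map_of_mem (f := ψ) (LinearMap.mem_range_self Φ w)
      rw [hψ] at this
      exact (Submodule.mem_bot F).1 this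
    obtain ⟨hs, ht⟩ := h (ψ (1, 0)) (ψ (0, 1)) (LinearMap.ext fun w => by
      have := LinearMap.congr_fun h0 w
      simp only [LinearMap.comp_apply, LinearMap.zero_apply] at this
      rw [show Φ w = φ₁ w • ((1 : F), (0 : F)) + φ₂ w • ((0 : F), (1 : F)) by simp [Φ], map_add, map_smul,
        map_smul] at this
      simp only [LinearMap.add_apply, LinearMap.smul_apply, LinearMap.zero_apply, smul_eq_mul] at this ⊢
      linear_combination this)
    refine hψ0 (LinearMap.ext fun x => ?_)
    rw [show x = x.1 • ((1 : F), (0 : F)) + x.2 • ((0 : F), (1 : F)) by simp, map_add, map_smul, map_smul, hs, ht]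
    simp
  obtain ⟨w₀, hw₀⟩ := hsurj (γ, δ)
  have e : {w : V // φ₁ w = γ ∧ φ₂ w = δ} ≃ LinearMap.ker Φ :=
    { toFun := fun w => ⟨w.1 - w₀, by
        rw [LinearMap.mem_ker, map_sub, hw₀, sub_eq_zero]
        exact Prod.ext w.2.1 w.2.2⟩
      invFun := fun w => ⟨w.1 + w₀, by
        have h1 : Φ (w.1 + w₀) = (γ, δ) := by rw [map_add, LinearMap.mem_ker.1 w.2, zero_add, hw₀]
        exact ⟨congrArg Prod.fst h1, congrArg Prod.snd h1⟩⟩
      left_inv := fun w => Subtype.ext (sub_add_cancel _ _)
      right_inv := fun w => Subtype.ext (add_sub_cancel_right _ _) }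
  have hr := Φ.finrank_range_add_finrank_ker
  rw [LinearMap.range_eq_top.2 hsurj, finrank_top, Module.finrank_prod, Module.finrank_self] at hr
  rw [Nat.card_congr e, card_submodule, ← pow_add, Module.natCard_eq_pow_finrank (K := F) (V := V)]
  congr 1
  omega

/-- The fibres of a non-zero functional. -/
theorem card_one_fibre {φ : Dual F V} (h : φ ≠ 0) (γ : F) :
    Nat.card {w : V // φ w = γ} * Nat.card F = Nat.card V := by
  have hsurj : Function.Surjective φ := LinearMap.surjective_iff_ne_zero.2 h
  obtain ⟨w₀, hw₀⟩ := hsurj γ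
  have e : {w : V // φ w = γ} ≃ LinearMap.ker φ :=
    { toFun := fun w => ⟨w.1 - w₀, by rw [LinearMap.mem_ker, map_sub, hw₀, w.2, sub_self]⟩
      invFun := fun w => ⟨w.1 + w₀, by rw [map_add, LinearMap.mem_ker.1 w.2, zero_add, hw₀]⟩
      left_inv := fun w => Subtype.ext (sub_add_cancel _ _)
      right_inv := fun w => Subtype.ext (add_sub_cancel_right _ _) }
  have hr := φ.finrank_range_add_finrank_ker
  rw [LinearMap.range_eq_top.2 hsurj, finrank_top, Module.finrank_self] at hr
  rw [Nat.card_congr e, card_submodule, ← pow_succ, Module.natCard_eq_pow_finrank (K := F) (V := V)]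
  congr 1
  omega

theorem card_split {α : Type*} [Finite α] (p r : α → Prop) :
    Nat.card {a // p a ∧ ¬ r a} + Nat.card {a // p a ∧ r a} = Nat.card {a // p a} := by
  have h := Set.ncard_inter_add_ncard_sdiff_eq_ncard {a | p a} {a | r a} (Set.toFinite _)
  rw [add_comm]
  simp only [← Nat.card_coe_set_eq] at h
  exact h

omit [Finite F] [FiniteDimensional F V] in
theorem polarBilin_indep {r u : V} (hQ : (polarBilin Q).Nondegenerate) (hind : LinearIndependent F ![r, u]) :
    ∀ s t : F, s • polarBilin Q r + t • polarBilin Q u = 0 → s = 0 ∧ t = 0 := fun s t h =>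
  LinearIndependent.pair_iff.1 hind s t (eq_zero_of_b hQ fun y => by
    have := LinearMap.congr_fun h y
    simpa [b_add_left, b_smul_left] using this)

omit [FiniteDimensional F V] in
/-- A set stable under the translations by a singular vector meets each level once in each line of translations. -/
theorem level_mul {u : V} (hu : Q u = 0) (S : Set V) (hS : ∀ w ∈ S, ∀ c : F, w + c • u ∈ S)
    (hb : ∀ w ∈ S, polar Q u w ≠ 0) (α : F) :
    Nat.card {w : S // Q (w : V) = α} * Nat.card F = Nat.card S := by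
  rw [← Nat.card_prod]
  refine Nat.card_congr
    { toFun := fun p => ⟨(p.1.1 : V) + p.2 • u, hS _ p.1.1.2 _⟩
      invFun := fun w => (⟨⟨(w : V) + ((α - Q (w : V)) / polar Q u (w : V)) • u, hS _ w.2 _⟩, ?_⟩,
        -((α - Q (w : V)) / polar Q u (w : V)))
      left_inv := ?_
      right_inv := fun w => Subtype.ext (by simp [add_assoc, ← add_smul]) }
  · show Q ((w : V) + _ • u) = α
    rw [q_add, q_smul, b_smul_right, hu, b_comm (w : V) u, div_mul_cancel₀ _ (hb _ w.2)]
    ring
  · rintro ⟨⟨⟨w, hw⟩, hwα⟩, c⟩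
    have hwα' : Q w = α := hwα
    have e : (α - Q (w + c • u)) / polar Q u (w + c • u) = -c := by
      rw [q_add, q_smul, b_smul_right, hu, hwα', b_add_right, b_smul_right, b_self, hu, b_comm w u]
      have := hb w hw
      field_simp
      ring_nf
      simp [mul_inv_cancel_right₀ this]
    refine Prod.ext (Subtype.ext (Subtype.ext ?_)) ?_
    · show w + c • u + _ • u = w
      rw [e]; simp
    · show -_ = c
      rw [e, neg_neg]

/-- Many vectors of each value. -/
theorem level_ge (hQ : (polarBilin Q).Nondegenerate) {u u' : V} (hu : Q u = 0) (hu' : Q u' = 0)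
    (huu : polar Q u u' = 0) (hind : LinearIndependent F ![u, u']) (α : F) :
    (Nat.card F ^ 2 - 1) * Nat.card V ≤ Nat.card {w : V // w ≠ 0 ∧ Q w = α} * Nat.card F ^ 3 := by
  haveI : Finite V := Module.finite_of_finite F
  have hu0 : u ≠ 0 := by simpa using hind.ne_zero 0
  have hu'0 : u' ≠ 0 := by simpa using hind.ne_zero 1
  let S₁ : Set V := {w | polar Q u w ≠ 0}
  let S₂ : Set V := {w | polar Q u w = 0 ∧ polar Q u' w ≠ 0}
  have h1 := level_mul hu S₁ (fun w hw c => by
    show polar Q u (w + c • u) ≠ 0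
    rw [b_add_right, b_smul_right, b_self, hu]; simpa [S₁] using hw) (fun w hw => hw) α
  have h2 := level_mul hu' S₂ (fun w hw c => by
    show polar Q u (w + c • u') = 0 ∧ polar Q u' (w + c • u') ≠ 0
    rw [b_add_right, b_add_right, b_smul_right, b_smul_right, b_self, hu', huu]; simpa [S₂] using hw)
    (fun w hw => hw.2) α
  have hle : Nat.card {w : S₁ // Q (w : V) = α} + Nat.card {w : S₂ // Q (w : V) = α} ≤
      Nat.card {w : V // w ≠ 0 ∧ Q w = α} := by
    rw [← Nat.card_sum]
    refine Nat.card_le_card_of_injective (Sum.elim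
      (fun w => ⟨w.1.1, fun h0 => w.1.2 (by rw [h0, b_zero_right]), w.2⟩)
      (fun w => ⟨w.1.1, fun h0 => w.1.2.2 (by rw [h0, b_zero_right]), w.2⟩)) ?_
    rintro (⟨⟨a, ha⟩, haα⟩ | ⟨⟨a, ha⟩, haα⟩) (⟨⟨b, hb⟩, hbα⟩ | ⟨⟨b, hb⟩, hbα⟩) h <;>
      simp only [Sum.elim_inl, Sum.elim_inr, Subtype.mk.injEq] at h <;> subst h
    · rfl
    · exact absurd hb.1 ha
    · exact absurd ha.1 hb
    · rfl
  have c1 : Nat.card S₁ * Nat.card F = (Nat.card F - 1) * Nat.card V := by
    have h3 : Nat.card {w : V // polarBilin Q u w = 0} * Nat.card F = Nat.card V :=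
      card_one_fibre (fun h0 => hu0 (eq_zero_of_b hQ fun y => by simpa using LinearMap.congr_fun h0 y)) 0
    have h4 : Nat.card S₁ + Nat.card {w : V // polarBilin Q u w = 0} = Nat.card V := by
      have := card_split (α := V) (fun _ => True) (fun w => polarBilin Q u w = 0)
      simpa [S₁, Set.coe_setOf, Nat.card_congr (Equiv.subtypeUnivEquiv fun _ => trivial)] using this
    have hq : 1 ≤ Nat.card F := Nat.card_pos
    zify [hq] at h3 h4 ⊢
    linear_combination (Nat.card F : ℤ) * h4 - h3
  have c2 : Nat.card S₂ * Nat.card F ^ 2 = (Nat.card F - 1) * Nat.card V := by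
    have h3 : Nat.card {w : V // polarBilin Q u w = 0} * Nat.card F = Nat.card V :=
      card_one_fibre (fun h0 => hu0 (eq_zero_of_b hQ fun y => by simpa using LinearMap.congr_fun h0 y)) 0
    have h5 : Nat.card {w : V // polarBilin Q u w = 0 ∧ polarBilin Q u' w = 0} * Nat.card F ^ 2 = Nat.card V :=
      card_two_fibre (polarBilin_indep hQ hind) 0 0
    have h4 : Nat.card S₂ + Nat.card {w : V // polarBilin Q u w = 0 ∧ polarBilin Q u' w = 0} =
        Nat.card {w : V // polarBilin Q u w = 0} := by
      exact card_split (α := V) _ fun w => polarBilin Q u' w = 0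
    have hq : 1 ≤ Nat.card F := Nat.card_pos
    zify [hq] at h3 h4 h5 ⊢
    linear_combination ((Nat.card F : ℤ) ^ 2) * h4 - h5 + (Nat.card F : ℤ) * h3
  have hq : 1 ≤ Nat.card F := Nat.card_pos
  have hq2 : 1 ≤ Nat.card F ^ 2 := Nat.one_le_pow _ _ hq
  have hle' := Nat.mul_le_mul_right (Nat.card F ^ 3) hle
  rw [add_mul] at hle'
  calc (Nat.card F ^ 2 - 1) * Nat.card V
      = Nat.card {w : S₁ // Q (w : V) = α} * Nat.card F ^ 3 + Nat.card {w : S₂ // Q (w : V) = α} * Nat.card F ^ 3 := by
        rw [← h1] at c1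
        rw [← h2] at c2
        zify [hq, hq2] at c1 c2 ⊢
        linear_combination -(Nat.card F : ℤ) * c1 - c2
    _ ≤ _ := hle'

/-- The vectors with given products against r and given value. -/
theorem gram_ge (hQ : (polarBilin Q).Nondegenerate) {r u : V} (hu : Q u = 0) (hru : polar Q r u = 0)
    (hind : LinearIndependent F ![r, u]) (β γ : F) :
    (Nat.card F - 1) * Nat.card V ≤
      Nat.card {s : V // LinearIndependent F ![r, s] ∧ Q s = β ∧ polar Q r s = γ} * Nat.card F ^ 3 := by
  haveI : Finite V := Module.finite_of_finite F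
  let S : Set V := {w | polar Q r w = γ ∧ polar Q u w ≠ 0}
  have h1 := level_mul hu S (fun w hw c => by
    show polar Q r (w + c • u) = γ ∧ polar Q u (w + c • u) ≠ 0
    rw [b_add_right, b_add_right, b_smul_right, b_smul_right, b_self, hu, hru]; simpa [S] using hw)
    (fun w hw => hw.2) β
  have hind' := hind
  have hle : Nat.card {w : S // Q (w : V) = β} ≤
      Nat.card {s : V // LinearIndependent F ![r, s] ∧ Q s = β ∧ polar Q r s = γ} := by
    refine Nat.card_le_card_of_injective (fun w => ⟨w.1.1, ?_, w.2, w.1.2.1⟩) fun a b h => ?_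
    · have hr0 : r ≠ 0 := by simpa using hind'.ne_zero 0
      refine (LinearIndependent.pair_iff' hr0).2 fun t ht => w.1.2.2 ?_
      rw [← ht, b_smul_right, b_comm, hru, mul_zero]
    · simp only [Subtype.mk.injEq] at h
      exact Subtype.ext (Subtype.ext h)
  have cS : Nat.card S * Nat.card F ^ 2 = (Nat.card F - 1) * Nat.card V := by
    have hr0 : r ≠ 0 := by simpa using hind.ne_zero 0
    have h3 : Nat.card {w : V // polarBilin Q r w = γ} * Nat.card F = Nat.card V :=
      card_one_fibre (fun h0 => hr0 (eq_zero_of_b hQ fun y => by simpa using LinearMap.congr_fun h0 y)) γ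
    have h5 : Nat.card {w : V // polarBilin Q r w = γ ∧ polarBilin Q u w = 0} * Nat.card F ^ 2 = Nat.card V :=
      card_two_fibre (polarBilin_indep hQ hind) γ 0
    have h4 : Nat.card S + Nat.card {w : V // polarBilin Q r w = γ ∧ polarBilin Q u w = 0} =
        Nat.card {w : V // polarBilin Q r w = γ} := by
      exact card_split (α := V) _ fun w => polarBilin Q u w = 0
    have hq : 1 ≤ Nat.card F := Nat.card_pos
    zify [hq] at h3 h4 h5 ⊢
    linear_combination ((Nat.card F : ℤ) ^ 2) * h4 - h5 + (Nat.card F : ℤ) * h3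
  rw [← h1] at cS
  calc (Nat.card F - 1) * Nat.card V = Nat.card {w : S // Q (w : V) = β} * Nat.card F ^ 3 := by rw [← cS]; ring
    _ ≤ _ := Nat.mul_le_mul_right _ hle

/-- A totally singular subspace is no larger than the number of hyperbolic planes. -/
theorem sing_dim_le : ∀ (m : ℕ) {V : Type*} [AddCommGroup V] [Module F V] [FiniteDimensional F V]
    {Q : QuadraticForm F V}, (polarBilin Q).Nondegenerate → ∀ {c : ℕ}, HasType Q c m →
      ∀ W : Submodule F V, (∀ w ∈ W, Q w = 0) → finrank F W ≤ m
  | 0, V, _, _, _, Q, hQ, c, h, W, hW => by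
    haveI : Finite V := Module.finite_of_finite F
    have hbot : W = ⊥ := by
      refine (Submodule.eq_bot_iff W).2 fun w hw => ?_
      haveI := (Nat.card_eq_one_iff_unique.1 h.2).1
      exact congrArg Subtype.val (Subsingleton.elim (⟨w, hW w hw⟩ : {v // Q v = 0}) ⟨0, map_zero Q⟩)
    rw [hbot, finrank_bot]
  | m + 1, V, _, _, _, Q, hQ, c, h, W, hW => by
    rcases eq_or_ne W ⊥ with rfl | hne
    · simp
    obtain ⟨e, he, he0⟩ := Submodule.exists_mem_ne_zero_of_ne_bot hne
    obtain ⟨d, hd, hd0⟩ := exists_partner hQ he0 (hW e he)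
    have p : IsPair Q e d := ⟨hW e he, hd0, hd⟩
    have hW' := sing_dim_le m (pperp_nondeg hQ p) (h.restrict p) (W.comap (pperp Q e d).subtype)
      (fun w hw => hW _ hw)
    have hle : W ⊓ perp Q (Submodule.span F {d}) ≤ pperp Q e d := fun w hw => mem_pperp.2
      ⟨b_eq_zero_of_singular hW he hw.1, hw.2 d (Submodule.mem_span_singleton_self d)⟩
    have h2 : finrank F (W ⊓ perp Q (Submodule.span F {d}) : Submodule F V) ≤
        finrank F (W.comap (pperp Q e d).subtype) := by
      rw [← (Submodule.comapSubtypeEquivOfLe hle).finrank_eq]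
      exact Submodule.finrank_mono (Submodule.comap_mono inf_le_left)
    have h3 := finrank_perp_eq hQ (Submodule.span F {d})
    have h4 := Submodule.finrank_sup_add_finrank_inf_eq W (perp Q (Submodule.span F {d}))
    have h5 := Submodule.finrank_le (W ⊔ perp Q (Submodule.span F {d}))
    rw [finrank_span_singleton p.symm.ne] at h3
    omega

end Cfsg.Agent.OrthMin
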