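/-
Duality of additive subgroups, invariant subgroups, and additive subgroups with few Gram classes.
-/
import Cfsg.Agent.Lib.OrthMinIndex.Counts
import Mathlib.LinearAlgebra.Dual.Lemmas

set_option autoImplicit false

namespace Cfsg.Agent.OrthMin

open QuadraticMap Module Cfsg.Agent.Orth Cfsg.Agent.OrthDeg

variable {F V : Type*} [Field F] [AddCommGroup V] [Module F V] {Q : QuadraticForm F V}

/-- A non-zero additive map to the prime field. -/
noncomputable def psiP (F : Type*) [Field F] : F →+ ZMod (ringChar F) :=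
  Classical.epsilon fun φ => φ ≠ 0

theorem exists_psiP_ne [Finite F] : ∃ t : F, psiP F t ≠ 0 := by
  haveI : Fact (ringChar F).Prime := ⟨CharP.char_is_prime F _⟩
  letI : Module (ZMod (ringChar F)) F := (ZMod.algebra F (ringChar F)).toModule
  have hne : psiP F ≠ 0 := by
    refine Classical.epsilon_spec (p := fun φ : F →+ ZMod (ringChar F) => φ ≠ 0) ?_
    obtain ⟨φ, hφ⟩ := Submodule.exists_le_ker_of_lt_top (⊥ : Submodule (ZMod (ringChar F)) F) bot_lt_top
    exact ⟨φ.toAddMonoidHom, fun h => hφ.1 (LinearMap.ext fun a => DFunLike.congr_fun h a)⟩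
  by_contra h
  push Not at h
  exact hne (AddMonoidHom.ext h)

/-- The vectors whose products with K lie in the kernel of psi. -/
noncomputable def dualK (Q : QuadraticForm F V) (K : AddSubgroup V) : AddSubgroup V where
  carrier := {r | ∀ v ∈ K, psiP F (polar Q r v) = 0}
  zero_mem' v _ := by rw [b_zero_left, map_zero]
  add_mem' {a b} ha hb v hv := by rw [b_add_left, map_add, ha v hv, hb v hv, add_zero]
  neg_mem' {a} ha v hv := by rw [← neg_one_smul F a, b_smul_left, neg_one_mul, map_neg, ha v hv, neg_zero]

theorem mem_dualK {K : AddSubgroup V} {r : V} : r ∈ dualK Q K ↔ ∀ v ∈ K, psiP F (polar Q r v) = 0 := Iff.rfl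

variable [Finite F] [FiniteDimensional F V]

theorem card_dualK (hQ : (polarBilin Q).Nondegenerate) (K : AddSubgroup V) :
    Nat.card (dualK Q K) * Nat.card K = Nat.card V := by
  haveI : Fact (ringChar F).Prime := ⟨CharP.char_is_prime F _⟩
  haveI : Finite V := Module.finite_of_finite F
  letI : Algebra (ZMod (ringChar F)) F := ZMod.algebra F (ringChar F)
  letI : Module (ZMod (ringChar F)) V := Module.compHom V (algebraMap (ZMod (ringChar F)) F)
  let Ks : Submodule (ZMod (ringChar F)) V := AddSubgroup.toZModSubmodule _ K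
  let B : V →ₗ[ZMod (ringChar F)] Module.Dual (ZMod (ringChar F)) V :=
    AddMonoidHom.toZModLinearMap (ringChar F)
      (AddMonoidHom.mk' (fun r => AddMonoidHom.toZModLinearMap (ringChar F)
          (AddMonoidHom.mk' (fun v => psiP F (polar Q r v)) fun a b => by rw [b_add_right, map_add]))
        fun a b => LinearMap.ext fun v => by
          show psiP F (polar Q (a + b) v) = psiP F (polar Q a v) + psiP F (polar Q b v)
          rw [b_add_left, map_add])
  have hB : Function.Injective B := by
    rw [injective_iff_map_eq_zero]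
    intro r hr
    refine eq_zero_of_b hQ fun v => ?_
    by_contra hv
    obtain ⟨t, ht⟩ := exists_psiP_ne (F := F)
    have := LinearMap.congr_fun hr ((t / polar Q r v) • v)
    change psiP F (polar Q r _) = 0 at this
    rw [b_smul_right, div_mul_cancel₀ _ hv] at this
    exact ht this
  have hBs : Function.Surjective B :=
    (LinearMap.injective_iff_surjective_of_finrank_eq_finrank Subspace.dual_finrank_eq.symm).1 hB
  have hR : Function.Surjective (Ks.dualRestrict.comp B) := (Subspace.dualRestrict_surjective).comp hBs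
  have h := AddSubgroup.card_eq_card_quotient_mul_card_addSubgroup
    (LinearMap.ker (Ks.dualRestrict.comp B)).toAddSubgroup
  rw [show Nat.card (V ⧸ (LinearMap.ker (Ks.dualRestrict.comp B)).toAddSubgroup) = Nat.card K from
    (Nat.card_congr (LinearMap.quotKerEquivOfSurjective _ hR).toEquiv).trans
      (by rw [Module.natCard_eq_pow_finrank (K := ZMod (ringChar F)), Subspace.dual_finrank_eq,
        ← Module.natCard_eq_pow_finrank (K := ZMod (ringChar F))]; rfl)] at h
  rw [h, mul_comm]
  congr 1
  refine Nat.card_congr (Equiv.setCongr (Set.ext fun r => ?_))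
  simp only [SetLike.mem_coe, Submodule.mem_toAddSubgroup, LinearMap.mem_ker, LinearMap.ext_iff]
  exact ⟨fun h v => h v.1 v.2, fun h v hv => h ⟨v, hv⟩⟩

/-- A vector orthogonal to the dual of K inside a subspace W. -/
theorem perp_span_dualK_le (hQ : (polarBilin Q).Nondegenerate) (K : AddSubgroup V) :
    (perp Q (Submodule.span F (dualK Q K : Set V))).toAddSubgroup ≤ K := by
  haveI : Finite V := Module.finite_of_finite F
  intro v hv
  have hle : K ≤ dualK Q (dualK Q K) := fun w hw r hr => by rw [b_comm]; exact hr w hw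
  have hc := card_dualK hQ K
  rw [← card_dualK hQ (dualK Q K), mul_comm] at hc
  have he : K = dualK Q (dualK Q K) := by
    refine AddSubgroup.eq_of_le_of_card_ge hle ?_
    exact (Nat.eq_of_mul_eq_mul_right Nat.card_pos hc).ge
  rw [he]
  intro r hr
  rw [b_comm, mem_perp.1 hv r (Submodule.subset_span hr), map_zero]

omit [Finite F] in
/-- Some singular vector is not orthogonal to y. -/
theorem exists_sing_not_perp [Finite F] (hQ : (polarBilin Q).Nondegenerate) (hd : 3 ≤ finrank F V) {y : V}
    (hy : y ≠ 0) : ∃ u, Q u = 0 ∧ polar Q y u ≠ 0 := by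
  obtain ⟨e, he0, he⟩ := exists_singular hQ hd
  obtain ⟨d, hd, hd0⟩ := exists_partner hQ he0 he
  have p : IsPair Q e d := ⟨he, hd0, hd⟩
  by_contra h
  push Not at h
  refine hy (eq_zero_of_b hQ fun z => ?_)
  have hw := pperp_part p z
  obtain ⟨hwe, hwd⟩ := mem_pperp.1 hw
  set w := z - polar Q z d • e - polar Q z e • d with hwdef
  have h1 := h (e + (-Q w) • d + w) (by
    rw [q_add, q_add, q_smul, b_smul_right, b_add_left, b_smul_left, hwe, hwd, he, hd0, hd]; ring)
  rw [b_add_right, b_add_right, b_smul_right, h e he, h d hd0, zero_add, mul_zero, zero_add] at h1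
  rw [show z = w + (polar Q z d • e + polar Q z e • d) by rw [hwdef]; abel, b_add_right, b_add_right, b_smul_right,
    b_smul_right, h e he, h d hd0, h1]
  simp

/-- An additive subgroup invariant under Omega is trivial or everything. -/
theorem invariant_bot_or_top [Fintype F] (hG : Good Q) (K : AddSubgroup V)
    (hK : ∀ g : omg Q, ∀ y ∈ K, app g y ∈ K) : K = ⊥ ∨ K = ⊤ := by
  rw [or_iff_not_imp_left]
  intro hne
  obtain ⟨y, hyK, hy⟩ : ∃ y ∈ K, y ≠ 0 := by
    by_contra h
    push Not at h
    exact hne ((AddSubgroup.eq_bot_iff_forall K).2 h)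
  obtain ⟨u, hu, hyu⟩ := exists_sing_not_perp hG.nd (by have := hG.dim; omega) hy
  -- the whole hyperplane of such a vector lies in K
  have key : ∀ {y u : V}, y ∈ K → Q u = 0 → polar Q y u ≠ 0 → ∀ z, polar Q u z = 0 → z ∈ K := by
    intro y u hyK hu hyu z hz
    have hu0 : u ≠ 0 := fun h => hyu (by rw [h, b_zero_right])
    have hD : ∀ z, polar Q u z = 0 → polar Q y u • z - (polar Q y z + Q z * polar Q y u) • u ∈ K := fun z hz => by
      have h := K.sub_mem (hK (tr Q u z) y hyK) hyK
      rw [tr_apply hG hu hz] at h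
      convert h using 1
      abel
    obtain ⟨d, hd, hd0⟩ := exists_partner hG.nd hu0 hu
    have p : IsPair Q u d := ⟨hu, hd0, hd⟩
    obtain ⟨f, g, pfg⟩ : ∃ f g, IsPair (restr Q (pperp Q u d)) f g := by
      obtain ⟨e', he0, he⟩ := exists_singular (pperp_nondeg hG.nd p)
        (by have := finrank_pperp p; have := hG.dim; omega)
      obtain ⟨d', h1, h2⟩ := exists_partner (pperp_nondeg hG.nd p) he0 he
      exact ⟨e', d', he, h2, h1⟩
    have hfu : polar Q u (f : V) = 0 := (mem_pperp.1 f.2).1
    have hgu : polar Q u (g : V) = 0 := (mem_pperp.1 g.2).1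
    have hfg : polar Q (f : V) (g : V) = 1 := pfg.ed
    have hFu : ∀ c : F, c • u ∈ K := fun c => by
      obtain ⟨e, he⟩ : ∃ e : F, e * polar Q y u = -c := ⟨-c / polar Q y u, div_mul_cancel₀ _ hyu⟩
      have h1 := hD ((e • (f : V)) + g) (by rw [b_add_right, b_smul_right, hfu, hgu]; ring)
      have h2 := K.add_mem (hD (e • (f : V)) (by rw [b_smul_right, hfu]; ring)) (hD g hgu)
      have h3 := K.sub_mem h1 h2
      rw [q_add, q_smul, b_smul_left, hfg, b_add_right, b_smul_right] at h3
      convert h3 using 1
      match_scalars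
      · linear_combination he
      all_goals ring
    obtain ⟨w, hw, hwz⟩ : ∃ w, polar Q u w = 0 ∧ polar Q y u • w = z :=
      ⟨(polar Q y u)⁻¹ • z, by rw [b_smul_right, hz, mul_zero], by rw [smul_smul, mul_inv_cancel₀ hyu, one_smul]⟩
    have := K.add_mem (hD w hw) (hFu (polar Q y w + Q w * polar Q y u))
    rwa [sub_add_cancel, hwz] at this
  have hu0 : u ≠ 0 := fun h => hyu (by rw [h, b_zero_right])
  obtain ⟨u', hu'1, hu'⟩ := exists_partner hG.nd hu0 hu
  have hu1 := key hyK hu hyu
  have hu2 := key (hu1 u (by rw [b_self, hu, mul_zero])) hu' (by rw [hu'1]; exact one_ne_zero)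
  refine eq_top_iff.2 fun z _ => ?_
  rw [show z = (z - polar Q u z • u') + polar Q u z • u' by abel]
  exact K.add_mem (hu1 _ (by rw [b_sub_right, b_smul_right, hu'1, mul_one, sub_self]))
    (hu2 _ (by rw [b_smul_right, b_self, hu', mul_zero, mul_zero]))

/-! ### Few classes of pairs -/

/-- The invariants of a pair. -/
def gram (Q : QuadraticForm F V) (p : V × V) : F × F × F := (Q p.1, Q p.2, polar Q p.1 p.2)

omit [Finite F] [FiniteDimensional F V] in
theorem indep_add {r s : V} (h : LinearIndependent F ![r, s]) (t : F) :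
    LinearIndependent F ![r, s + t • r] := by
  refine LinearIndependent.pair_iff.2 fun a b hab => ?_
  rw [smul_add, smul_smul] at hab
  obtain ⟨h1, h2⟩ := LinearIndependent.pair_iff.1 h (a + b * t) b (by rw [← hab]; module)
  rw [h2, zero_mul, add_zero] at h1
  exact ⟨h1, h2⟩

omit [Finite F] [FiniteDimensional F V] in
theorem indep_symm {r s : V} (h : LinearIndependent F ![r, s]) : LinearIndependent F ![s, r] :=
  LinearIndependent.pair_iff.2 fun a b hab =>
    (LinearIndependent.pair_iff.1 h b a (by rw [← hab, add_comm])).symm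

omit [Finite F] [FiniteDimensional F V] in
/-- If there are no three classes of independent pairs, the pairs are totally singular or there are four vectors. -/
theorem few_classes {A : AddSubgroup V}
    (h3 : ∀ p₁ p₂ p₃ : V × V, (∀ p ∈ [p₁, p₂, p₃], p.1 ∈ A ∧ p.2 ∈ A ∧ LinearIndependent F ![p.1, p.2]) →
      gram Q p₁ = gram Q p₂ ∨ gram Q p₁ = gram Q p₃ ∨ gram Q p₂ = gram Q p₃) :
    (∀ r s, r ∈ A → s ∈ A → LinearIndependent F ![r, s] → gram Q (r, s) = (0, 0, 0)) ∨ Nat.card A ≤ 4 := by
  have ok : ∀ {r s : V}, r ∈ A → s ∈ A → LinearIndependent F ![r, s] →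
      ∀ p ∈ [(r, s)], p.1 ∈ A ∧ p.2 ∈ A ∧ LinearIndependent F ![p.1, p.2] := by
    intro r s hr hs h p hp; rw [List.mem_singleton] at hp; subst hp; exact ⟨hr, hs, h⟩
  have pick : ∀ {a b c : V × V}, (a.1 ∈ A ∧ a.2 ∈ A ∧ LinearIndependent F ![a.1, a.2]) →
      (b.1 ∈ A ∧ b.2 ∈ A ∧ LinearIndependent F ![b.1, b.2]) →
      (c.1 ∈ A ∧ c.2 ∈ A ∧ LinearIndependent F ![c.1, c.2]) →
      gram Q a ≠ gram Q b → gram Q c = gram Q a ∨ gram Q c = gram Q b := by
    intro a b c ha hb hc hne
    rcases h3 a b c (by simp only [List.mem_cons, List.not_mem_nil, or_false]; rintro p (rfl | rfl | rfl) <;>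
      assumption) with h | h | h
    · exact absurd h hne
    · exact Or.inl h.symm
    · exact Or.inr h.symm
  rcases ne_or_eq (2 : F) 0 with h2 | h2
  · left
    have hB : ∀ r s, r ∈ A → s ∈ A → LinearIndependent F ![r, s] → polar Q r s = 0 := by
      intro r s hr hs h
      by_contra hB
      have h' : LinearIndependent F ![-r, s] := by
        refine LinearIndependent.pair_iff.2 fun a b hab => ?_
        obtain ⟨h1, h2⟩ := LinearIndependent.pair_iff.1 h (-a) b (by rw [← hab]; module)
        exact ⟨neg_eq_zero.1 h1, h2⟩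
      have hne : gram Q (r, s) ≠ gram Q (-r, s) := fun e => by
        have e' := congrArg (fun t : F × F × F => t.2.2) e
        simp only [gram] at e'
        rw [← neg_one_smul F r, b_smul_left] at e'
        exact hB (by
          have : 2 * polar Q r s = 0 := by linear_combination e'
          exact (mul_eq_zero.1 this).resolve_left h2)
      have hq : Q (-r) = Q r := QuadraticMap.map_neg Q r
      have e1 := pick (a := (r, s)) (b := (-r, s)) (c := (r, s + (1 : F) • r)) ⟨hr, hs, h⟩ ⟨A.neg_mem hr, hs, h'⟩
        ⟨hr, by rw [one_smul]; exact A.add_mem hs hr, indep_add h 1⟩ hne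
      have e2 := pick (a := (r, s)) (b := (-r, s)) (c := (r, s + (-1 : F) • r)) ⟨hr, hs, h⟩ ⟨A.neg_mem hr, hs, h'⟩
        ⟨hr, by rw [neg_one_smul]; exact A.add_mem hs (A.neg_mem hr), indep_add h _⟩ hne
      have f1 : Q (s + (1 : F) • r) = Q s := by
        rcases e1 with e | e <;> exact congrArg (fun t : F × F × F => t.2.1) e
      have f2 : Q (s + (-1 : F) • r) = Q s := by
        rcases e2 with e | e <;> exact congrArg (fun t : F × F × F => t.2.1) e
      rw [q_add, q_smul, b_smul_right, b_comm s r] at f1 f2
      refine hB ((mul_eq_zero.1 (show 2 * polar Q r s = 0 by linear_combination f1 - f2)).resolve_left h2)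
    intro r s hr hs h
    have h1 := hB r (s + (1 : F) • r) hr (by rw [one_smul]; exact A.add_mem hs hr) (indep_add h 1)
    have h1' := hB s (r + (1 : F) • s) hs (by rw [one_smul]; exact A.add_mem hr hs) (indep_add (indep_symm h) 1)
    rw [b_add_right, b_smul_right, b_self, hB r s hr hs h, one_mul, zero_add] at h1
    rw [b_add_right, b_smul_right, b_self, hB s r hs hr (indep_symm h), one_mul, zero_add] at h1'
    simp only [gram, hB r s hr hs h, (mul_eq_zero.1 h1).resolve_left h2, (mul_eq_zero.1 h1').resolve_left h2]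
  · have hall : ∀ r s, r ∈ A → s ∈ A → LinearIndependent F ![r, s] → Q r = Q s ∧ polar Q r s = Q r := by
      have heq : ∀ r s, r ∈ A → s ∈ A → LinearIndependent F ![r, s] → Q r = Q s := by
        intro r s hr hs h
        by_contra hne
        have hne' : gram Q (r, s) ≠ gram Q (s, r) := fun e => hne (congrArg Prod.fst e)
        have e1 := pick (a := (r, s)) (b := (s, r)) (c := (r, s + (1 : F) • r)) ⟨hr, hs, h⟩
          ⟨hs, hr, indep_symm h⟩ ⟨hr, by rw [one_smul]; exact A.add_mem hs hr, indep_add h 1⟩ hne'
        have e2 := pick (a := (r, s)) (b := (s, r)) (c := (s, r + (1 : F) • s)) ⟨hr, hs, h⟩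
          ⟨hs, hr, indep_symm h⟩ ⟨hs, by rw [one_smul]; exact A.add_mem hr hs, indep_add (indep_symm h) 1⟩ hne'
        have f1 := e1.resolve_right fun e => hne (congrArg Prod.fst e)
        have f2 := e2.resolve_left fun e => hne (congrArg Prod.fst e).symm
        have g1 : Q (s + (1 : F) • r) = Q s := congrArg (fun t : F × F × F => t.2.1) f1
        have g2 : Q (r + (1 : F) • s) = Q r := congrArg (fun t : F × F × F => t.2.1) f2
        rw [q_add, q_smul, b_smul_right, b_comm s r] at g1
        rw [q_add, q_smul, b_smul_right] at g2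
        exact hne (by linear_combination g1 - g2)
      intro r s hr hs h
      refine ⟨heq r s hr hs h, ?_⟩
      have g := heq r (s + (1 : F) • r) hr (by rw [one_smul]; exact A.add_mem hs hr) (indep_add h 1)
      rw [q_add, q_smul, b_smul_right, b_comm s r, ← heq r s hr hs h] at g
      linear_combination -g - (Q r) * h2
    by_cases hc : ∀ r s, r ∈ A → s ∈ A → LinearIndependent F ![r, s] → Q r = 0
    · exact Or.inl fun r s hr hs h => by
        obtain ⟨e1, e2⟩ := hall r s hr hs h
        simp [gram, hc r s hr hs h, ← e1, e2]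
    push Not at hc
    obtain ⟨r, s, hr, hs, h, hc⟩ := hc
    right
    have hr0 : r ≠ 0 := by simpa using h.ne_zero 0
    have hmul : ∀ w ∈ A, w ∈ Submodule.span F {r} → w = 0 ∨ w = r := by
      intro w hw hwr
      obtain ⟨t, rfl⟩ := Submodule.mem_span_singleton.1 hwr
      rcases eq_or_ne t 0 with rfl | ht
      · exact Or.inl (zero_smul F r)
      have h' : LinearIndependent F ![t • r, s] := LinearIndependent.pair_iff.2 fun a b hab => by
        obtain ⟨h1, h2⟩ := LinearIndependent.pair_iff.1 h (a * t) b (by rw [← hab, mul_smul])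
        exact ⟨(mul_eq_zero.1 h1).resolve_right ht, h2⟩
      have e := (hall _ _ hw hs h').1
      rw [q_smul, ← (hall r s hr hs h).1] at e
      have ht2 : t * t = 1 := mul_right_cancel₀ hc (e.trans (one_mul (Q r)).symm)
      have ht1 : (t - 1) * (t - 1) = 0 := by linear_combination ht2 - (t - 1) * h2
      exact Or.inr (by rw [sub_eq_zero.1 (mul_self_eq_zero.1 ht1), one_smul])
    have hnot : ∀ w, w ∉ Submodule.span F {r} → LinearIndependent F ![r, w] := fun w hw =>
      (LinearIndependent.pair_iff' hr0).2 fun t ht => hw (Submodule.mem_span_singleton.2 ⟨t, ht⟩)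
    have hsum : ∀ w ∈ A, w ∉ Submodule.span F {r} → ∀ w' ∈ A, w' ∉ Submodule.span F {r} →
        w + w' = 0 ∨ w + w' = r := by
      intro w hw hwr w' hw' hwr'
      refine hmul _ (A.add_mem hw hw') (by_contra fun hn => hc ?_)
      have e := (hall r _ hr (A.add_mem hw hw') (hnot _ hn)).2
      rw [b_add_right, (hall r w hr hw (hnot w hwr)).2, (hall r w' hr hw' (hnot w' hwr')).2] at e
      linear_combination e
    have hsr : s ∉ Submodule.span F {r} := fun hm => by
      obtain ⟨t, ht⟩ := Submodule.mem_span_singleton.1 hm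
      exact (LinearIndependent.pair_iff' hr0).1 h t ht
    classical
    have hsub : (A : Set V) ⊆ ↑({0, r, -s, r - s} : Finset V) := fun w hw => by
      simp only [Finset.coe_insert, Finset.coe_singleton, Set.mem_insert_iff, Set.mem_singleton_iff]
      by_cases hwr : w ∈ Submodule.span F {r}
      · rcases hmul w hw hwr with e | e <;> simp [e]
      · rcases hsum w hw hwr s hs hsr with e | e
        · right; right; left; rw [eq_neg_iff_add_eq_zero, e]
        · right; right; right; rw [← e, add_sub_cancel_right]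
    calc Nat.card A ≤ Nat.card (↑({0, r, -s, r - s} : Finset V) : Set V) :=
          Nat.card_mono (Finset.finite_toSet _) hsub
      _ ≤ 4 := by rw [Nat.card_coe_set_eq, Set.ncard_coe_finset]; exact Finset.card_le_four

omit [Finite F] [FiniteDimensional F V] in
/-- In odd characteristic two equal classes are enough. -/
theorem one_class {A : AddSubgroup V} (h2 : (2 : F) ≠ 0)
    (h1 : ∀ r s r' s', r ∈ A → s ∈ A → LinearIndependent F ![r, s] → r' ∈ A → s' ∈ A →
      LinearIndependent F ![r', s'] → gram Q (r, s) ≠ (0, 0, 0) → gram Q (r', s') ≠ (0, 0, 0) →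
      gram Q (r, s) = gram Q (r', s')) :
    ∀ r s, r ∈ A → s ∈ A → LinearIndependent F ![r, s] → gram Q (r, s) = (0, 0, 0) := by
  intro r s hr hs h
  by_contra hne
  have hm : r ∈ A ∧ s + (1 : F) • r ∈ A := ⟨hr, by rw [one_smul]; exact A.add_mem hs hr⟩
  have hq : Q (s + (1 : F) • r) = Q s + Q r + polar Q r s := by
    rw [q_add, q_smul, b_smul_right, b_comm s r]; ring
  have hb : polar Q r (s + (1 : F) • r) = polar Q r s + 2 * Q r := by rw [b_add_right, b_smul_right, b_self]; ring
  have hsr : gram Q (s, r) ≠ (0, 0, 0) := fun e => hne (by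
    simp only [gram, Prod.mk.injEq] at e ⊢
    exact ⟨e.2.1, e.1, by rw [b_comm]; exact e.2.2⟩)
  have e0 := h1 r s s r hr hs h hs hr (indep_symm h) hne hsr
  have hαβ : Q r = Q s := congrArg Prod.fst e0
  by_cases h0 : gram Q (r, s + (1 : F) • r) = (0, 0, 0)
  · simp only [gram, hq, hb, Prod.mk.injEq] at h0
    refine hne ?_
    have hB : polar Q r s = 0 := by linear_combination h0.2.2 - 2 * h0.1
    simp only [gram, h0.1, ← hαβ, hB]
  · have e1 := h1 r s r (s + (1 : F) • r) hr hs h hm.1 hm.2 (indep_add h 1) hne h0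
    simp only [gram, hq, hb, Prod.mk.injEq] at e1
    have hr0 : Q r = 0 := (mul_eq_zero.1 (show 2 * Q r = 0 by linear_combination -e1.2.2)).resolve_left h2
    refine hne ?_
    simp only [gram, hr0, ← hαβ, show polar Q r s = 0 by linear_combination -e1.2.1 - hr0]

omit [Finite F] [FiniteDimensional F V] in
/-- An additive subgroup whose independent pairs are totally singular spans a totally singular subspace. -/
theorem span_sing {A : AddSubgroup V}
    (h : ∀ r s, r ∈ A → s ∈ A → LinearIndependent F ![r, s] → gram Q (r, s) = (0, 0, 0))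
    {r s : V} (hr : r ∈ A) (hs : s ∈ A) (hrs : LinearIndependent F ![r, s]) :
    ∀ w ∈ Submodule.span F (A : Set V), Q w = 0 := by
  have hr0 : r ≠ 0 := by simpa using hrs.ne_zero 0
  have hQr : Q r = 0 := congrArg Prod.fst (h r s hr hs hrs)
  have hq : ∀ a ∈ A, Q a = 0 := fun a ha => by
    by_cases hi : LinearIndependent F ![r, a]
    · exact congrArg (fun t : F × F × F => t.2.1) (h r a hr ha hi)
    · rw [LinearIndependent.pair_iff' hr0] at hi
      push Not at hi
      obtain ⟨t, rfl⟩ := hi
      rw [q_smul, hQr, mul_zero]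
  have hb : ∀ a ∈ A, ∀ b ∈ A, polar Q a b = 0 := fun a ha b hb => by
    rw [polar, hq _ (A.add_mem ha hb), hq a ha, hq b hb, sub_zero, sub_zero]
  intro w hw
  have hb' : ∀ w ∈ Submodule.span F (A : Set V), ∀ a ∈ A, polar Q w a = 0 := fun w hw a ha => by
    induction hw using Submodule.span_induction with
    | mem x hx => exact hb x hx a ha
    | zero => exact b_zero_left a
    | add x y _ _ hx hy => rw [b_add_left, hx, hy, add_zero]
    | smul c x _ hx => rw [b_smul_left, hx, mul_zero]
  have hb2 : ∀ x ∈ Submodule.span F (A : Set V), ∀ y ∈ Submodule.span F (A : Set V), polar Q x y = 0 :=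
    fun x hx y hy => by
    induction hy using Submodule.span_induction with
    | mem z hz => exact hb' x hx z hz
    | zero => exact b_zero_right x
    | add a b _ _ iha ihb => rw [b_add_right, iha, ihb, add_zero]
    | smul c a _ iha => rw [b_smul_right, iha, mul_zero]
  induction hw using Submodule.span_induction with
  | mem x hx => exact hq x hx
  | zero => exact map_zero Q
  | add x y hx hy ihx ihy => rw [q_add, ihx, ihy, hb2 x hx y hy]; simp
  | smul c x _ ihx => rw [q_smul, ihx, mul_zero]

end Cfsg.Agent.OrthMin
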