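/-
A subgroup of Omega at a singular point: the root part, its dual, its normaliser, and the covering inequality.
-/
import Cfsg.Agent.Lib.OrthMinIndex.Dual
import Cfsg.Agent.Lib.OrthDeg.Geometry
import Mathlib.GroupTheory.Index

set_option autoImplicit false

namespace Cfsg.Agent.OrthMin

open QuadraticMap Module Cfsg.Agent.Orth Cfsg.Agent.OrthDeg

variable {F V : Type*} [Field F] [AddCommGroup V] [Module F V] {Q : QuadraticForm F V}

/-- The stabiliser of a line. -/
def lineStab (Q : QuadraticForm F V) (e : V) : Subgroup (omg Q) where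
  carrier := {g | ∃ s : F, s ≠ 0 ∧ app g e = s • e}
  one_mem' := ⟨1, one_ne_zero, by rw [app_one, one_smul]⟩
  mul_mem' := fun {a b} ⟨s, hs, ha⟩ ⟨t, ht, hb⟩ => ⟨t * s, mul_ne_zero ht hs, by
    rw [app_mul, hb, app, map_smul]; rw [show a.1.1 e = s • e from ha, smul_smul]⟩
  inv_mem' := fun {a} ⟨s, hs, ha⟩ => ⟨s⁻¹, inv_ne_zero hs, by
    have h := congrArg (app a⁻¹) ha
    rw [app_inv_app, app, map_smul] at h
    show a⁻¹.1.1 e = _
    rw [eq_inv_smul_iff₀ hs]
    exact h.symm⟩

theorem mem_lineStab {e : V} {g : omg Q} : g ∈ lineStab Q e ↔ ∃ s : F, s ≠ 0 ∧ app g e = s • e := Iff.rfl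

/-- The stabiliser of two vectors. -/
def pairStab (Q : QuadraticForm F V) (e f : V) : Subgroup (omg Q) where
  carrier := {g | app g e = e ∧ app g f = f}
  one_mem' := ⟨app_one e, app_one f⟩
  mul_mem' := fun ha hb => ⟨by rw [app_mul, hb.1, ha.1], by rw [app_mul, hb.2, ha.2]⟩
  inv_mem' := fun {a} ha => ⟨by conv_lhs => rw [← ha.1, app_inv_app], by conv_lhs => rw [← ha.2, app_inv_app]⟩

theorem pairStab_le (e f : V) : pairStab Q e f ≤ lineStab Q e :=
  fun _ h => ⟨1, one_ne_zero, h.1.trans (one_smul F e).symm⟩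

theorem pairStab_pperp [FiniteDimensional F V] {e f : V} {g : omg Q} (hg : g ∈ pairStab Q e f) {y : V} (hy : y ∈ pperp Q e f) :
    app g y ∈ pperp Q e f := app_pperp g.1 hg.1 hg.2 hy

/-! ### Covering -/

/-- A set covered by the translates of a part stable under a subgroup. -/
theorem cover_le {G : Type*} [Group G] [Finite G] {X : Type*} [Finite X] (M J : Subgroup G)
    (act : G → X → X) (hmul : ∀ g h x, act (g * h) x = act g (act h x)) (A C : Set X)
    (hA : ∀ g ∈ J, g ∈ M → ∀ x ∈ A, act g x ∈ A) (hC : ∀ c ∈ C, ∃ g ∈ M, ∃ a ∈ A, act g a = c) :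
    Nat.card C ≤ J.relIndex M * Nat.card A := by
  choose g hg a ha hga using hC
  let q : ∀ c : C, ↥M ⧸ J.subgroupOf M := fun c => QuotientGroup.mk ⟨g c.1 c.2, hg c.1 c.2⟩
  have hmem : ∀ c : C, (q c).out⁻¹ * ⟨g c.1 c.2, hg c.1 c.2⟩ ∈ J.subgroupOf M := fun c =>
    QuotientGroup.eq.1 (QuotientGroup.out_eq' (q c))
  let φ : C → (↥M ⧸ J.subgroupOf M) × A := fun c =>
    (q c, ⟨act ((q c).out⁻¹ * ⟨g c.1 c.2, hg c.1 c.2⟩ : ↥M) (a c.1 c.2),
      hA _ (Subgroup.mem_subgroupOf.1 (hmem c)) (Subtype.mem _) _ (ha c.1 c.2)⟩)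
  have hφ : ∀ c : C, act ((φ c).1.out : ↥M) (φ c).2 = c.1 := fun c => by
    show act _ (act _ _) = _
    rw [← hmul, ← Subgroup.coe_mul, mul_inv_cancel_left]
    exact hga c.1 c.2
  have hinj : Function.Injective φ := fun c c' h => Subtype.ext ((hφ c).symm.trans (h ▸ hφ c'))
  refine (Nat.card_le_card_of_injective φ hinj).trans (le_of_eq ?_)
  rw [Nat.card_prod]
  rfl

variable [FiniteDimensional F V] [Fintype F]

theorem finite_omega : Finite (omg Q) := by
  haveI : Finite V := Module.finite_of_finite F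
  exact Finite.of_injective (fun g : omg Q => (app g : V → V)) fun g h hgh => omg_ext (congrFun hgh)

section Root

variable {e f : V}

/-- The root elements at e. -/
noncomputable def rootHom (hG : Good Q) (p : IsPair Q e f) : Multiplicative (pperp Q e f) →* omg Q :=
  MonoidHom.mk' (fun y => tr Q e (y.toAdd : V)) fun a b => by
    rw [toAdd_mul, Submodule.coe_add, tr_add hG p.qe (mem_pperp.1 a.toAdd.2).1 (mem_pperp.1 b.toAdd.2).1]

/-- The group of root elements at e. -/
noncomputable abbrev rootSub (hG : Good Q) (p : IsPair Q e f) : Subgroup (omg Q) := (rootHom hG p).range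

/-- Root elements do not depend on the component along e. -/
theorem tr_shift (hG : Good Q) (hu : Q e = 0) {y : V} (hy : polar Q e y = 0) (c : F) :
    tr Q e (y + c • e) = tr Q e y := by
  rw [tr_add hG hu hy (by rw [b_smul_right, b_self, hu, mul_zero, mul_zero]), tr_self hG hu, mul_one]

theorem perp_part_mem (p : IsPair Q e f) {y : V} (hy : polar Q e y = 0) : y - polar Q y f • e ∈ pperp Q e f := by
  have h := pperp_part p y
  rwa [b_comm y e, hy, zero_smul, sub_zero] at h

theorem tr_mem_root (hG : Good Q) (p : IsPair Q e f) {y : V} (hy : polar Q e y = 0) : tr Q e y ∈ rootSub hG p := by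
  refine ⟨Multiplicative.ofAdd ⟨_, perp_part_mem p hy⟩, ?_⟩
  show tr Q e (y - polar Q y f • e) = _
  conv_rhs => rw [← sub_add_cancel y (polar Q y f • e)]
  exact (tr_shift hG p.qe (mem_pperp.1 (perp_part_mem p hy)).1 _).symm

theorem mem_root (hG : Good Q) (p : IsPair Q e f) {x : omg Q} :
    x ∈ rootSub hG p ↔ ∃ y, polar Q e y = 0 ∧ tr Q e y = x :=
  ⟨fun ⟨y, hy⟩ => ⟨(y.toAdd : V), (mem_pperp.1 y.toAdd.2).1, hy⟩, fun ⟨_, hy, h⟩ => h ▸ tr_mem_root hG p hy⟩

theorem root_le_line (hG : Good Q) (p : IsPair Q e f) : rootSub hG p ≤ lineStab Q e := by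
  rintro x hx
  obtain ⟨y, hy, rfl⟩ := (mem_root hG p).1 hx
  exact ⟨1, one_ne_zero, by rw [one_smul, tr_fix hG p.qe hy p.ee hy]⟩

theorem conj_tr (hG : Good Q) (hu : Q e = 0) {g : omg Q} {s : F} (hg : app g e = s • e) {y : V}
    (hy : polar Q e y = 0) (hs : s ≠ 0) :
    polar Q e (s • app g y) = 0 ∧ g * tr Q e y * g⁻¹ = tr Q e (s • app g y) := by
  have h := b_app g e y
  rw [hg, b_smul_left, hy] at h
  have h' := (mul_eq_zero.1 h).resolve_left hs
  exact ⟨by rw [b_smul_right, h', mul_zero], by rw [tr_conj hG g hu hy, hg, tr_scale hG s hu h']⟩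

theorem root_conj (hG : Good Q) (p : IsPair Q e f) {g x : omg Q} (hg : g ∈ lineStab Q e)
    (hx : x ∈ rootSub hG p) : g * x * g⁻¹ ∈ rootSub hG p := by
  obtain ⟨s, hs, hge⟩ := hg
  obtain ⟨y, hy, rfl⟩ := (mem_root hG p).1 hx
  rw [(conj_tr hG p.qe hge hy hs).2]
  exact tr_mem_root hG p (conj_tr hG p.qe hge hy hs).1

/-- The vectors whose root element lies in H. -/
noncomputable def kPart (hG : Good Q) (p : IsPair Q e f) (H : Subgroup (omg Q)) : AddSubgroup (pperp Q e f) where
  carrier := {y | rootHom hG p (Multiplicative.ofAdd y) ∈ H}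
  zero_mem' := by show rootHom hG p 1 ∈ H; rw [map_one]; exact H.one_mem
  add_mem' {a b} ha hb := by
    show rootHom hG p (Multiplicative.ofAdd a * Multiplicative.ofAdd b) ∈ H
    rw [map_mul]; exact H.mul_mem ha hb
  neg_mem' {a} ha := by
    show rootHom hG p (Multiplicative.ofAdd a)⁻¹ ∈ H
    rw [map_inv]; exact H.inv_mem ha

theorem mem_kPart {hG : Good Q} {p : IsPair Q e f} {H : Subgroup (omg Q)} {y : pperp Q e f} :
    y ∈ kPart hG p H ↔ tr Q e (y : V) ∈ H := Iff.rfl

/-- The dual of the root part. -/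
noncomputable def aPart (hG : Good Q) (p : IsPair Q e f) (H : Subgroup (omg Q)) : AddSubgroup (pperp Q e f) :=
  dualK (restr Q (pperp Q e f)) (kPart hG p H)

/-- The normaliser of the root part. -/
noncomputable def kNorm (hG : Good Q) (p : IsPair Q e f) (H : Subgroup (omg Q)) : Subgroup (omg Q) :=
  Subgroup.normalizer ((H ⊓ rootSub hG p : Subgroup (omg Q)) : Set (omg Q))

/-- The elements of the line stabiliser that are in H up to a root element. -/
noncomputable def rGrp (hG : Good Q) (p : IsPair Q e f) (H : Subgroup (omg Q)) : Subgroup (omg Q) where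
  carrier := {g | g ∈ lineStab Q e ∧ ∃ t ∈ rootSub hG p, g * t ∈ H}
  one_mem' := ⟨one_mem _, 1, one_mem _, by rw [one_mul]; exact H.one_mem⟩
  mul_mem' := fun {a b} ⟨ha, s, hs, hsH⟩ ⟨hb, t, ht, htH⟩ => ⟨mul_mem ha hb, b⁻¹ * s * b⁻¹⁻¹ * t,
    mul_mem (root_conj hG p (inv_mem hb) hs) ht, by
      have h := H.mul_mem hsH htH
      convert h using 1
      group⟩
  inv_mem' := fun {a} ⟨ha, s, hs, hsH⟩ => ⟨inv_mem ha, a * s⁻¹ * a⁻¹,
    root_conj hG p ha (inv_mem hs), by
      have h := H.inv_mem hsH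
      convert h using 1
      group⟩

theorem rGrp_le_line {hG : Good Q} {p : IsPair Q e f} {H : Subgroup (omg Q)} : rGrp hG p H ≤ lineStab Q e :=
  fun _ h => h.1

theorem root_comm (hG : Good Q) (p : IsPair Q e f) {s t : omg Q} (hs : s ∈ rootSub hG p)
    (ht : t ∈ rootSub hG p) : s * t = t * s := by
  obtain ⟨a, rfl⟩ := hs
  obtain ⟨b, rfl⟩ := ht
  rw [← map_mul, mul_comm, map_mul]

theorem mem_kNorm {hG : Good Q} {p : IsPair Q e f} {H : Subgroup (omg Q)} {g : omg Q} :
    g ∈ kNorm hG p H ↔ ∀ x, (x ∈ H ∧ x ∈ rootSub hG p) ↔ (g * x * g⁻¹ ∈ H ∧ g * x * g⁻¹ ∈ rootSub hG p) :=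
  Subgroup.mem_normalizer_iff

theorem rGrp_le_norm (hG : Good Q) (p : IsPair Q e f) (H : Subgroup (omg Q)) :
    rGrp hG p H ≤ kNorm hG p H := by
  have key : ∀ g ∈ rGrp hG p H, ∀ x, x ∈ H → x ∈ rootSub hG p →
      g * x * g⁻¹ ∈ H ∧ g * x * g⁻¹ ∈ rootSub hG p := by
    rintro g ⟨hg, t, ht, htH⟩ x hx hx'
    refine ⟨?_, root_conj hG p hg hx'⟩
    have h := H.mul_mem (H.mul_mem htH hx) (H.inv_mem htH)
    rwa [mul_assoc g t x, root_comm hG p ht hx', ← mul_assoc g x t, mul_inv_rev, ← mul_assoc,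
      mul_inv_cancel_right] at h
  intro g hg
  refine mem_kNorm.2 fun x => ⟨fun h => key g hg x h.1 h.2, fun h => ?_⟩
  have h1 := key g⁻¹ (inv_mem hg) _ h.1 h.2
  rwa [inv_inv, show g⁻¹ * (g * x * g⁻¹) * g = x by group] at h1

theorem norm_app {hG : Good Q} {p : IsPair Q e f} {H : Subgroup (omg Q)} {g : omg Q} (hg : g ∈ kNorm hG p H)
    (hg' : g ∈ pairStab Q e f) {y : pperp Q e f} :
    y ∈ kPart hG p H ↔ (⟨app g (y : V), pairStab_pperp hg' y.2⟩ : pperp Q e f) ∈ kPart hG p H := by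
  have h := mem_kNorm.1 hg (tr Q e (y : V))
  have hc := (conj_tr hG p.qe (g := g) (s := 1) (hg'.1.trans (one_smul F e).symm) (mem_pperp.1 y.2).1 one_ne_zero).2
  rw [one_smul] at hc
  rw [hc] at h
  exact ⟨fun hy => (h.1 ⟨hy, tr_mem_root hG p (mem_pperp.1 y.2).1⟩).1,
    fun hy => (h.2 ⟨hy, tr_mem_root hG p (mem_pperp.1 (pairStab_pperp hg' y.2)).1⟩).1⟩

theorem norm_app_a {hG : Good Q} {p : IsPair Q e f} {H : Subgroup (omg Q)} {g : omg Q} (hg : g ∈ kNorm hG p H)
    (hg' : g ∈ pairStab Q e f) {r : pperp Q e f} (hr : r ∈ aPart hG p H) :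
    (⟨app g (r : V), pairStab_pperp hg' r.2⟩ : pperp Q e f) ∈ aPart hG p H := by
  intro v hv
  have h1 := norm_app (inv_mem hg) (inv_mem hg') (y := v)
  have h2 := hr _ (h1.1 hv)
  rw [polar_restr] at h2 ⊢
  rwa [show polar Q (r : V) (app g⁻¹ (v : V)) = polar Q (app g (r : V)) (v : V) by
    conv_rhs => rw [← app_app_inv g (v : V), b_app]] at h2

theorem card_root (hG : Good Q) (p : IsPair Q e f) (H : Subgroup (omg Q)) :
    H.relIndex (rootSub hG p) = Nat.card (aPart hG p H) := by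
  haveI : Finite V := Module.finite_of_finite F
  rw [← Subgroup.index_comap]
  refine Nat.eq_of_mul_eq_mul_left (Nat.card_pos (α := kPart hG p H)) ?_
  rw [mul_comm _ (Nat.card (aPart hG p H)), aPart, card_dualK (pperp_nondeg hG.nd p)]
  have h := (H.comap (rootHom hG p)).card_mul_index
  rwa [show Nat.card (H.comap (rootHom hG p)) = Nat.card (kPart hG p H) from
    Nat.card_congr (Equiv.subtypeEquiv Multiplicative.toAdd fun _ => Iff.rfl),
    show Nat.card (Multiplicative (pperp Q e f)) = Nat.card (pperp Q e f) from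
    Nat.card_congr Multiplicative.toAdd] at h

/-- The index at a point is at least the root index times the index of the group R. -/
theorem chain_le (hG : Good Q) (p : IsPair Q e f) (H : Subgroup (omg Q)) :
    (rGrp hG p H).relIndex (lineStab Q e) * Nat.card (aPart hG p H) ≤ H.relIndex (lineStab Q e) := by
  haveI : Finite (omg Q) := finite_omega
  have h1 : H ⊓ lineStab Q e ≤ rGrp hG p H :=
    fun g hg => ⟨hg.2, 1, one_mem _, by rw [mul_one]; exact hg.1⟩
  have h2 : rootSub hG p ≤ rGrp hG p H := fun g hg =>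
    ⟨root_le_line hG p hg, g⁻¹, inv_mem hg, by rw [mul_inv_cancel]; exact H.one_mem⟩
  rw [← card_root hG p H, ← Subgroup.inf_relIndex_right H (lineStab Q e),
    ← Subgroup.relIndex_mul_relIndex _ _ _ h1 rGrp_le_line, mul_comm]
  refine Nat.mul_le_mul_right _ ?_
  calc H.relIndex (rootSub hG p) = (H ⊓ lineStab Q e).relIndex (rootSub hG p) := by
        rw [← Subgroup.inf_relIndex_right H (rootSub hG p),
          ← Subgroup.inf_relIndex_right (H ⊓ lineStab Q e) (rootSub hG p), inf_assoc,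
          inf_eq_right.2 (root_le_line hG p)]
    _ ≤ _ := Subgroup.relIndex_le_of_le_right h2 Subgroup.index_ne_zero_of_finite

theorem relIndex_le_index' {G : Type*} [Group G] [Finite G] (H K : Subgroup G) : H.relIndex K ≤ H.index := by
  rw [← Subgroup.relIndex_top_right H]
  exact Subgroup.relIndex_le_of_le_right le_top Subgroup.index_ne_zero_of_finite

theorem norm_relIndex_le (hG : Good Q) (p : IsPair Q e f) (H : Subgroup (omg Q)) :
    (kNorm hG p H).relIndex (pairStab Q e f) ≤ (kNorm hG p H ⊓ lineStab Q e).relIndex (lineStab Q e) ∧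
    (kNorm hG p H ⊓ lineStab Q e).relIndex (lineStab Q e) ≤ (rGrp hG p H).relIndex (lineStab Q e) := by
  haveI : Finite (omg Q) := finite_omega
  refine ⟨?_, Subgroup.relIndex_le_of_le_left (le_inf (rGrp_le_norm hG p H) rGrp_le_line)
    Subgroup.index_ne_zero_of_finite⟩
  rw [Subgroup.inf_relIndex_right]
  exact Subgroup.relIndex_le_of_le_right (pairStab_le e f) Subgroup.index_ne_zero_of_finite

/-- The index is at least the root index times the length of the orbit of the root part. -/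
theorem norm_mul_le (hG : Good Q) (p : IsPair Q e f) (H : Subgroup (omg Q)) :
    (kNorm hG p H).relIndex (pairStab Q e f) * Nat.card (aPart hG p H) ≤ H.index := by
  haveI : Finite (omg Q) := finite_omega
  calc _ ≤ (rGrp hG p H).relIndex (lineStab Q e) * Nat.card (aPart hG p H) :=
        Nat.mul_le_mul_right _ ((norm_relIndex_le hG p H).1.trans (norm_relIndex_le hG p H).2)
    _ ≤ _ := (chain_le hG p H).trans (relIndex_le_index' _ _)

theorem extW_mem_pairStab (p : IsPair Q e f) (g : omg (restr Q (pperp Q e f))) : extW p g ∈ pairStab Q e f :=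
  ⟨extW_e p g, extW_d p g⟩

theorem extW_app (p : IsPair Q e f) (g : omg (restr Q (pperp Q e f))) (y : pperp Q e f) :
    app (extW p g) (y : V) = ((app g y : pperp Q e f) : V) := by
  obtain ⟨h1, h2⟩ := mem_pperp.1 y.2
  rw [extW_apply]
  have e1 : polar Q (y : V) f = 0 := by rw [b_comm, h2]
  have e2 : polar Q (y : V) e = 0 := by rw [b_comm, h1]
  simp only [e1, e2, zero_smul, zero_add, sub_zero]

/-- Elements fixing the pair are transitive on the vectors of one value. -/
theorem vec_trans (hG : Good Q) (p : IsPair Q e f) (hd : 4 ≤ finrank F (pperp Q e f)) {a a' : V}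
    (ha : a ∈ pperp Q e f) (ha' : a' ∈ pperp Q e f) (h0 : a ≠ 0) (h0' : a' ≠ 0) (hq : Q a' = Q a) :
    ∃ g ∈ pairStab Q e f, app g a = a' := by
  have hY := pperp_nondeg hG.nd p
  obtain ⟨g, hg, hga⟩ := witt_one hY (a := (⟨a, ha⟩ : pperp Q e f)) (a' := ⟨a', ha'⟩)
    (fun h => h0 (congrArg Subtype.val h)) (fun h => h0' (congrArg Subtype.val h)) hq
  obtain ⟨k, hk⟩ := correct hG (extO p ⟨g, hg⟩) {e, f, a} fun c _ => by
    obtain ⟨v, hv, hvc⟩ := exists_value_perp hY (Submodule.span F {(⟨a, ha⟩ : pperp Q e f)}) (by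
      have h1 := Submodule.finrank_mono (inf_le_left :
        Submodule.span F {(⟨a, ha⟩ : pperp Q e f)} ⊓ perp (restr Q (pperp Q e f)) (Submodule.span F {(⟨a, ha⟩ : pperp Q e f)}) ≤ _)
      rw [finrank_span_singleton (fun h => h0 (congrArg Subtype.val h))] at h1 ⊢
      omega) c
    refine ⟨v, hvc, fun x hx => ?_⟩
    rcases hx with rfl | rfl | rfl
    · exact (mem_pperp.1 v.2).1
    · exact (mem_pperp.1 v.2).2
    · exact hv ⟨x, ha⟩ (Submodule.mem_span_singleton_self _)
  have he : ∀ x, (extO p ⟨g, hg⟩).1 x = polar Q x f • e + polar Q x e • f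
      + ((g ⟨x - polar Q x f • e - polar Q x e • f, pperp_part p x⟩ : pperp Q e f) : V) := fun x => rfl
  obtain ⟨a1, a2⟩ := mem_pperp.1 ha
  have z1 : (⟨e - polar Q e f • e - polar Q e e • f, pperp_part p e⟩ : pperp Q e f) = 0 :=
    Subtype.ext (by simp [p.ed, p.ee])
  have z2 : (⟨f - polar Q f f • e - polar Q f e • f, pperp_part p f⟩ : pperp Q e f) = 0 :=
    Subtype.ext (by simp [p.de, p.dd])
  refine ⟨k, ⟨(hk e (by simp)).trans ?_, (hk f (by simp)).trans ?_⟩, (hk a (by simp)).trans ?_⟩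
  · rw [he, z1, p.ed, p.ee]
    simp
  · rw [he, z2, p.de, p.dd]
    simp
  · rw [he]
    have e1 : polar Q a f = 0 := by rw [b_comm, a2]
    have e2 : polar Q a e = 0 := by rw [b_comm, a1]
    simp only [e1, e2, zero_smul, zero_add, sub_zero]
    exact congrArg Subtype.val hga

/-- Elements fixing the pair are transitive on pairs with the same invariants. -/
theorem pair_trans (p : IsPair Q e f) (hY : Good (restr Q (pperp Q e f))) {a b a' b' : pperp Q e f}
    (h : LinearIndependent F ![a, b]) (h' : LinearIndependent F ![a', b'])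
    (hg : gram (restr Q (pperp Q e f)) (a', b') = gram (restr Q (pperp Q e f)) (a, b))
    (hcond : 6 ≤ finrank F (pperp Q e f) ∨
      ¬ (2 * Q (a : V) = 0 ∧ 2 * Q (b : V) = 0 ∧ polar Q (a : V) (b : V) = 0)) :
    ∃ g ∈ pairStab Q e f, app g (a : V) = a' ∧ app g (b : V) = b' := by
  obtain ⟨g, ha, hb⟩ := move_two hY h h' (congrArg Prod.fst hg) (congrArg (fun t : F × F × F => t.2.1) hg)
    (congrArg (fun t : F × F × F => t.2.2) hg) hcond
  exact ⟨extW p g, extW_mem_pairStab p g, by rw [extW_app, ha], by rw [extW_app, hb]⟩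

end Root

end Cfsg.Agent.OrthMin
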