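/-
Sizes of the classes of pairs and the first bound for the index of a proper subgroup of Omega.
-/
import Cfsg.Agent.Lib.OrthMinIndex.Local

set_option autoImplicit false

namespace Cfsg.Agent.OrthMin

open QuadraticMap Module Cfsg.Agent.Orth Cfsg.Agent.OrthDeg

variable {F V : Type*} [Field F] [AddCommGroup V] [Module F V] {Q : QuadraticForm F V}

/-- The pairs with given invariants. -/
def pairClass (Q : QuadraticForm F V) (g : F × F × F) : Set (V × V) :=
  {x | LinearIndependent F ![x.1, x.2] ∧ gram Q x = g}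

variable [Finite F] [FiniteDimensional F V]

/-- Many vectors of each value, using one singular vector. -/
theorem level_one (hQ : (polarBilin Q).Nondegenerate) {u : V} (hu : Q u = 0) (hu0 : u ≠ 0) (α : F) :
    (Nat.card F - 1) * Nat.card V ≤ Nat.card {w : V // w ≠ 0 ∧ Q w = α} * Nat.card F ^ 2 := by
  haveI : Finite V := Module.finite_of_finite F
  let S₁ : Set V := {w | polar Q u w ≠ 0}
  have h1 := level_mul hu S₁ (fun w hw c => by
    show polar Q u (w + c • u) ≠ 0
    rw [b_add_right, b_smul_right, b_self, hu]; simpa [S₁] using hw) (fun w hw => hw) α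
  have hle : Nat.card {w : S₁ // Q (w : V) = α} ≤ Nat.card {w : V // w ≠ 0 ∧ Q w = α} :=
    Nat.card_le_card_of_injective (fun w => ⟨w.1.1, fun h0 => w.1.2 (by rw [h0, b_zero_right]), w.2⟩)
      fun a b h => by
        simp only [Subtype.mk.injEq] at h
        exact Subtype.ext (Subtype.ext h)
  have c1 : Nat.card S₁ * Nat.card F = (Nat.card F - 1) * Nat.card V := by
    have h3 : Nat.card {w : V // polarBilin Q u w = 0} * Nat.card F = Nat.card V :=
      card_one_fibre (fun h0 => hu0 (eq_zero_of_b hQ fun y => by simpa using LinearMap.congr_fun h0 y)) 0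
    have h4 : Nat.card S₁ + Nat.card {w : V // polarBilin Q u w = 0} = Nat.card V := by
      have := card_split (α := V) (fun _ => True) (fun w => polarBilin Q u w = 0)
      simpa [S₁, Set.coe_setOf, Nat.card_congr (Equiv.subtypeUnivEquiv fun _ => trivial)] using this
    have hq : 1 ≤ Nat.card F := Nat.card_pos
    zify [hq] at h3 h4 ⊢
    linear_combination (Nat.card F : ℤ) * h4 - h3
  rw [← c1, ← h1, mul_assoc, ← pow_two]
  exact Nat.mul_le_mul_right _ hle

omit [Finite F] in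
/-- A singular vector independent of r and orthogonal to it. -/
theorem exists_sing_indep [Fintype F] (hG : Good Q) (r : V) :
    ∃ u, Q u = 0 ∧ polar Q r u = 0 ∧ (r ≠ 0 → LinearIndependent F ![r, u]) := by
  obtain ⟨f, g, p, hf, hg⟩ := exists_pair_orth hG.nd hG.dim r
  refine ⟨f, p.qe, hf, fun hr => (LinearIndependent.pair_iff' hr).2 fun t ht => ?_⟩
  have h := p.ed
  rw [← ht, b_smul_left, hg, mul_zero] at h
  exact zero_ne_one h

/-- Lower bound for the classes of pairs. -/
theorem class_ge (hG : Good Q) (g : F × F × F) :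
    (Nat.card F ^ 2 - 1) * (Nat.card F - 1) * Nat.card V ^ 2 ≤ Nat.card (pairClass Q g) * Nat.card F ^ 6 := by
  haveI : Finite V := Module.finite_of_finite F
  obtain ⟨α, β, γ⟩ := g
  classical
  haveI := Fintype.ofFinite V
  haveI := Fintype.ofFinite F
  obtain ⟨u, hu, hu0⟩ : ∃ u : V, Q u = 0 ∧ u ≠ 0 := by
    obtain ⟨e, he0, he⟩ := exists_singular hG.nd (by have := hG.dim; omega)
    exact ⟨e, he, he0⟩
  obtain ⟨u', hu', huu, hind⟩ := exists_sing_indep hG u
  have hL := level_ge hG.nd hu hu' huu (hind hu0) α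
  have hfib : ∀ r : {r : V // r ≠ 0 ∧ Q r = α}, (Nat.card F - 1) * Nat.card V ≤
      Nat.card {s : V // LinearIndependent F ![(r : V), s] ∧ Q s = β ∧ polar Q (r : V) s = γ} * Nat.card F ^ 3 := by
    intro r
    obtain ⟨w, hw, hrw, hi⟩ := exists_sing_indep hG (r : V)
    exact gram_ge hG.nd hw hrw (hi r.2.1) β γ
  have hle : Nat.card (Σ r : {r : V // r ≠ 0 ∧ Q r = α},
      {s : V // LinearIndependent F ![(r : V), s] ∧ Q s = β ∧ polar Q (r : V) s = γ}) ≤
      Nat.card (pairClass Q (α, β, γ)) := by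
    refine Nat.card_le_card_of_injective (fun x => ⟨((x.1 : V), (x.2 : V)), x.2.2.1, ?_⟩) ?_
    · simp only [gram, x.1.2.2, x.2.2.2.1, x.2.2.2.2]
    · rintro ⟨⟨a, ha⟩, ⟨b, hb⟩⟩ ⟨⟨a', ha'⟩, ⟨b', hb'⟩⟩ h
      simp only [Subtype.mk.injEq, Prod.mk.injEq] at h
      obtain ⟨rfl, rfl⟩ := h
      rfl
  rw [Nat.card_sigma] at hle
  have hsum := Finset.sum_le_sum fun r (_ : r ∈ Finset.univ) => hfib r
  rw [Finset.sum_const, Finset.card_univ, smul_eq_mul, ← Nat.card_eq_fintype_card, ← Finset.sum_mul] at hsum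
  calc (Nat.card F ^ 2 - 1) * (Nat.card F - 1) * Nat.card V ^ 2
      = ((Nat.card F ^ 2 - 1) * Nat.card V) * ((Nat.card F - 1) * Nat.card V) := by ring
    _ ≤ (Nat.card {r : V // r ≠ 0 ∧ Q r = α} * Nat.card F ^ 3) * ((Nat.card F - 1) * Nat.card V) :=
        Nat.mul_le_mul_right _ hL
    _ = (Nat.card {r : V // r ≠ 0 ∧ Q r = α} * ((Nat.card F - 1) * Nat.card V)) * Nat.card F ^ 3 := by ring
    _ ≤ (Nat.card (pairClass Q (α, β, γ)) * Nat.card F ^ 3) * Nat.card F ^ 3 := by
        refine Nat.mul_le_mul_right _ ((le_of_eq ?_).trans (hsum.trans (Nat.mul_le_mul_right _ hle)))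
        ring
    _ = _ := by ring

omit [Finite F] in
/-- The singular vectors orthogonal to a singular vector e and independent of it. -/
theorem card_sing_perp [Finite F] {e f : V} (p : IsPair Q e f) :
    Nat.card {s : V // LinearIndependent F ![e, s] ∧ Q s = 0 ∧ polar Q e s = 0} + Nat.card F =
      Nat.card F * Nat.card {y : pperp Q e f // Q (y : V) = 0} := by
  haveI : Finite V := Module.finite_of_finite F
  haveI := Fintype.ofFinite F
  let S : Set V := {s | Q s = 0 ∧ polar Q e s = 0}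
  have h1 : Nat.card {s : V // (Q s = 0 ∧ polar Q e s = 0) ∧ ¬ s ∈ Submodule.span F {e}} +
      Nat.card {s : V // (Q s = 0 ∧ polar Q e s = 0) ∧ s ∈ Submodule.span F {e}} =
      Nat.card {s : V // Q s = 0 ∧ polar Q e s = 0} := card_split _ _
  have h2 : Nat.card {s : V // LinearIndependent F ![e, s] ∧ Q s = 0 ∧ polar Q e s = 0} =
      Nat.card {s : V // (Q s = 0 ∧ polar Q e s = 0) ∧ ¬ s ∈ Submodule.span F {e}} := by
    refine Nat.card_congr (Equiv.subtypeEquivRight fun s => ?_)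
    rw [LinearIndependent.pair_iff' p.ne, Submodule.mem_span_singleton, not_exists]
    exact ⟨fun h => ⟨h.2, h.1⟩, fun h => ⟨h.2, h.1⟩⟩
  have h3 : Nat.card {s : V // (Q s = 0 ∧ polar Q e s = 0) ∧ s ∈ Submodule.span F {e}} = Nat.card F := by
    refine (Nat.card_congr (Equiv.ofBijective (fun c : F => (⟨c • e,
      ⟨by rw [q_smul, p.qe, mul_zero], by rw [b_smul_right, p.ee, mul_zero]⟩,
      Submodule.smul_mem _ _ (Submodule.mem_span_singleton_self e)⟩ :
        {s : V // (Q s = 0 ∧ polar Q e s = 0) ∧ s ∈ Submodule.span F {e}})) ⟨fun a b h => ?_, ?_⟩)).symm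
    · exact smul_left_injective F p.ne (congrArg Subtype.val h)
    · rintro ⟨s, hs, hm⟩
      obtain ⟨c, rfl⟩ := Submodule.mem_span_singleton.1 hm
      exact ⟨c, rfl⟩
  have h4 : Nat.card {s : V // Q s = 0 ∧ polar Q e s = 0} =
      Nat.card F * Nat.card {y : pperp Q e f // Q (y : V) = 0} := by
    rw [← Nat.card_prod]
    refine (Nat.card_congr (Equiv.ofBijective (fun x : F × {y : pperp Q e f // Q (y : V) = 0} =>
      (⟨x.1 • e + (x.2.1 : V), ?_, ?_⟩ : {s : V // Q s = 0 ∧ polar Q e s = 0})) ⟨?_, ?_⟩)).symm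
    · rw [q_add, q_smul, p.qe, x.2.2, b_smul_left, (mem_pperp.1 x.2.1.2).1]; ring
    · rw [b_add_right, b_smul_right, p.ee, (mem_pperp.1 x.2.1.2).1]; ring
    · rintro ⟨a, ⟨y, hy⟩⟩ ⟨b, ⟨z, hz⟩⟩ h
      have h' : a • e + (y : V) = b • e + (z : V) := congrArg Subtype.val h
      have hab := congrArg (fun v => polar Q v f) h'
      simp only [b_add_left, b_smul_left, p.ed, b_comm (y : V) f, b_comm (z : V) f, (mem_pperp.1 y.2).2,
        (mem_pperp.1 z.2).2, mul_one, add_zero] at hab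
      subst hab
      simp only [Prod.mk.injEq, true_and]
      exact Subtype.ext (Subtype.ext (add_left_cancel h'))
    · rintro ⟨s, hs, hse⟩
      refine ⟨(polar Q s f, ⟨⟨s - polar Q s f • e, perp_part_mem p hse⟩, ?_⟩), Subtype.ext ?_⟩
      · show Q (s - polar Q s f • e) = 0
        rw [q_sub, q_smul, b_smul_right, p.qe, hs, b_comm s e, hse]; ring
      · show polar Q s f • e + (s - polar Q s f • e) = s
        abel
  rw [h2, ← h4, ← h1, h3]

omit [Finite F] in
/-- The number of totally singular independent pairs. -/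
theorem ts_ge [Finite F] (hQ : (polarBilin Q).Nondegenerate) {c m : ℕ} (hT : HasType Q c (m + 2)) :
    (zc (Nat.card F) c (m + 2) - 1) * (Nat.card F * zc (Nat.card F) c (m + 1) - Nat.card F) ≤
      Nat.card (pairClass Q (0, 0, 0)) := by
  haveI : Finite V := Module.finite_of_finite F
  classical
  haveI := Fintype.ofFinite V
  have hn : Nat.card {r : V // r ≠ 0 ∧ Q r = 0} = zc (Nat.card F) c (m + 2) - 1 := by
    have h := card_split (α := V) (fun r => Q r = 0) (fun r => r = 0)
    have h0 : Nat.card {r : V // Q r = 0 ∧ r = 0} = 1 :=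
      Nat.card_eq_one_iff_unique.2 ⟨⟨fun a b => Subtype.ext (a.2.2.trans b.2.2.symm)⟩, ⟨⟨0, map_zero Q, rfl⟩⟩⟩
    rw [h0, hT.2] at h
    rw [← h, Nat.add_sub_cancel]
    exact Nat.card_congr (Equiv.subtypeEquivRight fun r => and_comm)
  have hfib : ∀ r : {r : V // r ≠ 0 ∧ Q r = 0}, Nat.card F * zc (Nat.card F) c (m + 1) - Nat.card F =
      Nat.card {s : V // LinearIndependent F ![(r : V), s] ∧ Q s = 0 ∧ polar Q (r : V) s = 0} := by
    intro r
    obtain ⟨d, hd, hd0⟩ := exists_partner hQ r.2.1 r.2.2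
    have p : IsPair Q (r : V) d := ⟨r.2.2, hd0, hd⟩
    have h := card_sing_perp p
    rw [show Nat.card {y : pperp Q (r : V) d // Q (y : V) = 0} = zc (Nat.card F) c (m + 1) from
      (hT.restrict p).2] at h
    omega
  refine le_trans (le_of_eq ?_) (Nat.card_le_card_of_injective (α := Σ r : {r : V // r ≠ 0 ∧ Q r = 0},
    {s : V // LinearIndependent F ![(r : V), s] ∧ Q s = 0 ∧ polar Q (r : V) s = 0})
    (fun x => (⟨((x.1 : V), (x.2 : V)), x.2.2.1, ?_⟩ : pairClass Q (0, 0, 0))) ?_)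
  · rw [Nat.card_sigma, Finset.sum_congr rfl fun r _ => (hfib r).symm, Finset.sum_const, Finset.card_univ,
      smul_eq_mul, ← Nat.card_eq_fintype_card, hn]
  · simp only [gram, x.1.2.2, x.2.2.2.1, x.2.2.2.2]
  · rintro ⟨⟨a, ha⟩, ⟨b, hb⟩⟩ ⟨⟨a', ha'⟩, ⟨b', hb'⟩⟩ h
    simp only [Subtype.mk.injEq, Prod.mk.injEq] at h
    obtain ⟨rfl, rfl⟩ := h
    rfl

/-- A proper subgroup misses some root element. -/
theorem exists_root_not_mem [Fintype F] (hG : Good Q) {S : Subgroup (omg Q)} (hS : S ≠ ⊤) :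
    ∃ e f, ∃ p : IsPair Q e f, kPart hG p S ≠ ⊤ := by
  by_contra h
  push Not at h
  refine hS (eq_top_iff.2 fun g _ => ?_)
  have hsub : rootSet Q ⊆ (S.map (omg Q).subtype : Subgroup (oGroup Q)) := by
    rintro x ⟨u, y, hu, hy, huy, hx⟩
    rcases eq_or_ne u 0 with rfl | hu0
    · have : x = 1 := Subtype.ext (hx.eq (isSiegel_one hy (Or.inl rfl)))
      rw [this]; exact one_mem _
    obtain ⟨f, hf, hf0⟩ := exists_partner hG.nd hu0 hu
    have p : IsPair Q u f := ⟨hu, hf0, hf⟩
    have hm : (⟨y - polar Q y f • u, perp_part_mem p huy⟩ : pperp Q u f) ∈ kPart hG p S := by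
      rw [h u f p]; trivial
    refine ⟨tr Q u y, ?_, ?_⟩
    · have h2 := mem_kPart.1 hm
      rwa [← tr_shift hG hu (mem_pperp.1 (perp_part_mem p huy)).1 (polar Q y f), sub_add_cancel] at h2
    · exact (tr_coe hG hu huy).trans (Subtype.ext ((Cfsg.Agent.TwoGenOrth.sg_spec hu huy).eq hx))
  have hle : siegelGroup Q ≤ S.map (omg Q).subtype := (Subgroup.closure_le _).2 hsub
  rw [siegelGroup_eq hG.nd hG.dim] at hle
  obtain ⟨s, hs, hsg⟩ := hle g.2
  rwa [show g = s from Subtype.ext hsg.symm]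

/-- The first bound for the index of a proper subgroup. -/
theorem index_gt_crude [Fintype F] (hG : Good Q) (hd : 6 ≤ finrank F V) {S : Subgroup (omg Q)} (hS : S ≠ ⊤) :
    (Nat.card F - 1) * Nat.card F ^ finrank F V + Nat.card F ^ 4 ≤ S.index * Nat.card F ^ 4 := by
  haveI : Finite (omg Q) := finite_omega
  haveI : Finite V := Module.finite_of_finite F
  obtain ⟨e, f, p, hK⟩ := exists_root_not_mem hG hS
  have hdY := finrank_pperp p
  have hY := pperp_nondeg hG.nd p
  obtain ⟨r, hr, hr0⟩ : ∃ r, r ∈ aPart hG p S ∧ r ≠ 0 := by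
    by_contra h
    push Not at h
    refine hK ?_
    have h1 : aPart hG p S = ⊥ := (AddSubgroup.eq_bot_iff_forall _).2 h
    have h2 := card_dualK hY (kPart hG p S)
    rw [show dualK (restr Q (pperp Q e f)) (kPart hG p S) = ⊥ from h1, AddSubgroup.card_bot, one_mul] at h2
    exact AddSubgroup.eq_top_of_card_eq _ h2
  let Y := pperp Q e f
  let act : omg Q → V → V := fun g x => app g x
  have hc := cover_le (pairStab Q e f) (kNorm hG p S) act (fun g h x => app_mul g h x)
    {x | ∃ a ∈ aPart hG p S, a ≠ 0 ∧ (a : V) = x}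
    {x | x ∈ Y ∧ x ≠ 0 ∧ Q x = Q (r : V)} ?_ ?_
  · have hA : Nat.card {x : V | ∃ a ∈ aPart hG p S, a ≠ 0 ∧ (a : V) = x} + 1 ≤ Nat.card (aPart hG p S) := by
      have h1 : Nat.card {x : V | ∃ a ∈ aPart hG p S, a ≠ 0 ∧ (a : V) = x} ≤
          Nat.card {a : aPart hG p S // a ≠ 0} := by
        refine Nat.card_le_card_of_injective (fun x => ⟨⟨x.2.choose, x.2.choose_spec.1⟩,
          fun h => x.2.choose_spec.2.1 (congrArg Subtype.val h)⟩) fun x y h => ?_
        simp only [Subtype.mk.injEq] at h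
        exact Subtype.ext (by rw [← x.2.choose_spec.2.2, ← y.2.choose_spec.2.2, h])
      have h2 : Nat.card (Option {a : aPart hG p S // a ≠ 0}) = Nat.card (aPart hG p S) := by
        classical
        exact Nat.card_congr (Equiv.optionSubtypeNe 0)
      rw [Finite.card_option] at h2
      omega
    obtain ⟨u, hu0, hu⟩ := exists_singular hY (by omega)
    have hL := level_one hY hu hu0 (Q (r : V))
    have he : Nat.card {w : Y // w ≠ 0 ∧ restr Q Y w = Q (r : V)} =
        Nat.card {x : V | x ∈ Y ∧ x ≠ 0 ∧ Q x = Q (r : V)} :=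
      Nat.card_congr
        { toFun := fun w => ⟨(w.1 : V), w.1.2, fun h => w.2.1 (Subtype.ext h), w.2.2⟩
          invFun := fun x => ⟨⟨x.1, x.2.1⟩, fun h => x.2.2.1 (congrArg Subtype.val h), x.2.2.2⟩
          left_inv := fun _ => rfl
          right_inv := fun _ => rfl }
    rw [he, card_submodule] at hL
    have hI := norm_mul_le hG p S
    have hn : 1 ≤ (kNorm hG p S).relIndex (pairStab Q e f) :=
      Nat.one_le_iff_ne_zero.2 Subgroup.index_ne_zero_of_finite
    rw [hdY]
    calc (Nat.card F - 1) * Nat.card F ^ (finrank F Y + 2) + Nat.card F ^ 4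
        = ((Nat.card F - 1) * Nat.card F ^ finrank F Y) * Nat.card F ^ 2 + Nat.card F ^ 4 := by ring
      _ ≤ (Nat.card {x : V | x ∈ Y ∧ x ≠ 0 ∧ Q x = Q (r : V)} * Nat.card F ^ 2) * Nat.card F ^ 2 + Nat.card F ^ 4 :=
          Nat.add_le_add_right (Nat.mul_le_mul_right _ hL) _
      _ = (Nat.card {x : V | x ∈ Y ∧ x ≠ 0 ∧ Q x = Q (r : V)} + 1) * Nat.card F ^ 4 := by ring
      _ ≤ S.index * Nat.card F ^ 4 := by
          refine Nat.mul_le_mul_right _ (le_trans ?_ hI)
          refine (Nat.add_le_add hc hn).trans ?_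
          rw [← Nat.mul_add_one]
          exact Nat.mul_le_mul_left _ hA
  · rintro g hg hg' x ⟨a, ha, ha0, rfl⟩
    exact ⟨_, norm_app_a hg hg' ha, fun h => app_ne g (fun h0 => ha0 (Subtype.ext h0)) (congrArg Subtype.val h),
      rfl⟩
  · rintro x ⟨hx, hx0, hxq⟩
    obtain ⟨g, hg, hgr⟩ := vec_trans hG p (by omega) r.2 hx (fun h => hr0 (Subtype.ext h)) hx0 hxq
    exact ⟨g, hg, (r : V), ⟨r, hr, hr0, rfl⟩, hgr⟩

end Cfsg.Agent.OrthMin
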