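/-
Covering classes of pairs by translates of the dual of the root part.
-/
import Cfsg.Agent.Lib.OrthMinIndex.Bounds

set_option autoImplicit false

namespace Cfsg.Agent.OrthMin

open QuadraticMap Module Cfsg.Agent.Orth Cfsg.Agent.OrthDeg

variable {F V : Type*} [Field F] [AddCommGroup V] [Module F V] {Q : QuadraticForm F V}
variable [FiniteDimensional F V] [Fintype F]

omit [Fintype F] [FiniteDimensional F V] in
theorem sq_class (h2 : (2 : F) ≠ 0) [Finite F] : ∃ ν : F, ν ≠ 0 ∧ ∀ c : F, c ≠ 0 → IsSquare c ∨ IsSquare (c * ν) := by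
  haveI := Fintype.ofFinite F
  have hF : ringChar F ≠ 2 := fun h => h2 (by
    haveI : CharP F 2 := h ▸ ringChar.charP F
    exact CharP.cast_eq_zero F 2)
  obtain ⟨ν, hν⟩ := FiniteField.exists_nonsquare hF
  have hν0 : ν ≠ 0 := fun h => hν (h ▸ IsSquare.zero)
  refine ⟨ν, hν0, fun c hc => ?_⟩
  rcases FiniteField.pow_dichotomy hF hc with h | h
  · exact Or.inl ((FiniteField.isSquare_iff hF hc).2 h)
  · refine Or.inr ((FiniteField.isSquare_iff hF (mul_ne_zero hc hν0)).2 ?_)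
    rw [mul_pow, h, (FiniteField.pow_dichotomy hF hν0).resolve_left fun h' =>
      hν ((FiniteField.isSquare_iff hF hν0).2 h')]
    ring

/-- Totally singular pairs, up to one of two scalars on the second vector. -/
theorem move_two_class (hG : Good Q) {a b a' b' : V} (h : LinearIndependent F ![a, b])
    (h' : LinearIndependent F ![a', b']) (ha : Q a = 0) (hb : Q b = 0) (hab : polar Q a b = 0)
    (ha' : Q a' = 0) (hb' : Q b' = 0) (hab' : polar Q a' b' = 0) {ν : F}
    (hν0 : ν ≠ 0) (hν : ∀ c : F, c ≠ 0 → IsSquare c ∨ IsSquare (c * ν)) :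
    ∃ (g : omg Q) (k : F), (k = 1 ∨ k = ν) ∧ app g a = a' ∧ app g (k • b) = b' := by
  obtain ⟨g, c, hc, hga, hgb⟩ := move_two_scaled hG h h' ha hb hab ha' hb' hab'
  obtain ⟨k, t, hk, ht⟩ : ∃ k t : F, (k = 1 ∨ k = ν) ∧ c * k = t * t := by
    rcases hν c hc with ⟨t, ht⟩ | ⟨t, ht⟩
    · exact ⟨1, t, Or.inl rfl, by rw [mul_one]; exact ht⟩
    · exact ⟨ν, t, Or.inr rfl, ht⟩
  have hk0 : k ≠ 0 := by
    rcases hk with rfl | rfl
    · exact one_ne_zero
    · exact hν0
  have ht0 : t ≠ 0 := fun h0 => mul_ne_zero hc hk0 (by rw [ht, h0, mul_zero])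
  have hanb : a' ∉ Submodule.span F {b'} := by
    rw [Submodule.mem_span_singleton]
    rintro ⟨s, hs⟩
    exact one_ne_zero (LinearIndependent.pair_iff.1 h' 1 (-s) (by rw [← hs]; module)).1
  have hb0 : b' ≠ 0 := by simpa using h'.ne_zero 1
  obtain ⟨a₁, b₁, -, h2, -, h4, -, h6, -⟩ := exists_partners hG.nd ha' hb' hab' hanb hb0
  have p : IsPair Q b' b₁ := ⟨hb', h2, h4⟩
  obtain ⟨s, hs1, -, hs3⟩ := scale_mem hG p (inv_ne_zero ht0)
  refine ⟨s * g, k, hk, ?_, ?_⟩
  · rw [app_mul, hga]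
    exact hs3 a' (mem_pperp.2 ⟨by rw [b_comm, hab'], by rw [b_comm, h6]⟩)
  · have hgb' : g.1.1 b = c • b' := hgb
    have hs1' : s.1.1 b' = (t⁻¹ * t⁻¹) • b' := hs1
    show s.1.1 (g.1.1 (k • b)) = b'
    rw [map_smul g.1.1, hgb', smul_smul, map_smul s.1.1, hs1', smul_smul, mul_comm k c, ht,
      show t * t * (t⁻¹ * t⁻¹) = 1 by field_simp, one_smul]

variable {e f : V}

/-- The covering inequality for pairs. -/
theorem cover_pairs (hG : Good Q) (p : IsPair Q e f) (H : Subgroup (omg Q))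
    (S C : Set (pperp Q e f × pperp Q e f))
    (hS : ∀ g ∈ kNorm hG p H, ∀ hg : g ∈ pairStab Q e f, ∀ x ∈ S,
      ((⟨app g (x.1 : V), pairStab_pperp hg x.1.2⟩, ⟨app g (x.2 : V), pairStab_pperp hg x.2.2⟩) :
        pperp Q e f × pperp Q e f) ∈ S)
    (hC : ∀ c ∈ C, ∃ g ∈ pairStab Q e f, ∃ a ∈ S, app g (a.1 : V) = c.1 ∧ app g (a.2 : V) = c.2) :
    Nat.card C ≤ (kNorm hG p H).relIndex (pairStab Q e f) * Nat.card S := by
  haveI : Finite V := Module.finite_of_finite F
  haveI : Finite (omg Q) := finite_omega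
  let ι : pperp Q e f × pperp Q e f → V × V := fun x => ((x.1 : V), (x.2 : V))
  have hι : Function.Injective ι := fun x y h => Prod.ext (Subtype.ext (congrArg Prod.fst h))
    (Subtype.ext (congrArg Prod.snd h))
  have h := cover_le (pairStab Q e f) (kNorm hG p H) (fun g (x : V × V) => (app g x.1, app g x.2))
    (fun g h x => rfl) (ι '' S) (ι '' C) ?_ ?_
  · rwa [Nat.card_image_of_injective hι, Nat.card_image_of_injective hι] at h
  · rintro g hg hg' _ ⟨x, hx, rfl⟩
    exact ⟨_, hS g hg hg' x hx, rfl⟩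
  · rintro _ ⟨c, hc, rfl⟩
    obtain ⟨g, hg, a, ha, h1, h2⟩ := hC c hc
    exact ⟨g, hg, ι a, ⟨a, ha, rfl⟩, Prod.ext h1 h2⟩

/-- The pairs of the dual in one class. -/
def aClass (hG : Good Q) (p : IsPair Q e f) (H : Subgroup (omg Q)) (g : F × F × F) :
    Set (pperp Q e f × pperp Q e f) :=
  {x | x.1 ∈ aPart hG p H ∧ x.2 ∈ aPart hG p H ∧ x ∈ pairClass (restr Q (pperp Q e f)) g}

theorem aClass_stable {hG : Good Q} {p : IsPair Q e f} {H : Subgroup (omg Q)} {γ : F × F × F} {g : omg Q}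
    (hg : g ∈ kNorm hG p H) (hg' : g ∈ pairStab Q e f) {x : pperp Q e f × pperp Q e f}
    (hx : x ∈ aClass hG p H γ) :
    ((⟨app g (x.1 : V), pairStab_pperp hg' x.1.2⟩, ⟨app g (x.2 : V), pairStab_pperp hg' x.2.2⟩) :
        pperp Q e f × pperp Q e f) ∈ aClass hG p H γ := by
  obtain ⟨h1, h2, hind, hgr⟩ := hx
  refine ⟨norm_app_a hg hg' h1, norm_app_a hg hg' h2, ?_, ?_⟩
  · refine LinearIndependent.pair_iff.2 fun s t hst => LinearIndependent.pair_iff.1 hind s t (Subtype.ext ?_)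
    have h := congrArg Subtype.val hst
    simp only [Submodule.coe_add, Submodule.coe_smul, Submodule.coe_zero, app, ← map_smul, ← map_add,
      LinearEquiv.map_eq_zero_iff] at h
    exact h
  · rw [← hgr]
    simp only [gram, restr_apply, polar_restr, q_app, b_app]

/-- A class met by the dual is covered. -/
theorem class_le (hG : Good Q) (p : IsPair Q e f) (hY : Good (restr Q (pperp Q e f))) (H : Subgroup (omg Q))
    {g : F × F × F} (hcond : 6 ≤ finrank F (pperp Q e f) ∨ ((2 : F) ≠ 0 ∧ g ≠ (0, 0, 0)))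
    (hne : (aClass hG p H g).Nonempty) :
    Nat.card (pairClass (restr Q (pperp Q e f)) g) ≤
      (kNorm hG p H).relIndex (pairStab Q e f) * Nat.card (aClass hG p H g) := by
  obtain ⟨x, hx⟩ := hne
  refine cover_pairs hG p H _ _ (fun g hg hg' x hx => aClass_stable hg hg' hx) fun c hc => ?_
  have hgram := hc.2.trans hx.2.2.2.symm
  obtain ⟨k, hk, h1, h2⟩ := pair_trans p hY hx.2.2.1 hc.1 hgram (hcond.imp_right fun ⟨h2, hg0⟩ hz => hg0 (by
    rw [← hx.2.2.2]
    simp only [gram, restr_apply, polar_restr, (mul_eq_zero.1 hz.1).resolve_left h2,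
      (mul_eq_zero.1 hz.2.1).resolve_left h2, hz.2.2]))
  exact ⟨k, hk, x, hx, h1, h2⟩

theorem card_aClass_le (hG : Good Q) (p : IsPair Q e f) (H : Subgroup (omg Q)) (g : F × F × F) :
    Nat.card (aClass hG p H g) ≤ Nat.card (aPart hG p H) * Nat.card (aPart hG p H) := by
  haveI : Finite V := Module.finite_of_finite F
  rw [← Nat.card_prod]
  exact Nat.card_le_card_of_injective (fun x => (⟨x.1.1, x.2.1⟩, ⟨x.1.2, x.2.2.1⟩)) fun x y h => by
    simp only [Prod.mk.injEq, Subtype.mk.injEq] at h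
    exact Subtype.ext (Prod.ext h.1 h.2)

omit [Fintype F] in
/-- Three different classes have disjoint parts in the dual. -/
theorem card_three_le [Finite F] {Y : Type*} [AddCommGroup Y] [Module F Y] [Finite Y] {R : QuadraticForm F Y}
    (A : AddSubgroup Y) (l : List (F × F × F)) (hl : l.Nodup) :
    (l.map fun g => Nat.card {x : Y × Y | x.1 ∈ A ∧ x.2 ∈ A ∧ x ∈ pairClass R g}).sum ≤
      Nat.card A * Nat.card A := by
  classical
  haveI := Fintype.ofFinite Y
  let f : F × F × F → Finset (Y × Y) := fun g =>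
    Finset.univ.filter fun x => x.1 ∈ A ∧ x.2 ∈ A ∧ x ∈ pairClass R g
  have hf : ∀ g, Nat.card {x : Y × Y | x.1 ∈ A ∧ x.2 ∈ A ∧ x ∈ pairClass R g} = (f g).card := fun g => by
    rw [Nat.card_coe_set_eq, ← Set.ncard_coe_finset]
    congr 1
    ext x
    simp [f]
  simp only [hf]
  rw [← List.sum_toFinset _ hl, ← Finset.card_biUnion]
  · rw [← Nat.card_prod]
    refine le_trans (Finset.card_le_card (t := Finset.univ.filter fun x : Y × Y => x.1 ∈ A ∧ x.2 ∈ A) ?_) ?_
    · intro x hx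
      simp only [Finset.mem_biUnion, f, Finset.mem_filter, Finset.mem_univ, true_and] at hx ⊢
      obtain ⟨g, -, h1, h2, -⟩ := hx
      exact ⟨h1, h2⟩
    · rw [← Set.ncard_coe_finset, ← Nat.card_coe_set_eq]
      exact Nat.card_le_card_of_injective
        (fun x => (⟨x.1.1, (Finset.mem_filter.1 x.2).2.1⟩, ⟨x.1.2, (Finset.mem_filter.1 x.2).2.2⟩))
        fun x y h => by
          simp only [Prod.mk.injEq, Subtype.mk.injEq] at h
          exact Subtype.ext (Prod.ext h.1 h.2)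
  · intro g _ g' _ hne
    refine Finset.disjoint_left.2 fun x hx hx' => hne ?_
    simp only [f, Finset.mem_filter, Finset.mem_univ, true_and] at hx hx'
    exact hx.2.2.2.symm.trans hx'.2.2.2

/-- The totally singular class is covered by twice the pairs of the dual. -/
theorem ts_class_le (hG : Good Q) (p : IsPair Q e f) (hY : Good (restr Q (pperp Q e f))) (H : Subgroup (omg Q))
    (h2 : (2 : F) ≠ 0) (hne : (aClass hG p H (0, 0, 0)).Nonempty) :
    Nat.card (pairClass (restr Q (pperp Q e f)) (0, 0, 0)) ≤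
      (kNorm hG p H).relIndex (pairStab Q e f) * (2 * (Nat.card (aPart hG p H) * Nat.card (aPart hG p H))) := by
  haveI : Finite V := Module.finite_of_finite F
  obtain ⟨ν, hν0, hν⟩ := sq_class h2
  obtain ⟨x, hx1, hx2, hxind, hxg⟩ := hne
  simp only [gram, Prod.mk.injEq] at hxg
  let S : Set (pperp Q e f × pperp Q e f) :=
    {y | ∃ k, (k = 1 ∨ k = ν) ∧ ∃ r ∈ aPart hG p H, ∃ s ∈ aPart hG p H, y = (r, k • s)}
  refine (cover_pairs hG p H S _ ?_ fun c hc => ?_).trans (Nat.mul_le_mul_left _ ?_)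
  · rintro g hg hg' _ ⟨k, hk, r, hr, s, hs, rfl⟩
    refine ⟨k, hk, _, norm_app_a hg hg' hr, _, norm_app_a hg hg' hs, Prod.ext rfl (Subtype.ext ?_)⟩
    simp [app]
  · have hc2 := hc.2
    simp only [gram, Prod.mk.injEq] at hc2
    obtain ⟨g, k, hk, h1, h3⟩ := move_two_class hY hxind hc.1 hxg.1 hxg.2.1 hxg.2.2 hc2.1 hc2.2.1 hc2.2.2 hν0 hν
    exact ⟨extW p g, extW_mem_pairStab p g, (x.1, k • x.2), ⟨k, hk, _, hx1, _, hx2, rfl⟩,
      by rw [extW_app, h1], by rw [extW_app, h3]⟩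
  · let φ : Bool × aPart hG p H × aPart hG p H → S := fun t =>
      ⟨(t.2.1.1, (bif t.1 then (1 : F) else ν) • t.2.2.1),
        ⟨_, by cases t.1 <;> simp, _, t.2.1.2, _, t.2.2.2, rfl⟩⟩
    have hφ : Function.Surjective φ := by
      rintro ⟨_, k, hk, r, hr, s, hs, rfl⟩
      rcases hk with rfl | rfl
      · exact ⟨(true, ⟨r, hr⟩, ⟨s, hs⟩), rfl⟩
      · exact ⟨(false, ⟨r, hr⟩, ⟨s, hs⟩), rfl⟩
    refine (Nat.card_le_card_of_surjective φ hφ).trans (le_of_eq ?_)
    rw [Nat.card_prod, Nat.card_prod, Nat.card_eq_fintype_card (α := Bool), Fintype.card_bool]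

end Cfsg.Agent.OrthMin
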