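/-
The root part of a subgroup of small index: it is full, has a line for its dual, or is rigid.
-/
import Cfsg.Agent.Lib.OrthMinIndex.Pairs

set_option autoImplicit false

namespace Cfsg.Agent.OrthMin

open QuadraticMap Module Cfsg.Agent.Orth Cfsg.Agent.OrthDeg

variable {F V : Type*} [Field F] [AddCommGroup V] [Module F V] {Q : QuadraticForm F V}

/-! ### Arithmetic -/

theorem pow_le_of_lt_two {p f k j : ℕ} (hp : 2 ≤ p) (h : p ^ k < 2 * (p ^ f) ^ j) : p ^ k ≤ (p ^ f) ^ j := by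
  rw [← pow_mul] at h ⊢
  refine Nat.pow_le_pow_right (by omega) ?_
  by_contra hk
  have h1 : p * p ^ (f * j) ≤ p ^ k := by
    rw [← pow_succ']; exact Nat.pow_le_pow_right (by omega) (by omega)
  nlinarith [Nat.one_le_pow (f * j) p (by omega)]

theorem le_of_lt_two {F : Type*} [Field F] [Finite F] {x d j : ℕ} (hx : x ∣ Nat.card F ^ d)
    (h : x < 2 * Nat.card F ^ j) : x ≤ Nat.card F ^ j := by
  haveI := Fintype.ofFinite F
  obtain ⟨p, hp⟩ := CharP.exists F
  obtain ⟨n, hn, hc⟩ := FiniteField.card F p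
  rw [Nat.card_eq_fintype_card, hc] at hx h ⊢
  rw [← pow_mul] at hx
  obtain ⟨k, -, rfl⟩ := (Nat.dvd_prime_pow hn).1 hx
  exact pow_le_of_lt_two hn.two_le h

theorem mul_le_of_lt {F : Type*} [Field F] [Finite F] {x d j : ℕ} (hx : x ∣ Nat.card F ^ d)
    (h : x < Nat.card F ^ j) : 2 * x ≤ Nat.card F ^ j ∧ ((2 : F) ≠ 0 → 3 * x ≤ Nat.card F ^ j) := by
  haveI := Fintype.ofFinite F
  obtain ⟨p, hp⟩ := CharP.exists F
  obtain ⟨n, hn, hc⟩ := FiniteField.card F p
  rw [Nat.card_eq_fintype_card, hc] at hx h ⊢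
  rw [← pow_mul] at hx h ⊢
  obtain ⟨k, -, rfl⟩ := (Nat.dvd_prime_pow hn).1 hx
  have hk : k + 1 ≤ (n : ℕ) * j := (Nat.pow_lt_pow_iff_right hn.one_lt).1 h
  have h1 : p * p ^ k ≤ p ^ ((n : ℕ) * j) := by rw [← pow_succ']; exact Nat.pow_le_pow_right hn.pos hk
  refine ⟨le_trans (Nat.mul_le_mul_right _ hn.two_le) h1, fun h2 => le_trans (Nat.mul_le_mul_right _ ?_) h1⟩
  by_contra hlt
  have : p = 2 := by have := hn.two_le; omega
  subst this
  exact h2 (CharP.cast_eq_zero F 2)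

theorem crude_bound {q d n A N : ℕ} (hq : 4 ≤ q) (hd : 6 ≤ d) (hb : (q - 1) * q ^ d + q ^ 4 ≤ n * q ^ 4)
    (hnA : n * A < N) (hN : 12 * N < 17 * q ^ d) : A < 2 * q ^ 3 := by
  by_contra h
  rw [not_lt] at h
  have h1 : n * (2 * q ^ 3) ≤ n * A := Nat.mul_le_mul_left _ h
  have h2 : 3 * q ≤ 4 * (q - 1) := by omega
  have h3 : 3 * q * q ^ d ≤ 4 * (n * q ^ 4) := by
    calc 3 * q * q ^ d ≤ 4 * (q - 1) * q ^ d := Nat.mul_le_mul_right _ h2
      _ = 4 * ((q - 1) * q ^ d) := by ring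
      _ ≤ _ := Nat.mul_le_mul_left _ (le_trans (Nat.le_add_right _ _) hb)
  nlinarith

theorem class_num {q d C : ℕ} (hq : 4 ≤ q) (h : (q ^ 2 - 1) * (q - 1) * (q ^ d) ^ 2 ≤ C * q ^ 6) :
    45 * (q ^ d) ^ 2 ≤ 64 * (C * q ^ 3) := by
  have h1 : 15 * q ^ 2 ≤ 16 * (q ^ 2 - 1) := by have := Nat.pow_le_pow_left hq 2; omega
  have h2 : 3 * q ≤ 4 * (q - 1) := by omega
  have h3 : 15 * q ^ 2 * (3 * q) * (q ^ d) ^ 2 ≤ 64 * (C * q ^ 6) := by
    calc 15 * q ^ 2 * (3 * q) * (q ^ d) ^ 2 ≤ 16 * (q ^ 2 - 1) * (4 * (q - 1)) * (q ^ d) ^ 2 :=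
          Nat.mul_le_mul_right _ (Nat.mul_le_mul h1 h2)
      _ = 64 * ((q ^ 2 - 1) * (q - 1) * (q ^ d) ^ 2) := by ring
      _ ≤ _ := Nat.mul_le_mul_left _ h
  refine Nat.le_of_mul_le_mul_right ?_ (show 0 < q ^ 3 by positivity)
  calc 45 * (q ^ d) ^ 2 * q ^ 3 = 15 * q ^ 2 * (3 * q) * (q ^ d) ^ 2 := by ring
    _ ≤ 64 * (C * q ^ 6) := h3
    _ = 64 * (C * q ^ 3) * q ^ 3 := by ring

theorem too_many {q d C N A : ℕ} {c j : ℕ} (hq : 4 ≤ q) (hC : 45 * (q ^ d) ^ 2 ≤ 64 * (C * q ^ 3))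
    (hN : 12 * N < 17 * q ^ d) (hA : A ≤ c * q ^ j) (hCA : C ≤ N * A) (hnum : 1088 * c * q ^ (j + 3) ≤ 540 * q ^ d) :
    False := by
  have hd : 0 < q ^ d := by positivity
  have h1 : 540 * (q ^ d) ^ 2 ≤ 64 * (12 * N) * (c * q ^ j) * q ^ 3 := by
    calc 540 * (q ^ d) ^ 2 = 12 * (45 * (q ^ d) ^ 2) := by ring
      _ ≤ 12 * (64 * (C * q ^ 3)) := Nat.mul_le_mul_left _ hC
      _ ≤ 12 * (64 * (N * (c * q ^ j) * q ^ 3)) := by
          refine Nat.mul_le_mul_left _ (Nat.mul_le_mul_left _ (Nat.mul_le_mul_right _ ?_))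
          exact hCA.trans (Nat.mul_le_mul_left _ hA)
      _ = _ := by ring
  rcases Nat.eq_zero_or_pos c with rfl | hc
  · simp at h1; omega
  have h2 : 64 * (12 * N) * (c * q ^ j) * q ^ 3 < 64 * (17 * q ^ d) * (c * q ^ j) * q ^ 3 := by
    have : 0 < c * q ^ j * q ^ 3 := by positivity
    nlinarith
  have h3 : 64 * (17 * q ^ d) * (c * q ^ j) * q ^ 3 ≤ 540 * q ^ d * q ^ d := by
    calc 64 * (17 * q ^ d) * (c * q ^ j) * q ^ 3 = (1088 * c * q ^ (j + 3)) * q ^ d := by ring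
      _ ≤ _ := Nat.mul_le_mul_right _ hnum
  rw [pow_two, ← mul_assoc] at h1
  omega

theorem pow_num {q c j d : ℕ} (hq : 4 ≤ q) (hc : 1088 * c ≤ 540 * 4 ^ (d - (j + 3))) (hd : j + 3 ≤ d) :
    1088 * c * q ^ (j + 3) ≤ 540 * q ^ d := by
  obtain ⟨k, rfl⟩ : ∃ k, d = j + 3 + k := ⟨d - (j + 3), by omega⟩
  rw [Nat.add_sub_cancel_left] at hc
  calc 1088 * c * q ^ (j + 3) ≤ 540 * 4 ^ k * q ^ (j + 3) := Nat.mul_le_mul_right _ hc
    _ ≤ 540 * q ^ k * q ^ (j + 3) :=
        Nat.mul_le_mul_right _ (Nat.mul_le_mul_left _ (Nat.pow_le_pow_left hq k))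
    _ = _ := by ring

theorem five_bound {q n A N : ℕ} (hq : 5 ≤ q) (hnb : q ^ 4 - 1 ≤ n * (q - 1)) (hnA : n * A < N)
    (hN : 12 * N < 17 * q ^ 5) : A < 2 * q ^ 2 := by
  by_contra hlt
  rw [not_lt] at hlt
  have h4 : 1 ≤ q ^ 4 := Nat.one_le_pow _ _ (by omega)
  have := Nat.mul_le_mul hnb hlt
  zify [h4, (show 1 ≤ q by omega)] at this
  zify at hnA hN hq
  nlinarith [pow_le_pow_left₀ (by norm_num : (0 : ℤ) ≤ 5) hq 4]

theorem five_pairs {q n A N : ℕ} (hq : 5 ≤ q) (hts : (q ^ 4 - 1) * (q * q ^ 2 - q) ≤ n * (2 * (A * A)))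
    (hnA : n * A < N) (hA : 0 < A) (h3 : 3 * A ≤ q ^ 2) (hN : 12 * N < 17 * q ^ 5) : False := by
  have h4 : 1 ≤ q ^ 4 := Nat.one_le_pow _ _ (by omega)
  have h5 : q ≤ q * q ^ 2 := Nat.le_mul_of_pos_right _ (by positivity)
  have h6 : 3 * ((q ^ 4 - 1) * (q * q ^ 2 - q)) < 2 * (N * q ^ 2) := by
    calc 3 * ((q ^ 4 - 1) * (q * q ^ 2 - q)) ≤ 3 * (n * (2 * (A * A))) := Nat.mul_le_mul_left _ hts
      _ = 2 * ((n * A) * (3 * A)) := by ring
      _ < 2 * (N * (3 * A)) := Nat.mul_lt_mul_of_pos_left (Nat.mul_lt_mul_of_pos_right hnA (by omega)) (by norm_num)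
      _ ≤ _ := Nat.mul_le_mul_left _ (Nat.mul_le_mul_left _ h3)
  zify [h4, h5] at h6
  zify at hN hq
  nlinarith [mul_le_mul_of_nonneg_right (pow_le_pow_left₀ (by norm_num : (0 : ℤ) ≤ 5) hq 2)
    (show (0 : ℤ) ≤ (q : ℤ) ^ 5 by positivity),
    mul_le_mul_of_nonneg_right (pow_le_pow_left₀ (by norm_num : (0 : ℤ) ≤ 5) hq 4)
    (show (0 : ℤ) ≤ (q : ℤ) ^ 3 by positivity)]

theorem five_orbit {q n N : ℕ} (hq : 5 ≤ q) (hnb : q ^ 4 - 1 ≤ n * (q - 1)) (hN : 12 * N < 17 * q ^ 5) :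
    N ≤ 2 * (n * q ^ 2) := by
  have hn3 : q ^ 3 ≤ n := by
    by_contra hlt
    rw [not_le] at hlt
    have h4 : 1 ≤ q ^ 4 := Nat.one_le_pow _ _ (by omega)
    have := hnb.trans_lt (Nat.mul_lt_mul_of_pos_right hlt (by omega : 0 < q - 1))
    zify [h4, (show 1 ≤ q by omega)] at this
    zify at hq
    nlinarith [pow_le_pow_left₀ (by norm_num : (0 : ℤ) ≤ 5) hq 3]
  nlinarith

theorem six_pairs_eq {q : ℕ} (hq : 4 ≤ q) : (q ^ 3 - 1) * (q ^ 2 + 1) * (q * ((q ^ 2 - 1) * (q + 1))) =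
    (q ^ 2 * (q ^ 3 + q - 1) - 1) * (q * (q * (q ^ 2 + q - 1)) - q) := by
  have e1 : 1 ≤ q ^ 3 := Nat.one_le_pow _ _ (by omega)
  have e2 : 1 ≤ q ^ 2 := Nat.one_le_pow _ _ (by omega)
  have e3 : 1 ≤ q ^ 3 + q := by omega
  have e4 : 1 ≤ q ^ 2 + q := by omega
  have e5 : 1 ≤ q ^ 2 * (q ^ 3 + q - 1) := Nat.one_le_iff_ne_zero.2 (Nat.mul_ne_zero (by omega) (by omega))
  have e6 : q ≤ q * (q * (q ^ 2 + q - 1)) :=
    Nat.le_mul_of_pos_right _ (Nat.mul_pos (by omega) (by omega))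
  zify [e1, e2, e3, e4, e5, e6]
  ring

theorem six_pairs {q A N : ℕ} (hq : 4 ≤ q)
    (h5 : (q ^ 3 - 1) * (q ^ 2 + 1) * (q * ((q ^ 2 - 1) * (q + 1))) ≤ N * A) (h4 : 2 * A ≤ q ^ 3)
    (hN : 12 * N < 17 * q ^ 6) : False := by
  have e1 : 1 ≤ q ^ 3 := Nat.one_le_pow _ _ (by omega)
  have e2 : 1 ≤ q ^ 2 := Nat.one_le_pow _ _ (by omega)
  have h6 : q ^ 9 ≤ (q ^ 3 - 1) * (q ^ 2 + 1) * (q * ((q ^ 2 - 1) * (q + 1))) := by
    zify [e1, e2] at hq ⊢
    nlinarith [mul_le_mul_of_nonneg_right hq (show (0 : ℤ) ≤ (q : ℤ) ^ 7 by positivity),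
      mul_le_mul_of_nonneg_right hq (show (0 : ℤ) ≤ (q : ℤ) ^ 6 by positivity),
      mul_le_mul_of_nonneg_right hq (show (0 : ℤ) ≤ (q : ℤ) ^ 5 by positivity),
      mul_le_mul_of_nonneg_right hq (show (0 : ℤ) ≤ (q : ℤ) ^ 4 by positivity),
      mul_le_mul_of_nonneg_right hq (show (0 : ℤ) ≤ (q : ℤ) ^ 3 by positivity),
      mul_le_mul_of_nonneg_right hq (show (0 : ℤ) ≤ (q : ℤ) ^ 2 by positivity)]
  have h7 : 24 * q ^ 9 ≤ 12 * N * q ^ 3 := by
    calc 24 * q ^ 9 ≤ 24 * (N * A) := Nat.mul_le_mul_left _ (h6.trans h5)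
      _ = 12 * N * (2 * A) := by ring
      _ ≤ _ := Nat.mul_le_mul_left _ h4
  have h8 := Nat.mul_lt_mul_of_pos_right hN (show 0 < q ^ 3 by positivity)
  have h9 : 17 * q ^ 6 * q ^ 3 = 17 * q ^ 9 := by ring
  omega

theorem six_orbit {q n N : ℕ} (hq : 4 ≤ q)
    (h5 : (q ^ 3 - 1) * (q ^ 2 + 1) * (q * ((q ^ 2 - 1) * (q + 1))) ≤ n * ((q ^ 3 - 1) * (q ^ 3 - q)))
    (hN : 12 * N < 17 * q ^ 6) : (q ^ 2 + 1) * (q + 1) ≤ n ∧ N ≤ 2 * (n * q ^ 3) := by
  have e1 : 1 ≤ q ^ 3 := Nat.one_le_pow _ _ (by omega)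
  have e2 : 1 ≤ q ^ 2 := Nat.one_le_pow _ _ (by omega)
  have e7 : q < q ^ 3 := lt_self_pow₀ (by omega) (by norm_num)
  have e8 : (q ^ 3 - 1) * (q ^ 3 - q) * ((q ^ 2 + 1) * (q + 1)) =
      (q ^ 3 - 1) * (q ^ 2 + 1) * (q * ((q ^ 2 - 1) * (q + 1))) := by
    zify [e1, e2, e7.le]
    ring
  have hn : (q ^ 2 + 1) * (q + 1) ≤ n := by
    refine Nat.le_of_mul_le_mul_left (?_ : (q ^ 3 - 1) * (q ^ 3 - q) * _ ≤ (q ^ 3 - 1) * (q ^ 3 - q) * n)
      (Nat.mul_pos (by omega) (by omega))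
    rw [e8, mul_comm ((q ^ 3 - 1) * (q ^ 3 - q)) n]
    exact h5
  exact ⟨hn, by nlinarith [show q ^ 3 ≤ (q ^ 2 + 1) * (q + 1) by nlinarith]⟩

theorem three_num {q d C N A : ℕ} (hd : 6 ≤ d) (hq : 4 ≤ q) (hC : 45 * (q ^ d) ^ 2 ≤ 64 * (C * q ^ 3))
    (hN : 12 * N < 17 * q ^ d) (hA : A ≤ q ^ 3) (hx : 3 * C ≤ N * A) : False := by
  have h7 : 45 * (q ^ d) ^ 2 * 3 ≤ 64 * (N * A * q ^ 3) := by
    calc 45 * (q ^ d) ^ 2 * 3 ≤ 64 * (C * q ^ 3) * 3 := Nat.mul_le_mul_right _ hC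
      _ = 64 * (3 * C * q ^ 3) := by ring
      _ ≤ _ := Nat.mul_le_mul_left _ (Nat.mul_le_mul_right _ hx)
  have h8 : 64 * (N * A * q ^ 3) ≤ 64 * (N * q ^ d) := by
    refine Nat.mul_le_mul_left _ ?_
    rw [mul_assoc]
    refine Nat.mul_le_mul_left _ ?_
    calc A * q ^ 3 ≤ q ^ 3 * q ^ 3 := Nat.mul_le_mul_right _ hA
      _ = q ^ 6 := by ring
      _ ≤ _ := Nat.pow_le_pow_right (by omega) hd
  have : 0 < q ^ d := by positivity
  nlinarith

/-! ### The trichotomy -/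

variable [FiniteDimensional F V] [Fintype F] {e f : V}

/-- The part of a finished analysis at (e, f): the root part is the orthogonal of U and the normaliser is R. -/
def IsRigid (hG : Good Q) (p : IsPair Q e f) (H : Subgroup (omg Q)) (m : ℕ) : Prop :=
  ∃ U : Submodule F (pperp Q e f),
    (∀ y, y ∈ kPart hG p H ↔ ∀ u ∈ U, polar Q (u : V) (y : V) = 0) ∧
    kNorm hG p H ⊓ lineStab Q e ≤ rGrp hG p H ∧
    (U = ⊤ ∨ ((∀ u ∈ U, Q (u : V) = 0) ∧ finrank F U + 1 ≤ m ∧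
      (finrank F V = 2 * m → finrank F V = 8 ∧
        Nat.card F ^ 3 * ((Nat.card F + 1) * (Nat.card F ^ 2 + 1)) ≤ H.relIndex (lineStab Q e))))

omit [Fintype F] [FiniteDimensional F V] in
theorem card_span_pairs [Finite F] {Y : Type*} [AddCommGroup Y] [Module F Y] [Finite Y] [FiniteDimensional F Y]
    (U : Submodule F Y) (S : Set (Y × Y))
    (hS : ∀ x ∈ S, x.1 ∈ U ∧ x.2 ∈ U ∧ LinearIndependent F ![x.1, x.2]) :
    Nat.card S ≤ (Nat.card F ^ finrank F U - 1) * (Nat.card F ^ finrank F U - Nat.card F) := by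
  classical
  haveI := Fintype.ofFinite Y
  have h1 : Nat.card {r : U // r ≠ 0} = Nat.card F ^ finrank F U - 1 := by
    have h := Nat.card_congr (Equiv.optionSubtypeNe (0 : U))
    rw [Finite.card_option, card_submodule] at h
    omega
  have h2 : ∀ r : {r : U // r ≠ 0}, Nat.card {s : U // s ∉ Submodule.span F {(r : U)}} =
      Nat.card F ^ finrank F U - Nat.card F := by
    intro r
    have h := card_split (α := U) (fun _ => True) (fun s => s ∈ Submodule.span F {(r : U)})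
    simp only [true_and, Nat.card_congr (Equiv.subtypeUnivEquiv (α := U) (fun _ => trivial))] at h
    rw [show Nat.card {s : U // s ∈ Submodule.span F {(r : U)}} = Nat.card F by
      rw [show Nat.card {s : U // s ∈ Submodule.span F {(r : U)}} = Nat.card (Submodule.span F {(r : U)}) from rfl,
        card_submodule, finrank_span_singleton r.2, pow_one], card_submodule] at h
    omega
  have h3 : Nat.card S ≤ Nat.card (Σ r : {r : U // r ≠ 0}, {s : U // s ∉ Submodule.span F {(r : U)}}) := by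
    refine Nat.card_le_card_of_injective (fun x => ⟨⟨⟨x.1.1, (hS _ x.2).1⟩, fun h => ?_⟩,
      ⟨⟨x.1.2, (hS _ x.2).2.1⟩, fun h => ?_⟩⟩) fun x y h => ?_
    · exact (hS _ x.2).2.2.ne_zero 0 (congrArg Subtype.val h)
    · obtain ⟨t, ht⟩ := Submodule.mem_span_singleton.1 h
      have h0 : x.1.1 ≠ 0 := (hS _ x.2).2.2.ne_zero 0
      exact (LinearIndependent.pair_iff' h0).1 (hS _ x.2).2.2 t (congrArg Subtype.val ht)
    · have h' := congrArg (fun z : Σ r : {r : U // r ≠ 0}, {s : U // s ∉ Submodule.span F {(r : U)}} =>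
        ((z.1.1 : Y), (z.2.1 : Y))) h
      exact Subtype.ext h'
  rw [Nat.card_sigma, Finset.sum_congr rfl fun r _ => h2 r, Finset.sum_const, Finset.card_univ, smul_eq_mul,
    ← Nat.card_eq_fintype_card, h1] at h3
  exact h3

/-- Hypothesis for the five-dimensional orthogonals. -/
def LowFiveBound (Q : QuadraticForm F V) : Prop :=
  finrank F V = 7 → 5 ≤ Nat.card F ∧ (2 : F) ≠ 0 ∧ ∀ e f : V, IsPair Q e f →
    ∀ S : Subgroup (omg (restr Q (pperp Q e f))), S ≠ ⊤ → Nat.card F ^ 4 - 1 ≤ S.index * (Nat.card F - 1)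

variable {c m : ℕ}

section Steps

variable (hG : Good Q) (p : IsPair Q e f) (H : Subgroup (omg Q))

/-- The root part contains the orthogonal of any subspace containing the dual. -/
theorem perp_le_kPart (U : Submodule F (pperp Q e f)) (hU : (aPart hG p H : Set (pperp Q e f)) ⊆ U)
    {y : pperp Q e f} (hy : ∀ u ∈ U, polar Q (u : V) (y : V) = 0) : y ∈ kPart hG p H :=
  perp_span_dualK_le (pperp_nondeg hG.nd p) _ (mem_perp.2 fun b hb => hy b ((Submodule.span_le.2 hU) hb))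

theorem dual_dvd : Nat.card (aPart hG p H) ∣ Nat.card F ^ finrank F (pperp Q e f) := by
  haveI : Finite V := Module.finite_of_finite F
  exact ⟨_, ((card_dualK (pperp_nondeg hG.nd p) (kPart hG p H)).trans (card_submodule _)).symm⟩

/-- A totally singular subspace equal to the dual gives the rigid case. -/
theorem finish_rigid {m N : ℕ} (hI : H.index < N) (U : Submodule F (pperp Q e f))
    (hAU : (aPart hG p H : Set (pperp Q e f)) ⊆ U) (hU : ∀ u ∈ U, Q (u : V) = 0) (hdim : finrank F U + 1 ≤ m)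
    (hcard : Nat.card (aPart hG p H) = Nat.card F ^ finrank F U)
    (hbig : N ≤ 2 * ((kNorm hG p H).relIndex (pairStab Q e f) * Nat.card F ^ finrank F U))
    (hexc : finrank F V = 2 * m → finrank F V = 8 ∧
        Nat.card F ^ 3 * ((Nat.card F + 1) * (Nat.card F ^ 2 + 1)) ≤ H.relIndex (lineStab Q e)) :
    IsRigid hG p H m := by
  haveI : Finite V := Module.finite_of_finite F
  haveI : Finite (omg Q) := finite_omega
  have hnd' := pperp_nondeg hG.nd p
  have hAeq : (U : Set (pperp Q e f)) = aPart hG p H := (Set.eq_of_subset_of_ncard_le hAU (by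
    rw [← Nat.card_coe_set_eq, ← Nat.card_coe_set_eq]
    show Nat.card U ≤ Nat.card (aPart hG p H)
    rw [card_submodule, hcard]) (Set.toFinite _)).symm
  have hKeq : kPart hG p H = dualK (restr Q (pperp Q e f)) (aPart hG p H) := by
    refine AddSubgroup.eq_of_le_of_card_ge (fun w hw r hr => by rw [b_comm]; exact hr w hw) ?_
    have h1 := card_dualK hnd' (aPart hG p H)
    rw [← (card_dualK hnd' (kPart hG p H)), mul_comm (Nat.card (dualK _ (kPart hG p H)))] at h1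
    exact (Nat.eq_of_mul_eq_mul_right Nat.card_pos h1).le
  refine ⟨U, fun y => ⟨fun hy u hu => ?_, fun hy => perp_le_kPart hG p H U hAU hy⟩, ?_, Or.inr ⟨hU, hdim, hexc⟩⟩
  · by_contra hne
    obtain ⟨t, ht⟩ := exists_psiP_ne (F := F)
    rw [hKeq] at hy
    have hmem : (t / polar Q (u : V) (y : V)) • u ∈ aPart hG p H := hAeq.subset (U.smul_mem _ hu)
    have h1 := hy _ hmem
    rw [polar_restr, Submodule.coe_smul, b_smul_right, b_comm (y : V) (u : V), div_mul_cancel₀ _ hne] at h1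
    exact ht h1
  · refine Subgroup.relIndex_eq_one.1 ?_
    have h1 := Subgroup.relIndex_mul_relIndex (rGrp hG p H) (kNorm hG p H ⊓ lineStab Q e) (lineStab Q e)
      (le_inf (rGrp_le_norm hG p H) rGrp_le_line) inf_le_right
    have h2 : (rGrp hG p H).relIndex (kNorm hG p H ⊓ lineStab Q e) ≠ 0 := Subgroup.index_ne_zero_of_finite
    have h3 : (kNorm hG p H).relIndex (pairStab Q e f) ≤ (kNorm hG p H ⊓ lineStab Q e).relIndex (lineStab Q e) := (norm_relIndex_le hG p H).1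
    have h4 : (rGrp hG p H).relIndex (lineStab Q e) * Nat.card F ^ finrank F U <
        2 * (kNorm hG p H).relIndex (pairStab Q e f) * Nat.card F ^ finrank F U := by
      rw [← hcard]
      calc _ ≤ H.relIndex (lineStab Q e) := chain_le hG p H
        _ ≤ H.index := relIndex_le_index' _ _
        _ < N := hI
        _ ≤ _ := by rw [hcard, mul_assoc]; exact hbig
    have h5 := Nat.lt_of_mul_lt_mul_right h4
    rw [← h1] at h5
    rcases Nat.lt_or_ge ((rGrp hG p H).relIndex (kNorm hG p H ⊓ lineStab Q e)) 2 with h | h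
    · omega
    · have := Nat.mul_le_mul h h3
      omega

theorem sing_span_data {c m' : ℕ} (hTY : HasType (restr Q (pperp Q e f)) c m') {r₀ s₀ : pperp Q e f}
    (hr₀ : r₀ ∈ aPart hG p H) (hs₀ : s₀ ∈ aPart hG p H) (hind₀ : LinearIndependent F ![r₀, s₀])
    (h : ∀ r s, r ∈ aPart hG p H → s ∈ aPart hG p H → LinearIndependent F ![r, s] →
      gram (restr Q (pperp Q e f)) (r, s) = (0, 0, 0)) :
    ∃ U : Submodule F (pperp Q e f), (aPart hG p H : Set (pperp Q e f)) ⊆ U ∧ (∀ u ∈ U, Q (u : V) = 0) ∧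
      2 ≤ finrank F U ∧ finrank F U ≤ m' ∧ Nat.card (aPart hG p H) ≤ Nat.card F ^ finrank F U := by
  haveI : Finite V := Module.finite_of_finite F
  refine ⟨Submodule.span F (aPart hG p H : Set (pperp Q e f)), Submodule.subset_span,
    span_sing h hr₀ hs₀ hind₀, ?_, ?_, ?_⟩
  · rw [← finrank_span_pair hind₀]
    exact Submodule.finrank_mono (Submodule.span_mono (by simp [Set.insert_subset_iff, hr₀, hs₀]))
  · exact sing_dim_le m' (pperp_nondeg hG.nd p) hTY _ (span_sing h hr₀ hs₀ hind₀)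
  · rw [← card_submodule]
    exact Nat.card_mono (Set.toFinite _) Submodule.subset_span

theorem ts_nonempty {r₀ s₀ : pperp Q e f} (hr₀ : r₀ ∈ aPart hG p H) (hs₀ : s₀ ∈ aPart hG p H)
    (hind₀ : LinearIndependent F ![r₀, s₀]) {U : Submodule F (pperp Q e f)} (hU : ∀ u ∈ U, Q (u : V) = 0)
    (hAU : (aPart hG p H : Set (pperp Q e f)) ⊆ U) : (aClass hG p H (0, 0, 0)).Nonempty := by
  refine ⟨(r₀, s₀), hr₀, hs₀, hind₀, ?_⟩
  simp only [gram, restr_apply, polar_restr, hU _ (hAU hr₀), hU _ (hAU hs₀)]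
  have h1 := hU _ (U.add_mem (hAU hr₀) (hAU hs₀))
  rw [Submodule.coe_add, q_add, hU _ (hAU hr₀), hU _ (hAU hs₀), zero_add, zero_add] at h1
  rw [h1]

end Steps

/-- The rigid case in a seven-dimensional space. -/
theorem rigid_five {c m' N : ℕ} (hG : Good Q) (p : IsPair Q e f) (H : Subgroup (omg Q))
    (hT : HasType Q c (m' + 1)) (hc : c ≤ 2) (hq : 4 ≤ Nat.card F) (hI : H.index < N)
    (hN : 12 * N < 17 * Nat.card F ^ finrank F (pperp Q e f))
    (hS : (kNorm hG p H).comap (extW p) ≠ ⊤) {r₀ s₀ : pperp Q e f} (hr₀ : r₀ ∈ aPart hG p H)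
    (hs₀ : s₀ ∈ aPart hG p H) (hind₀ : LinearIndependent F ![r₀, s₀]) (hn : 7 ≤ finrank F V)
    (hd5 : finrank F (pperp Q e f) < 6) (hlow : LowFiveBound Q) : IsRigid hG p H (m' + 1) := by
  haveI : Finite V := Module.finite_of_finite F
  haveI : Finite (omg Q) := finite_omega
  have hdY := finrank_pperp p
  have hY : Good (restr Q (pperp Q e f)) := ⟨pperp_nondeg hG.nd p, by omega⟩
  set d := finrank F (pperp Q e f) with hd
  set q := Nat.card F with hqd
  set A := aPart hG p H with hAd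
  set n := (kNorm hG p H).relIndex (pairStab Q e f) with hnd
  have hcardY : Nat.card (pperp Q e f) = q ^ d := card_submodule _
  have hnA : n * Nat.card A < N := (norm_mul_le hG p H).trans_lt hI
  have hchain := chain_le hG p H
  have hnle := norm_relIndex_le hG p H
  have hidx : ((kNorm hG p H).comap (extW p)).index ≤ n := by
    rw [Subgroup.index_comap]
    exact Subgroup.relIndex_le_of_le_right (by rintro _ ⟨g, rfl⟩; exact extW_mem_pairStab p g)
      Subgroup.index_ne_zero_of_finite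
  have hClass : ∀ g, 45 * (q ^ d) ^ 2 ≤ 64 * (Nat.card (pairClass (restr Q (pperp Q e f)) g) * q ^ 3) := fun g =>
    class_num hq (by rw [← hcardY]; exact class_ge hY g)
  have hAdvd : Nat.card A ∣ q ^ d := dual_dvd hG p H
  have hTY := hT.restrict p
  have hsq : n * (Nat.card A * Nat.card A) < N * Nat.card A := by
    rw [← mul_assoc]; exact Nat.mul_lt_mul_of_pos_right hnA Nat.card_pos
  have hd5 : d = 5 := by omega
  obtain ⟨hq5', h2, hb⟩ := hlow (by omega)
  have hq5 : 5 ≤ q := hq5'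
  have hm : m' = 2 ∧ c = 1 := by have := hT.1; omega
  obtain ⟨rfl, rfl⟩ := hm
  have hnb : q ^ 4 - 1 ≤ n * (q - 1) := (hb e f p _ hS).trans (Nat.mul_le_mul_right _ hidx)
  have hA2 : Nat.card A ≤ q ^ 2 := by
    exact le_of_lt_two hAdvd (five_bound hq5 hnb hnA (by rw [← hd5]; exact hN))
  have hnum : ∀ C, (q ^ 2 - 1) * (q - 1) * (q ^ d) ^ 2 ≤ C * q ^ 6 → ¬ 2 * C < N * q ^ 2 := by
    intro C hC hlt
    rw [hd5] at hC hN
    have h1 : 24 * q ^ 2 ≤ 25 * (q ^ 2 - 1) := by have := Nat.pow_le_pow_left hq5 2; omega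
    have h3 : 96 * q ^ 7 * q ^ 6 ≤ 125 * C * q ^ 6 := by
      calc 96 * q ^ 7 * q ^ 6 = 24 * q ^ 2 * (4 * q) * (q ^ 5) ^ 2 := by ring
        _ ≤ 25 * (q ^ 2 - 1) * (5 * (q - 1)) * (q ^ 5) ^ 2 :=
            Nat.mul_le_mul_right _ (Nat.mul_le_mul h1 (by omega))
        _ = 125 * ((q ^ 2 - 1) * (q - 1) * (q ^ 5) ^ 2) := by ring
        _ ≤ 125 * (C * q ^ 6) := Nat.mul_le_mul_left _ hC
        _ = _ := by ring
    have h4 := Nat.le_of_mul_le_mul_right h3 (by positivity)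
    nlinarith [Nat.zero_le (q ^ 7)]
  have hone : ∀ r s r' s', r ∈ A → s ∈ A → LinearIndependent F ![r, s] → r' ∈ A → s' ∈ A →
      LinearIndependent F ![r', s'] → gram (restr Q (pperp Q e f)) (r, s) ≠ (0, 0, 0) →
      gram (restr Q (pperp Q e f)) (r', s') ≠ (0, 0, 0) →
      gram (restr Q (pperp Q e f)) (r, s) = gram (restr Q (pperp Q e f)) (r', s') := by
    intro r s r' s' hr hs hi hr' hs' hi' hg hg'
    by_contra hne
    have h1 := class_le hG p hY H (Or.inr ⟨h2, hg⟩) ⟨(r, s), hr, hs, hi, rfl⟩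
    have h1' := class_le hG p hY H (Or.inr ⟨h2, hg'⟩) ⟨(r', s'), hr', hs', hi', rfl⟩
    have h3 := card_three_le (R := restr Q (pperp Q e f)) A
      [gram (restr Q (pperp Q e f)) (r, s), gram (restr Q (pperp Q e f)) (r', s')] (by simp [hne])
    simp only [List.map_cons, List.map_nil, List.sum_cons, List.sum_nil, add_zero] at h3
    have h5 := Nat.add_le_add h1 h1'
    rw [← Nat.mul_add] at h5
    have h6 := h5.trans (Nat.mul_le_mul_left n h3)
    have h7 : N * Nat.card A ≤ N * q ^ 2 := Nat.mul_le_mul_left _ hA2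
    rcases le_total (Nat.card (pairClass (restr Q (pperp Q e f)) (gram (restr Q (pperp Q e f)) (r, s))))
      (Nat.card (pairClass (restr Q (pperp Q e f)) (gram (restr Q (pperp Q e f)) (r', s')))) with hle | hle
    · exact hnum _ (by rw [← hcardY]; exact class_ge hY (gram (restr Q (pperp Q e f)) (r, s))) (by omega)
    · exact hnum _ (by rw [← hcardY]; exact class_ge hY (gram (restr Q (pperp Q e f)) (r', s'))) (by omega)
  obtain ⟨U, hAU, hU, hw2, hwm, hAw⟩ := sing_span_data hG p H hTY hr₀ hs₀ hind₀ (one_class h2 hone)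
  have hw : finrank F U = 2 := by omega
  have hts := (ts_ge hY.nd (m := 0) hTY).trans (ts_class_le hG p hY H h2 (ts_nonempty hG p H hr₀ hs₀ hind₀ hU hAU))
  have hz : zc q 1 2 = q ^ 4 ∧ zc q 1 1 = q ^ 2 := by
    obtain ⟨p', hp'⟩ : ∃ p', q = p' + 1 := ⟨q - 1, by omega⟩
    rw [hp']
    constructor <;> simp only [zc, Nat.add_sub_cancel] <;> ring
  rw [hz.1, hz.2] at hts
  have hAeq : Nat.card A = q ^ 2 := by
    by_contra hne
    exact five_pairs hq5 hts hnA Nat.card_pos ((mul_le_of_lt hAdvd (lt_of_le_of_ne hA2 hne)).2 h2)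
      (by rw [← hd5]; exact hN)
  refine finish_rigid hG p H hI U hAU hU (by omega) (by rw [hw, hAeq]) ?_ fun h => by omega
  rw [hw]
  exact five_orbit hq5 hnb (by rw [← hd5]; exact hN)

/-- The rigid case in larger spaces. -/
theorem rigid_six {c m' N : ℕ} (hG : Good Q) (p : IsPair Q e f) (H : Subgroup (omg Q))
    (hT : HasType Q c (m' + 1)) (hc : c ≤ 2) (hq : 4 ≤ Nat.card F) (hI : H.index < N)
    (hN : 12 * N < 17 * Nat.card F ^ finrank F (pperp Q e f))
    (hS : (kNorm hG p H).comap (extW p) ≠ ⊤) {r₀ s₀ : pperp Q e f} (hr₀ : r₀ ∈ aPart hG p H)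
    (hs₀ : s₀ ∈ aPart hG p H) (hind₀ : LinearIndependent F ![r₀, s₀]) (hn : 7 ≤ finrank F V)
    (hd6 : 6 ≤ finrank F (pperp Q e f)) : IsRigid hG p H (m' + 1) := by
  haveI : Finite V := Module.finite_of_finite F
  haveI : Finite (omg Q) := finite_omega
  have hdY := finrank_pperp p
  have hY : Good (restr Q (pperp Q e f)) := ⟨pperp_nondeg hG.nd p, by omega⟩
  set d := finrank F (pperp Q e f) with hd
  set q := Nat.card F with hqd
  set A := aPart hG p H with hAd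
  set n := (kNorm hG p H).relIndex (pairStab Q e f) with hnd
  have hcardY : Nat.card (pperp Q e f) = q ^ d := card_submodule _
  have hnA : n * Nat.card A < N := (norm_mul_le hG p H).trans_lt hI
  have hchain := chain_le hG p H
  have hnle := norm_relIndex_le hG p H
  have hidx : ((kNorm hG p H).comap (extW p)).index ≤ n := by
    rw [Subgroup.index_comap]
    exact Subgroup.relIndex_le_of_le_right (by rintro _ ⟨g, rfl⟩; exact extW_mem_pairStab p g)
      Subgroup.index_ne_zero_of_finite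
  have hClass : ∀ g, 45 * (q ^ d) ^ 2 ≤ 64 * (Nat.card (pairClass (restr Q (pperp Q e f)) g) * q ^ 3) := fun g =>
    class_num hq (by rw [← hcardY]; exact class_ge hY g)
  have hAdvd : Nat.card A ∣ q ^ d := dual_dvd hG p H
  have hTY := hT.restrict p
  have hsq : n * (Nat.card A * Nat.card A) < N * Nat.card A := by
    rw [← mul_assoc]; exact Nat.mul_lt_mul_of_pos_right hnA Nat.card_pos
  have hcrude := (index_gt_crude hY (by omega) hS).trans (Nat.mul_le_mul_right _ hidx)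
  have hA3 : Nat.card A ≤ q ^ 3 := le_of_lt_two hAdvd (crude_bound hq hd6 hcrude hnA hN)
  have hone : ∀ g, (aClass hG p H g).Nonempty → Nat.card (pairClass (restr Q (pperp Q e f)) g) ≤
      n * Nat.card (aClass hG p H g) := fun g hne => class_le hG p hY H (Or.inl hd6) hne
  have hCA : ∀ g, (aClass hG p H g).Nonempty →
      Nat.card (pairClass (restr Q (pperp Q e f)) g) ≤ N * Nat.card A := fun g hne =>
    ((hone g hne).trans (Nat.mul_le_mul_left _ (card_aClass_le hG p H g))).trans hsq.le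
  have h3 : ∀ p₁ p₂ p₃ : pperp Q e f × pperp Q e f,
      (∀ x ∈ [p₁, p₂, p₃], x.1 ∈ A ∧ x.2 ∈ A ∧ LinearIndependent F ![x.1, x.2]) →
      gram (restr Q (pperp Q e f)) p₁ = gram (restr Q (pperp Q e f)) p₂ ∨
      gram (restr Q (pperp Q e f)) p₁ = gram (restr Q (pperp Q e f)) p₃ ∨
      gram (restr Q (pperp Q e f)) p₂ = gram (restr Q (pperp Q e f)) p₃ := by
    intro p₁ p₂ p₃ hp
    by_contra hne
    push Not at hne
    have hmem : ∀ x ∈ [p₁, p₂, p₃], (aClass hG p H (gram (restr Q (pperp Q e f)) x)).Nonempty :=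
      fun x hx => ⟨x, (hp x hx).1, (hp x hx).2.1, (hp x hx).2.2, rfl⟩
    have h4 := card_three_le (R := restr Q (pperp Q e f)) A
      ([p₁, p₂, p₃].map (gram (restr Q (pperp Q e f)))) (by simp [hne.1, hne.2.1, hne.2.2])
    simp only [List.map_cons, List.map_nil, List.sum_cons, List.sum_nil, add_zero] at h4
    have h5 := Nat.add_le_add (hone _ (hmem p₁ (by simp)))
      (Nat.add_le_add (hone _ (hmem p₂ (by simp))) (hone _ (hmem p₃ (by simp))))
    rw [← Nat.mul_add, ← Nat.mul_add] at h5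
    have h6 := (h5.trans (Nat.mul_le_mul_left n h4)).trans hsq.le
    obtain ⟨x, hx⟩ : ∃ x, 3 * Nat.card (pairClass (restr Q (pperp Q e f)) x) ≤ N * Nat.card A := by
      by_contra hall
      push Not at hall
      have := hall (gram (restr Q (pperp Q e f)) p₁)
      have := hall (gram (restr Q (pperp Q e f)) p₂)
      have := hall (gram (restr Q (pperp Q e f)) p₃)
      omega
    exact three_num hd6 hq (hClass x) hN hA3 hx
  rcases few_classes h3 with hts | hA4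
  swap
  · exfalso
    refine too_many (c := 4) (j := 0) hq (hClass _) hN (by rw [pow_zero, mul_one]; exact hA4)
      (hCA _ ⟨(r₀, s₀), hr₀, hs₀, hind₀, rfl⟩) (pow_num hq ?_ (by omega))
    have : 4 ^ 3 ≤ 4 ^ (d - (0 + 3)) := Nat.pow_le_pow_right (by norm_num) (by omega)
    omega
  obtain ⟨U, hAU, hU, hw2, hwm, hAw⟩ := sing_span_data hG p H hTY hr₀ hs₀ hind₀ hts
  have hz := ts_nonempty hG p H hr₀ hs₀ hind₀ hU hAU
  have hd4 : d < finrank F U + 4 := by
    by_contra hge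
    refine too_many (c := 1) (j := finrank F U) hq (hClass _) hN (by rw [one_mul]; exact hAw) (hCA _ hz)
      (pow_num hq ?_ (by omega))
    have : 4 ^ 1 ≤ 4 ^ (d - (finrank F U + 3)) := Nat.pow_le_pow_right (by norm_num) (by omega)
    omega
  obtain ⟨rfl, rfl, hw, hd'⟩ : m' = 3 ∧ c = 0 ∧ finrank F U = 3 ∧ d = 6 := by have := hT.1; omega
  have hts' := ts_ge hY.nd (m := 1) hTY
  obtain ⟨p', hp'⟩ : ∃ p', q = p' + 1 := ⟨q - 1, by omega⟩
  have hz3 : zc q 0 3 = q ^ 2 * (q ^ 3 + q - 1) ∧ zc q 0 2 = q * (q ^ 2 + q - 1) := by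
    rw [hp']
    constructor <;> simp only [zc, Nat.add_sub_cancel, ← Nat.add_assoc] <;> ring
  rw [hz3.1, hz3.2, ← six_pairs_eq hq] at hts'
  rw [hd'] at hN
  have hAeq : Nat.card A = q ^ 3 := by
    by_contra hne
    exact six_pairs hq (hts'.trans (hCA _ hz)) (mul_le_of_lt hAdvd (lt_of_le_of_ne hA3 hne)).1 hN
  have h4 := card_span_pairs U (aClass hG p H (0, 0, 0)) (fun x hx => ⟨hAU hx.1, hAU hx.2.1, hx.2.2.1⟩)
  rw [hw] at h4
  obtain ⟨hn6, hbig⟩ := six_orbit hq (hts'.trans ((hone _ hz).trans (Nat.mul_le_mul_left n h4))) hN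
  refine finish_rigid hG p H hI U hAU hU (by omega) (by rw [hw, hAeq]) (by rw [hw]; exact hbig)
    fun _ => ⟨by omega, ?_⟩
  calc q ^ 3 * ((q + 1) * (q ^ 2 + 1)) ≤ q ^ 3 * n := Nat.mul_le_mul_left _ (by rw [mul_comm]; exact hn6)
    _ = n * Nat.card A := by rw [hAeq, mul_comm]
    _ ≤ (rGrp hG p H).relIndex (lineStab Q e) * Nat.card A := Nat.mul_le_mul_right _ (hnle.1.trans hnle.2)
    _ ≤ _ := hchain

/-- The three possibilities at a point. -/
theorem trichotomy {c m N : ℕ} (hG : Good Q) (hn : 7 ≤ finrank F V) (hT : HasType Q c m) (hc : c ≤ 2)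
    (hq : 4 ≤ Nat.card F) (hlow : LowFiveBound Q) (p : IsPair Q e f) (H : Subgroup (omg Q))
    (hI : H.index < N) (hN : 12 * N < 17 * Nat.card F ^ finrank F (pperp Q e f)) :
    kPart hG p H = ⊤ ∨
      (∃ v : pperp Q e f, ∀ y : pperp Q e f, polar Q (v : V) (y : V) = 0 → y ∈ kPart hG p H) ∨
      IsRigid hG p H m := by
  haveI : Finite V := Module.finite_of_finite F
  haveI : Finite (omg Q) := finite_omega
  have hdY := finrank_pperp p
  have hY : Good (restr Q (pperp Q e f)) := ⟨pperp_nondeg hG.nd p, by omega⟩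
  by_cases hK : kPart hG p H = ⊤
  · exact Or.inl hK
  right
  set d := finrank F (pperp Q e f) with hd
  set q := Nat.card F with hqd
  set K := kPart hG p H with hKd
  set A := aPart hG p H with hAd
  have hcardY : Nat.card (pperp Q e f) = q ^ d := card_submodule _
  have hAK : Nat.card A * Nat.card K = q ^ d := by rw [← hcardY]; exact card_dualK hY.nd K
  have hNd : N < 2 * q ^ d := by omega
  have hchain := chain_le hG p H
  by_cases hS : (kNorm hG p H).comap (extW p) = ⊤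
  · -- the root part is invariant under the whole Omega of the orthogonal
    right
    have hinv : ∀ g : omg (restr Q (pperp Q e f)), ∀ y ∈ K, app g y ∈ K := fun g y hy => by
      have h1 := (norm_app (hS.ge (Subgroup.mem_top g) : extW p g ∈ kNorm hG p H) (extW_mem_pairStab p g)).1 hy
      rwa [show (⟨app (extW p g) (y : V), pairStab_pperp (extW_mem_pairStab p g) y.2⟩ : pperp Q e f) = app g y
        from Subtype.ext (extW_app p g y)] at h1
    have hbot := (invariant_bot_or_top hY K hinv).resolve_right hK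
    have hA : Nat.card A = q ^ d := by rw [hbot, AddSubgroup.card_bot, mul_one] at hAK; exact hAK
    have ha : (rGrp hG p H).relIndex (lineStab Q e) = 1 := by
      have h1 : (rGrp hG p H).relIndex (lineStab Q e) * q ^ d < 2 * q ^ d := by
        rw [← hA]
        calc _ ≤ H.relIndex (lineStab Q e) := hchain
          _ ≤ H.index := relIndex_le_index' _ _
          _ < N := hI
          _ < _ := by rw [hA]; exact hNd
      have h2 := Nat.lt_of_mul_lt_mul_right h1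
      have h3 : (rGrp hG p H).relIndex (lineStab Q e) ≠ 0 := Subgroup.index_ne_zero_of_finite
      omega
    refine ⟨⊤, fun y => ?_, inf_le_right.trans (Subgroup.relIndex_eq_one.1 ha), Or.inl rfl⟩
    rw [← hKd, hbot, AddSubgroup.mem_bot]
    exact ⟨fun h u _ => by rw [h]; exact b_zero_right _, fun h => eq_zero_of_b hY.nd fun u => by
      rw [polar_restr, b_comm]; exact h u trivial⟩
  by_cases hline : ∀ r s, r ∈ A → s ∈ A → ¬ LinearIndependent F ![r, s]
  · left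
    obtain ⟨v, hv⟩ : ∃ v : pperp Q e f, ∀ a ∈ A, a ∈ Submodule.span F {v} := by
      by_cases h0 : ∃ a ∈ A, a ≠ 0
      · obtain ⟨v, hvA, hv0⟩ := h0
        refine ⟨v, fun a ha => ?_⟩
        have h1 := hline v a hvA ha
        rw [LinearIndependent.pair_iff' hv0] at h1
        push Not at h1
        obtain ⟨t, ht⟩ := h1
        exact ht ▸ Submodule.smul_mem _ _ (Submodule.mem_span_singleton_self v)
      · push Not at h0
        exact ⟨0, fun a ha => by rw [h0 a ha]; exact Submodule.zero_mem _⟩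
    refine ⟨v, fun y hy => perp_le_kPart hG p H _ hv fun u hu => ?_⟩
    obtain ⟨t, rfl⟩ := Submodule.mem_span_singleton.1 hu
    rw [Submodule.coe_smul, b_smul_left, hy, mul_zero]
  push Not at hline
  obtain ⟨r₀, s₀, hr₀, hs₀, hind₀⟩ := hline
  right
  obtain ⟨m', rfl⟩ : ∃ m', m = m' + 1 := ⟨m - 1, by have := hT.1; omega⟩
  rcases Nat.lt_or_ge d 6 with hd5 | hd6
  · exact rigid_five hG p H hT hc hq hI hN hS hr₀ hs₀ hind₀ hn hd5 hlow
  · exact rigid_six hG p H hT hc hq hI hN hS hr₀ hs₀ hind₀ hn hd6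

end Cfsg.Agent.OrthMin
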