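/-
The subspace of root directions at a singular point and the final classification at a point.
-/
import Cfsg.Agent.Lib.OrthMinIndex.Rigid

set_option autoImplicit false

namespace Cfsg.Agent.OrthMin

open QuadraticMap Module Cfsg.Agent.Orth Cfsg.Agent.OrthDeg

variable {F V : Type*} [Field F] [AddCommGroup V] [Module F V] {Q : QuadraticForm F V}
variable [FiniteDimensional F V] [Fintype F]

/-- The root directions at x with all their multiples in H. -/
noncomputable def ks (Q : QuadraticForm F V) (H : Subgroup (omg Q)) (x : V) : Submodule F V :=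
  Submodule.span F {w | polar Q x w = 0 ∧ ∀ c : F, tr Q x (c • w) ∈ H}

/-- The orthogonal of the root directions. -/
noncomputable def wk (Q : QuadraticForm F V) (H : Subgroup (omg Q)) (x : V) : Submodule F V := perp Q (ks Q H x)

/-- All root elements at x are in H. -/
def IsFullAt (Q : QuadraticForm F V) (H : Subgroup (omg Q)) (x : V) : Prop :=
  ∀ w, polar Q x w = 0 → tr Q x w ∈ H

/-- No root direction besides x, and the whole stabiliser of a pair of lines is in H. -/
def IsZAt (Q : QuadraticForm F V) (H : Subgroup (omg Q)) (x : V) : Prop :=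
  ks Q H x ≤ Submodule.span F {x} ∧ ∃ f, IsPair Q x f ∧
    ∀ g : omg Q, app g x ∈ Submodule.span F {x} → app g f ∈ Submodule.span F {f} → g ∈ H

/-- A totally singular plane or solid of points related to x. -/
def IsPlAt (Q : QuadraticForm F V) (H : Subgroup (omg Q)) (x : V) (m : ℕ) : Prop :=
  ∃ U : Submodule F V, (∀ u ∈ U, Q u = 0 ∧ polar Q x u = 0) ∧ x ∉ U ∧
    wk Q H x ≤ Submodule.span F {x} ⊔ U ∧
    (∀ u ∈ U, ∀ w, polar Q x w = 0 → polar Q u w = 0 → tr Q u w ∈ H) ∧ finrank F U + 1 ≤ m ∧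
    (finrank F V = 2 * m → finrank F V = 8 ∧
      Nat.card F ^ 3 * ((Nat.card F + 1) * (Nat.card F ^ 2 + 1)) ≤ H.relIndex (lineStab Q x))

variable {H : Subgroup (omg Q)} {x : V}

theorem mem_ks (hG : Good Q) (hx : Q x = 0) {w : V} :
    w ∈ ks Q H x ↔ polar Q x w = 0 ∧ ∀ c : F, tr Q x (c • w) ∈ H := by
  refine ⟨fun hw => ?_, fun hw => Submodule.subset_span hw⟩
  induction hw using Submodule.span_induction with
  | mem w hw => exact hw
  | zero => exact ⟨b_zero_right x, fun c => by rw [smul_zero, tr_zero hG hx]; exact H.one_mem⟩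
  | add a b _ _ ha hb =>
    refine ⟨by rw [b_add_right, ha.1, hb.1, add_zero], fun c => ?_⟩
    rw [smul_add, tr_add hG hx (by rw [b_smul_right, ha.1, mul_zero]) (by rw [b_smul_right, hb.1, mul_zero])]
    exact H.mul_mem (ha.2 c) (hb.2 c)
  | smul t a _ ha =>
    exact ⟨by rw [b_smul_right, ha.1, mul_zero], fun c => by rw [smul_smul]; exact ha.2 _⟩

theorem tr_mem_of_ks (hG : Good Q) (hx : Q x = 0) {w : V} (hw : w ∈ ks Q H x) : tr Q x w ∈ H := by
  have h := ((mem_ks hG hx).1 hw).2 1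
  rwa [one_smul] at h

theorem self_mem_ks (hG : Good Q) (hx : Q x = 0) : x ∈ ks Q H x :=
  (mem_ks hG hx).2 ⟨by rw [b_self, hx, mul_zero], fun c => by rw [tr_self hG hx]; exact H.one_mem⟩

theorem self_mem_wk (hG : Good Q) (hx : Q x = 0) : x ∈ wk Q H x :=
  fun b hb => by rw [b_comm]; exact ((mem_ks hG hx).1 hb).1

theorem perp_wk (hG : Good Q) : perp Q (wk Q H x) = ks Q H x := perp_perp hG.nd _

theorem isFullAt_of_perp (hG : Good Q) (hx : Q x = 0) (h : wk Q H x ≤ Submodule.span F {x}) :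
    IsFullAt Q H x := fun w hw => tr_mem_of_ks hG hx (by
  rw [← perp_wk hG]
  intro b hb
  obtain ⟨t, rfl⟩ := Submodule.mem_span_singleton.1 (h hb)
  rw [b_smul_left, hw, mul_zero])

theorem full_ks (hG : Good Q) (hx : Q x = 0) (h : IsFullAt Q H x) {w : V} (hw : polar Q x w = 0) :
    w ∈ ks Q H x :=
  (mem_ks hG hx).2 ⟨hw, fun c => h _ (by rw [b_smul_right, hw, mul_zero])⟩

variable {e f : V}

/-- A forward stability is enough for the normaliser. -/
theorem mem_kNorm_of_forward (hG : Good Q) (p : IsPair Q e f) {g : omg Q} (hg : g ∈ lineStab Q e)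
    (h : ∀ y : pperp Q e f, tr Q e (y : V) ∈ H → g * tr Q e (y : V) * g⁻¹ ∈ H) : g ∈ kNorm hG p H := by
  haveI : Finite (omg Q) := finite_omega
  have hfw : ∀ x, x ∈ H ∧ x ∈ rootSub hG p → g * x * g⁻¹ ∈ H ∧ g * x * g⁻¹ ∈ rootSub hG p := by
    rintro x ⟨hx, hx'⟩
    refine ⟨?_, root_conj hG p hg hx'⟩
    obtain ⟨y, rfl⟩ := hx'
    exact h _ hx
  refine mem_kNorm.2 fun x => ⟨hfw x, fun hx => ?_⟩
  let φ : {x : omg Q // x ∈ H ∧ x ∈ rootSub hG p} → {x : omg Q // x ∈ H ∧ x ∈ rootSub hG p} :=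
    fun z => ⟨g * z.1 * g⁻¹, hfw z.1 z.2⟩
  obtain ⟨z, hz⟩ := (Finite.injective_iff_surjective.1 (fun a b hab => Subtype.ext (mul_left_cancel
    (mul_right_cancel (congrArg Subtype.val hab)))) : Function.Surjective φ) ⟨_, hx⟩
  rw [← mul_left_cancel (mul_right_cancel (congrArg Subtype.val hz))]
  exact z.2

/-- At a rigid pair the elements fixing both lines and preserving U lie in R. -/
theorem rigid_mem_rGrp (hG : Good Q) (p : IsPair Q e f) {U : Submodule F (pperp Q e f)}
    (hK : ∀ y, y ∈ kPart hG p H ↔ ∀ u ∈ U, polar Q (u : V) (y : V) = 0)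
    (hR : kNorm hG p H ⊓ lineStab Q e ≤ rGrp hG p H) {g : omg Q} {a b : F} (ha : a ≠ 0) (hb : b ≠ 0)
    (hge : app g e = a • e) (hgf : app g f = b • f)
    (hgU : ∀ u ∈ U, ∃ v ∈ U, app g (u : V) = (v : V)) : g ∈ kNorm hG p H ∧ g ∈ rGrp hG p H := by
  haveI : Finite V := Module.finite_of_finite F
  have hP : g ∈ lineStab Q e := ⟨a, ha, hge⟩
  have hn : g ∈ kNorm hG p H := by
    refine mem_kNorm_of_forward hG p hP fun y hy => ?_
    obtain ⟨h1, h2⟩ := mem_pperp.1 y.2
    have hY : a • app g (y : V) ∈ pperp Q e f := by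
      refine Submodule.smul_mem _ _ (mem_pperp.2 ⟨?_, ?_⟩)
      · have h := b_app g e (y : V)
        rw [hge, b_smul_left, h1] at h
        exact (mul_eq_zero.1 h).resolve_left ha
      · have h := b_app g f (y : V)
        rw [hgf, b_smul_left, h2] at h
        exact (mul_eq_zero.1 h).resolve_left hb
    rw [(conj_tr hG p.qe hge h1 ha).2]
    refine (mem_kPart (y := (⟨_, hY⟩ : pperp Q e f))).1 ((hK _).2 fun u hu => ?_)
    choose v hv hgv using hgU
    let ψ : U → U := fun z => ⟨v z.1 z.2, hv z.1 z.2⟩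
    obtain ⟨z, hz⟩ := (Finite.injective_iff_surjective.1 (fun s t hst => Subtype.ext (Subtype.ext (by
      have h3 := congrArg (fun r : U => ((r : pperp Q e f) : V)) hst
      simp only [ψ] at h3
      rw [← hgv s.1 s.2, ← hgv t.1 t.2] at h3
      exact g.1.1.injective h3))) : Function.Surjective ψ) ⟨u, hu⟩
    have h3 : app g ((z : pperp Q e f) : V) = (u : V) := by
      rw [hgv z.1 z.2]
      exact congrArg (fun r : U => ((r : pperp Q e f) : V)) hz
    show polar Q (u : V) (a • app g (y : V)) = 0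
    rw [b_smul_right, ← h3, b_app, (hK y).1 (mem_kPart.2 hy) z.1 z.2, mul_zero]
  exact ⟨hn, hR ⟨hn, hP⟩⟩

/-- A rigid pair can be moved so that a scaling lies in H. -/
theorem rigid_shift (hG : Good Q) (hq : 4 ≤ Nat.card F) {m : ℕ} (p : IsPair Q e f) (h : IsRigid hG p H m) :
    ∃ f', IsPair Q e f' ∧ ∃ σ : F, σ ≠ 0 ∧ σ ≠ 1 ∧ ∃ h ∈ H, app h e = σ • e ∧ app h f' = σ⁻¹ • f' ∧
      ∀ y ∈ pperp Q e f', app h y = y := by
  obtain ⟨U, hK, hR, -⟩ := h
  obtain ⟨s, hs, hs1⟩ : ∃ s : F, s ≠ 0 ∧ s * s ≠ 1 := by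
    by_contra hcon
    push Not at hcon
    classical
    have hsub : (Finset.univ : Finset F) ⊆ {0, 1, -1} := fun x _ => by
      rcases eq_or_ne x 0 with rfl | hx
      · simp
      · rcases mul_self_eq_one_iff.1 (hcon x hx) with h | h <;> simp [h]
    have := (Finset.card_le_card hsub).trans Finset.card_le_three
    rw [Finset.card_univ, ← Nat.card_eq_fintype_card] at this
    omega
  obtain ⟨h, he, hf, hy⟩ := scale_mem hG p hs
  have hσ : s * s ≠ 0 := mul_ne_zero hs hs
  obtain ⟨-, hh, t, ht, htH⟩ := rigid_mem_rGrp hG p hK hR hσ (b := s⁻¹ * s⁻¹)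
    (mul_ne_zero (inv_ne_zero hs) (inv_ne_zero hs)) he hf (fun u hu => ⟨u, hu, hy _ u.2⟩)
  obtain ⟨u, hu, rfl⟩ := (mem_root hG p).1 ht
  obtain ⟨σ, hσdef⟩ : ∃ σ : F, s * s = σ := ⟨_, rfl⟩
  rw [hσdef] at he hσ hs1
  rw [show s⁻¹ * s⁻¹ = σ⁻¹ by rw [← hσdef, mul_inv]] at hf
  have hne : σ⁻¹ - 1 ≠ 0 := sub_ne_zero.2 fun h1 => hs1 (inv_eq_one.1 h1)
  obtain ⟨v, hvdef⟩ : ∃ v, (σ⁻¹ - 1)⁻¹ • (u - polar Q u f • e) = v := ⟨_, rfl⟩
  have huY := perp_part_mem p hu
  have hv : v ∈ pperp Q e f := hvdef ▸ Submodule.smul_mem _ _ huY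
  have hev : polar Q e v = 0 := (mem_pperp.1 hv).1
  obtain ⟨k, hk⟩ : ∃ k, tr Q e v = k := ⟨_, rfl⟩
  have hke : app k e = e := by rw [← hk]; exact tr_fix hG p.qe hev p.ee hev
  have hfpair : IsPair Q e (app k f) :=
    ⟨p.qe, by rw [q_app, p.qd], by conv_lhs => rw [← hke, b_app, p.ed]⟩
  have key : k * h * k⁻¹ = h * tr Q e u := by
    have h1 := conj_tr hG p.qe (g := h⁻¹) (s := σ⁻¹) (by
      have := congrArg (app h⁻¹) he
      rw [app_inv_app, app, map_smul] at this
      show h⁻¹.1.1 e = _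
      rw [eq_inv_smul_iff₀ hσ]
      exact this.symm) hev (inv_ne_zero hσ)
    rw [inv_inv] at h1
    have h2 : app h⁻¹ v = v := by conv_lhs => rw [← hy v hv, app_inv_app]
    rw [h2] at h1
    rw [← hk, ← tr_neg hG p.qe hev,
      show tr Q e v * h * tr Q e (-v) = h * ((h⁻¹ * tr Q e v * h) * tr Q e (-v)) by group, h1.2,
      ← tr_add hG p.qe h1.1 (by rw [← neg_one_smul F v, b_smul_right, hev, mul_zero]),
      show σ⁻¹ • v + -v = (σ⁻¹ - 1) • v by module, ← hvdef, smul_smul, mul_inv_cancel₀ hne, one_smul]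
    conv_rhs => rw [← sub_add_cancel u (polar Q u f • e), tr_shift hG p.qe (mem_pperp.1 huY).1]
  refine ⟨app k f, hfpair, σ, hσ, hs1, k * h * k⁻¹, key ▸ htH, ?_, ?_, fun y hyY => ?_⟩
  · rw [app_mul, app_mul, show app k⁻¹ e = e by conv_lhs => rw [← hke, app_inv_app], he, app, map_smul]
    exact congrArg (σ • ·) hke
  · rw [app_mul, app_mul, app_inv_app, hf, app, map_smul]
  · rw [app_mul, app_mul]
    obtain ⟨h1, h2⟩ := mem_pperp.1 hyY
    have h3 : app k⁻¹ y ∈ pperp Q e f := mem_pperp.2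
      ⟨by rw [← b_app k, app_app_inv, hke, h1], by rw [← b_app k, app_app_inv, h2]⟩
    rw [hy _ h3, app_app_inv]

/-- At a rigid pair with a scaling in H the stabiliser of the two lines and U lies in H. -/
theorem rigid_mem (hG : Good Q) (p : IsPair Q e f) {U : Submodule F (pperp Q e f)}
    (hK : ∀ y, y ∈ kPart hG p H ↔ ∀ u ∈ U, polar Q (u : V) (y : V) = 0)
    (hR : kNorm hG p H ⊓ lineStab Q e ≤ rGrp hG p H) {h : omg Q} (hh : h ∈ H) {σ : F} (hσ : σ ≠ 0) (hσ1 : σ ≠ 1)
    (he : app h e = σ • e) (hf : app h f = σ⁻¹ • f) (hy : ∀ y ∈ pperp Q e f, app h y = y)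
    {g : omg Q} {a b : F} (ha : a ≠ 0) (hb : b ≠ 0) (hge : app g e = a • e) (hgf : app g f = b • f)
    (hgU : ∀ u ∈ U, ∃ v ∈ U, app g (u : V) = (v : V)) : g ∈ H := by
  obtain ⟨hn, -, t, ht, htH⟩ := rigid_mem_rGrp hG p hK hR ha hb hge hgf hgU
  obtain ⟨y, rfl⟩ := ht
  have hy0 : polar Q e (y.toAdd : V) = 0 := (mem_pperp.1 y.toAdd.2).1
  have hcomm : h * g = g * h := by
    refine omg_ext fun x => ?_
    have hgy : app g (x - polar Q x f • e - polar Q x e • f) ∈ pperp Q e f := by
      obtain ⟨h1, h2⟩ := mem_pperp.1 (pperp_part p x)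
      refine mem_pperp.2 ⟨?_, ?_⟩
      · have h3 := b_app g e (x - polar Q x f • e - polar Q x e • f)
        rw [hge, b_smul_left, h1] at h3
        exact (mul_eq_zero.1 h3).resolve_left ha
      · have h3 := b_app g f (x - polar Q x f • e - polar Q x e • f)
        rw [hgf, b_smul_left, h2] at h3
        exact (mul_eq_zero.1 h3).resolve_left hb
    have hge' : g.1.1 e = a • e := hge
    have hgf' : g.1.1 f = b • f := hgf
    have he' : h.1.1 e = σ • e := he
    have hf' : h.1.1 f = σ⁻¹ • f := hf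
    conv_lhs => rw [show x = polar Q x f • e + polar Q x e • f + (x - polar Q x f • e - polar Q x e • f) by abel]
    conv_rhs => rw [show x = polar Q x f • e + polar Q x e • f + (x - polar Q x f • e - polar Q x e • f) by abel]
    have h4 : h.1.1 (g.1.1 (x - polar Q x f • e - polar Q x e • f)) = g.1.1 (x - polar Q x f • e - polar Q x e • f) :=
      hy _ hgy
    have h5 : h.1.1 (x - polar Q x f • e - polar Q x e • f) = x - polar Q x f • e - polar Q x e • f :=
      hy _ (pperp_part p x)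
    generalize x - polar Q x f • e - polar Q x e • f = z at h4 h5
    show h.1.1 (g.1.1 _) = g.1.1 (h.1.1 _)
    simp only [map_add, map_smul, hge', hgf', he', hf', h4, h5, smul_smul]
    module
  have h1 := H.mul_mem (H.mul_mem hh htH) (H.mul_mem (H.inv_mem hh) (H.inv_mem htH))
  rw [show rootHom hG p y = tr Q e (y.toAdd : V) from rfl,
    show h * (g * tr Q e (y.toAdd : V)) * (h⁻¹ * (g * tr Q e (y.toAdd : V))⁻¹) =
      (h * g) * tr Q e (y.toAdd : V) * h⁻¹ * (tr Q e (y.toAdd : V))⁻¹ * g⁻¹ by group, hcomm,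
    show g * h * tr Q e (y.toAdd : V) * h⁻¹ * (tr Q e (y.toAdd : V))⁻¹ * g⁻¹ =
      g * ((h * tr Q e (y.toAdd : V) * h⁻¹) * (tr Q e (y.toAdd : V))⁻¹) * g⁻¹ by group,
    (conj_tr hG p.qe he hy0 hσ).2, hy _ y.toAdd.2, ← tr_neg hG p.qe hy0,
    ← tr_add hG p.qe (by rw [b_smul_right, hy0, mul_zero])
      (by rw [← neg_one_smul F (y.toAdd : V), b_smul_right, hy0, mul_zero]),
    show σ • (y.toAdd : V) + -(y.toAdd : V) = (σ - 1) • (y.toAdd : V) by module] at h1
  have hroot : tr Q e ((σ - 1) • (y.toAdd : V)) ∈ rootSub hG p :=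
    tr_mem_root hG p (by rw [b_smul_right, hy0, mul_zero])
  have h2 : (σ - 1) • y.toAdd ∈ kPart hG p H :=
    ((mem_kNorm.1 hn _).2 ⟨h1, root_conj hG p ⟨a, ha, hge⟩ hroot⟩).1
  have hy1 : y.toAdd ∈ kPart hG p H := by
    refine (hK _).2 fun u hu => ?_
    have h3 := (hK _).1 h2 u hu
    rw [Submodule.coe_smul, b_smul_right] at h3
    exact (mul_eq_zero.1 h3).resolve_left (sub_ne_zero.2 hσ1)
  have h6 := H.mul_mem htH (H.inv_mem (mem_kPart.1 hy1))
  rwa [show rootHom hG p y = tr Q e (y.toAdd : V) from rfl, mul_inv_cancel_right] at h6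

/-- The classification at a singular point. -/
theorem classify (hG : Good Q) (hn : 7 ≤ finrank F V) {c m : ℕ} (hT : HasType Q c m) (hc : c ≤ 2)
    (hq : 4 ≤ Nat.card F) (hlow : LowFiveBound Q) {N : ℕ} (hI : H.index < N)
    (hN : 12 * N < 17 * Nat.card F ^ (finrank F V - 2)) (he0 : e ≠ 0) (he : Q e = 0) :
    IsFullAt Q H e ∨ IsZAt Q H e ∨ finrank F (wk Q H e) = 2 ∨ IsPlAt Q H e m := by
  obtain ⟨f, hf, hf0⟩ := exists_partner hG.nd he0 he
  have p : IsPair Q e f := ⟨he, hf0, hf⟩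
  have full : ∀ f', ∀ p' : IsPair Q e f', kPart hG p' H = ⊤ → IsFullAt Q H e := by
    intro f' p' h w hw
    have h1 : (⟨_, perp_part_mem p' hw⟩ : pperp Q e f') ∈ kPart hG p' H := by rw [h]; trivial
    have h2 := mem_kPart.1 h1
    rwa [← tr_shift hG he (mem_pperp.1 (perp_part_mem p' hw)).1 (polar Q w f'), sub_add_cancel] at h2
  have line : ∀ f', ∀ p' : IsPair Q e f', (∃ v : pperp Q e f', ∀ y : pperp Q e f',
      polar Q (v : V) (y : V) = 0 → y ∈ kPart hG p' H) → IsFullAt Q H e ∨ finrank F (wk Q H e) = 2 := by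
    rintro f' p' ⟨v, hv⟩
    have hle : wk Q H e ≤ Submodule.span F {e, (v : V)} := by
      refine le_trans (b := perp Q (perp Q (Submodule.span F {e, (v : V)}))) (fun z hz => ?_) (perp_perp hG.nd _).le
      intro w hw
      have h1 : polar Q e w = 0 := mem_perp_span.1 hw e (by simp)
      have h2 : polar Q (v : V) w = 0 := mem_perp_span.1 hw v (by simp)
      refine hz w ((mem_ks hG he).2 ⟨h1, fun d => ?_⟩)
      have h3 : polar Q e (d • w) = 0 := by rw [b_smul_right, h1, mul_zero]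
      have h4 := mem_kPart.1 (hv ⟨_, perp_part_mem p' h3⟩ (by
        show polar Q (v : V) (d • w - polar Q (d • w) f' • e) = 0
        rw [b_sub_right, b_smul_right, b_smul_right, h2, b_comm (v : V) e, (mem_pperp.1 v.2).1]; ring))
      rwa [← tr_shift hG he (mem_pperp.1 (perp_part_mem p' h3)).1 (polar Q (d • w) f'), sub_add_cancel] at h4
    rcases Nat.lt_or_ge (finrank F (wk Q H e)) 2 with h | h
    · refine Or.inl (isFullAt_of_perp hG he (le_of_eq (Submodule.eq_of_le_of_finrank_le ?_ ?_).symm))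
      · exact (Submodule.span_singleton_le_iff_mem _ _).2 (self_mem_wk hG he)
      · rw [finrank_span_singleton he0]; omega
    · refine Or.inr (le_antisymm ((Submodule.finrank_mono hle).trans (finrank_span_pair_le e (v : V))) h)
  have hN' : ∀ f', ∀ p' : IsPair Q e f', 12 * N < 17 * Nat.card F ^ finrank F (pperp Q e f') := by
    intro f' p'
    rwa [show finrank F (pperp Q e f') = finrank F V - 2 by have := finrank_pperp p'; omega]
  rcases trichotomy hG hn hT hc hq hlow p H hI (hN' f p) with h | h | h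
  · exact Or.inl (full f p h)
  · exact (line f p h).imp_right fun h => Or.inr (Or.inl h)
  obtain ⟨f', p', σ, hσ, hσ1, g₀, hg₀, hge, hgf, hgy⟩ := rigid_shift hG hq p h
  rcases trichotomy hG hn hT hc hq hlow p' H hI (hN' f' p') with h | h | h
  · exact Or.inl (full f' p' h)
  · exact (line f' p' h).imp_right fun h => Or.inr (Or.inl h)
  obtain ⟨U, hK, hR, hU⟩ := h
  have hmem := fun (g : omg Q) (a b : F) => rigid_mem hG p' hK hR hg₀ hσ hσ1 hge hgf hgy (g := g) (a := a) (b := b)
  have hks : ∀ w, polar Q e w = 0 → (∀ u ∈ U, polar Q (u : V) w = 0) → w ∈ ks Q H e := by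
    intro w hw hwU
    refine (mem_ks hG he).2 ⟨hw, fun d => ?_⟩
    have h3 : polar Q e (d • w) = 0 := by rw [b_smul_right, hw, mul_zero]
    have h4 := mem_kPart.1 ((hK ⟨_, perp_part_mem p' h3⟩).2 fun u hu => by
      show polar Q (u : V) (d • w - polar Q (d • w) f' • e) = 0
      rw [b_sub_right, b_smul_right, b_smul_right, hwU u hu, b_comm (u : V) e, (mem_pperp.1 u.2).1]; ring)
    rwa [← tr_shift hG he (mem_pperp.1 (perp_part_mem p' h3)).1 (polar Q (d • w) f'), sub_add_cancel] at h4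
  rcases hU with rfl | ⟨hU, hdim, hexc⟩
  · refine Or.inr (Or.inl ⟨fun w hw => ?_, f', p', fun g h1 h2 => ?_⟩)
    · obtain ⟨h1, h2⟩ := (mem_ks hG he).1 hw
      have h3 : (⟨_, perp_part_mem p' h1⟩ : pperp Q e f') ∈ kPart hG p' H := by
        refine mem_kPart.2 ?_
        show tr Q e (w - polar Q w f' • e) ∈ H
        rw [← tr_shift hG he (mem_pperp.1 (perp_part_mem p' h1)).1 (polar Q w f'), sub_add_cancel]
        exact tr_mem_of_ks hG he hw
      have h4 : (⟨_, perp_part_mem p' h1⟩ : pperp Q e f') = 0 := eq_zero_of_b (pperp_nondeg hG.nd p') fun u => by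
        rw [polar_restr, b_comm]; exact (hK _).1 h3 u trivial
      refine Submodule.mem_span_singleton.2 ⟨polar Q w f', ?_⟩
      exact (sub_eq_zero.1 (congrArg Subtype.val h4)).symm
    · obtain ⟨a, ha⟩ := Submodule.mem_span_singleton.1 h1
      obtain ⟨b, hb⟩ := Submodule.mem_span_singleton.1 h2
      have ha0 : a ≠ 0 := fun h0 => app_ne g p'.ne (by rw [← ha, h0, zero_smul])
      have hb0 : b ≠ 0 := fun h0 => app_ne g p'.symm.ne (by rw [← hb, h0, zero_smul])
      refine hmem g a b ha0 hb0 ha.symm hb.symm fun u _ => ⟨⟨app g (u : V), mem_pperp.2 ⟨?_, ?_⟩⟩, trivial, rfl⟩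
      · have h5 := b_app g e (u : V)
        rw [← ha, b_smul_left, (mem_pperp.1 u.2).1] at h5
        exact (mul_eq_zero.1 h5).resolve_left ha0
      · have h5 := b_app g f' (u : V)
        rw [← hb, b_smul_left, (mem_pperp.1 u.2).2] at h5
        exact (mul_eq_zero.1 h5).resolve_left hb0
  · refine Or.inr (Or.inr (Or.inr ⟨U.map (pperp Q e f').subtype, ?_, ?_, ?_, ?_, ?_, hexc⟩))
    · rintro _ ⟨u, hu, rfl⟩
      exact ⟨hU u hu, (mem_pperp.1 u.2).1⟩
    · rintro ⟨u, -, hue⟩
      have h1 : polar Q f' (u : V) = 0 := (mem_pperp.1 u.2).2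
      rw [show (u : V) = e from hue, p'.de] at h1
      exact one_ne_zero h1
    · refine le_trans (b := perp Q (perp Q (Submodule.span F {e} ⊔ U.map (pperp Q e f').subtype))) (fun z hz => ?_)
        (perp_perp hG.nd _).le
      intro w hw
      refine hz w (hks w ?_ fun u hu => ?_)
      · exact hw e (Submodule.mem_sup_left (Submodule.mem_span_singleton_self e))
      · exact hw (u : V) (Submodule.mem_sup_right ⟨u, hu, rfl⟩)
    · rintro _ ⟨u, hu, rfl⟩ w hw huw
      show tr Q (u : V) w ∈ H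
      replace huw : polar Q (u : V) w = 0 := huw
      obtain ⟨hue, huf⟩ := mem_pperp.1 u.2
      have hwY := perp_part_mem p' hw
      have huwY : polar Q (u : V) (w - polar Q w f' • e) = 0 := by
        rw [b_sub_right, b_smul_right, huw, b_comm (u : V) e, hue]; ring
      rw [show w = (w - polar Q w f' • e) + polar Q w f' • e by abel,
        tr_add hG (hU u hu) huwY (by rw [b_smul_right, b_comm (u : V) e, hue, mul_zero])]
      refine H.mul_mem (hmem _ 1 1 one_ne_zero one_ne_zero ?_ ?_ fun u' hu' => ?_) ?_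
      · rw [one_smul]
        exact tr_fix hG (hU u hu) huwY hue (mem_pperp.1 hwY).1
      · rw [one_smul]
        exact tr_fix hG (hU u hu) huwY huf (mem_pperp.1 hwY).2
      · refine ⟨u' - polar Q (u' : V) (w - polar Q w f' • e) • u, U.sub_mem hu' (U.smul_mem _ hu), ?_⟩
        have h1 : polar Q (u' : V) (u : V) = 0 := by
          have h2 := hU _ (U.add_mem hu' hu)
          rw [Submodule.coe_add, q_add, hU u hu, hU u' hu', zero_add, zero_add] at h2
          exact h2
        rw [tr_apply hG (hU u hu) huwY, h1, zero_smul, add_zero, mul_zero, add_zero, Submodule.coe_sub,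
          Submodule.coe_smul]
      · have hek : polar Q e (-(u : V)) = 0 := by rw [← neg_one_smul F (u : V), b_smul_right, hue, mul_zero]
        rw [tr_swap hG (hU u hu) (by rw [q_smul, he, mul_zero]) (by rw [b_smul_right, b_comm (u : V) e, hue, mul_zero]),
          tr_scale hG _ he hek]
        refine ((mem_ks hG he).1 (hks (-(u : V)) hek fun u' hu' => ?_)).2 _
        rw [← neg_one_smul F (u : V), b_smul_right]
        have h2 := hU _ (U.add_mem hu' hu)
        rw [Submodule.coe_add, q_add, hU u hu, hU u' hu', zero_add, zero_add] at h2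
        rw [h2, mul_zero]
    · rw [← (Submodule.equivMapOfInjective _ (pperp Q e f').injective_subtype U).finrank_eq]
      exact hdim

end Cfsg.Agent.OrthMin
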