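/-
Relations between the root directions at different singular points, and the impossibility of a full point.
-/
import Cfsg.Agent.Lib.OrthMinIndex.Point

set_option autoImplicit false

namespace Cfsg.Agent.OrthMin

open QuadraticMap Module Cfsg.Agent.Orth Cfsg.Agent.OrthDeg

variable {F V : Type*} [Field F] [AddCommGroup V] [Module F V] {Q : QuadraticForm F V}
variable [FiniteDimensional F V] [Fintype F] {H : Subgroup (omg Q)}

theorem ks_conj (hG : Good Q) {x w : V} (hx : Q x = 0) {h : omg Q} (hh : h ∈ H) (hw : w ∈ ks Q H x) :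
    app h w ∈ ks Q H (app h x) := by
  obtain ⟨h1, h2⟩ := (mem_ks hG hx).1 hw
  refine (mem_ks hG (by rw [q_app, hx])).2 ⟨by rw [b_app, h1], fun c => ?_⟩
  have h3 : c • app h w = app h (c • w) := (map_smul h.1.1 c w).symm
  rw [h3, ← tr_conj hG h hx (by rw [b_smul_right, h1, mul_zero])]
  exact H.mul_mem (H.mul_mem hh (h2 c)) (H.inv_mem hh)

theorem wk_conj (hG : Good Q) {x z : V} (hx : Q x = 0) {h : omg Q} (hh : h ∈ H) (hz : z ∈ wk Q H x) :
    app h z ∈ wk Q H (app h x) := by
  intro w hw
  have h1 := ks_conj hG (x := app h x) (by rw [q_app, hx]) (H.inv_mem hh) hw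
  rw [app_inv_app] at h1
  rw [← b_app h⁻¹, app_inv_app]
  exact hz _ h1

theorem ks_smul (hG : Good Q) {x : V} (hx : Q x = 0) {c : F} (hc : c ≠ 0) : ks Q H (c • x) = ks Q H x := by
  refine Submodule.ext fun w => ?_
  rw [mem_ks hG (by rw [q_smul, hx, mul_zero]), mem_ks hG hx]
  constructor
  · rintro ⟨h1, h2⟩
    rw [b_smul_left] at h1
    have h3 := (mul_eq_zero.1 h1).resolve_left hc
    refine ⟨h3, fun d => ?_⟩
    have h4 := h2 (c⁻¹ * d)
    rwa [tr_scale hG c hx (by rw [b_smul_right, h3, mul_zero]), smul_smul, mul_inv_cancel_left₀ hc] at h4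
  · rintro ⟨h1, h2⟩
    refine ⟨by rw [b_smul_left, h1, mul_zero], fun d => ?_⟩
    rw [tr_scale hG c hx (by rw [b_smul_right, h1, mul_zero]), smul_smul]
    exact h2 _

theorem wk_smul (hG : Good Q) {x : V} (hx : Q x = 0) {c : F} (hc : c ≠ 0) : wk Q H (c • x) = wk Q H x := by
  rw [wk, ks_smul hG hx hc]; rfl

theorem full_smul (hG : Good Q) {x : V} (hx : Q x = 0) (h : IsFullAt Q H x) {c : F} (hc : c ≠ 0) :
    IsFullAt Q H (c • x) := fun w hw => by
  rw [b_smul_left] at hw
  have h1 := (mul_eq_zero.1 hw).resolve_left hc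
  rw [tr_scale hG c hx h1]
  exact h _ (by rw [b_smul_right, h1, mul_zero])

theorem full_conj (hG : Good Q) {x : V} (hx : Q x = 0) (h : IsFullAt Q H x) {g : omg Q} (hg : g ∈ H) :
    IsFullAt Q H (app g x) := fun w hw => by
  have h1 : polar Q x (app g⁻¹ w) = 0 := by rw [← b_app g, app_app_inv, hw]
  rw [← app_app_inv g w, ← tr_conj hG g hx h1]
  exact H.mul_mem (H.mul_mem hg (h _ h1)) (H.inv_mem hg)

/-- Two singular points lie in each other's root directions together. -/
theorem ks_symm (hG : Good Q) {x y : V} (hx : Q x = 0) (hy : Q y = 0) (h : y ∈ ks Q H x) : x ∈ ks Q H y := by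
  obtain ⟨h1, h2⟩ := (mem_ks hG hx).1 h
  refine (mem_ks hG hy).2 ⟨by rw [b_comm, h1], fun c => ?_⟩
  have hxy : polar Q x ((-c) • y) = 0 := by rw [b_smul_right, h1, mul_zero]
  have h3 := h2 (-c)
  rw [tr_swap hG hx (by rw [q_smul, hy, mul_zero]) hxy, tr_scale hG _ hy
    (by rw [← neg_one_smul F x, b_smul_right, b_comm, h1, mul_zero]), neg_smul_neg] at h3
  exact h3

theorem two_le_wk (hG : Good Q) {x : V} (hx0 : x ≠ 0) (hx : Q x = 0) (h : ¬ IsFullAt Q H x) :
    2 ≤ finrank F (wk Q H x) := by
  by_contra hlt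
  refine h (isFullAt_of_perp hG hx (le_of_eq (Submodule.eq_of_le_of_finrank_le
    ((Submodule.span_singleton_le_iff_mem _ _).2 (self_mem_wk hG hx)) ?_).symm))
  rw [finrank_span_singleton hx0]; omega

/-- The key relation between neighbouring points. -/
theorem key_rel (hG : Good Q) {x y : V} (hx : Q x = 0) (hy : Q y = 0) (hy0 : y ≠ 0) (hyx : y ∈ ks Q H x)
    (hxy : x ∉ wk Q H y) : wk Q H y ≤ wk Q H x ⊔ Submodule.span F {y} := by
  obtain ⟨k, hk, hkx⟩ : ∃ k ∈ ks Q H y, polar Q k x ≠ 0 := by
    by_contra h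
    push Not at h
    exact hxy h
  obtain ⟨hyk, hkall⟩ := (mem_ks hG hy).1 hk
  have hxy0 : polar Q x y = 0 := ((mem_ks hG hx).1 hyx).1
  have hxy' := ks_symm hG hx hy hyx
  -- the translates of x along y
  have key : ∀ w, w ∈ ks Q H x → polar Q y w = 0 → w ∈ ks Q H y := by
    intro w hw hyw
    refine (mem_ks hG hy).2 ⟨hyw, fun c => ?_⟩
    obtain ⟨hxw, hwall⟩ := (mem_ks hG hx).1 hw
    obtain ⟨h, hh⟩ : ∃ h, tr Q y ((-(c / polar Q x k)) • k) = h := ⟨_, rfl⟩
    have hxk : polar Q x k ≠ 0 := by rwa [b_comm]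
    have hyk' : polar Q y ((-(c / polar Q x k)) • k) = 0 := by rw [b_smul_right, hyk, mul_zero]
    have happ : app h x = x + c • y := by
      rw [← hh, tr_apply hG hy hyk', hxy0, b_smul_right, mul_zero, add_zero, zero_smul, add_zero]
      rw [show -(c / polar Q x k) * polar Q x k = -c by rw [neg_mul, div_mul_cancel₀ _ hxk]]
      module
    have hapw : app h w = w + (c / polar Q x k * polar Q w k) • y := by
      rw [← hh, tr_apply hG hy hyk', b_comm w y, hyw, b_smul_right, mul_zero, add_zero, zero_smul, add_zero]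
      module
    have h1 := tr_mem_of_ks hG (by rw [q_app, hx]) (ks_conj hG hx (hh ▸ hkall _ : h ∈ H) hw)
    rw [happ, hapw] at h1
    have hxy1 : polar Q x (c • y) = 0 := by rw [b_smul_right, hxy0, mul_zero]
    have hxc : Q (x + c • y) = 0 := by rw [q_add, hx, q_smul, hy, hxy1]; ring
    have hw1 : polar Q (x + c • y) w = 0 := by rw [b_add_left, b_smul_left, hxw, hyw]; ring
    have hw2 : polar Q (x + c • y) ((c / polar Q x k * polar Q w k) • y) = 0 := by
      rw [b_smul_right, b_add_left, b_smul_left, hxy0, b_self, hy]; ring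
    have h2 : tr Q (x + c • y) ((c / polar Q x k * polar Q w k) • y) ∈ H := by
      generalize c / polar Q x k * polar Q w k = b
      have hbx : polar Q y (b • x) = 0 := by rw [b_smul_right, b_comm, hxy0, mul_zero]
      rw [show x + c • y = x + c • y from rfl, tr_swap hG hxc (by rw [q_smul, hy, mul_zero])
        (by rw [b_smul_right, b_add_left, b_smul_left, hxy0, b_self, hy]; ring), tr_scale hG b hy
        (by rw [← neg_one_smul F (x + c • y), b_smul_right, b_comm y, b_add_left, b_smul_left, hxy0, b_self, hy]; ring),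
        show b • -(x + c • y) = (-b) • x + (-(b * c)) • y by module, tr_shift hG hy
        (by rw [b_smul_right, b_comm, hxy0, mul_zero])]
      exact ((mem_ks hG hy).1 hxy').2 _
    rw [tr_add hG hxc hw1 hw2] at h1
    have h3 : tr Q (x + c • y) w ∈ H := by
      have := H.mul_mem h1 (H.inv_mem h2)
      rwa [mul_inv_cancel_right] at this
    rw [tr_add_left hG hx (by rw [q_smul, hy, mul_zero]) hxy1 hxw (by rw [b_smul_left, hyw, mul_zero]),
      tr_scale hG c hy hyw] at h3
    have h4 : tr Q x ((-Q w) • c • y) ∈ H := by rw [smul_smul]; exact ((mem_ks hG hx).1 hyx).2 _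
    have h5 := H.mul_mem (H.mul_mem (H.inv_mem (tr_mem_of_ks hG hx hw)) h3) (H.inv_mem h4)
    rwa [show ∀ a b d : omg Q, a⁻¹ * (a * b * d) * d⁻¹ = b from fun a b d => by group] at h5
  have hle : ks Q H x ⊓ perp Q (Submodule.span F {y}) ≤ ks Q H y :=
    fun w hw => key w hw.1 (hw.2 y (Submodule.mem_span_singleton_self y))
  intro z hz
  rw [← perp_perp hG.nd (wk Q H x ⊔ Submodule.span F {y}), perp_sup, perp_wk hG]
  exact fun w hw => hz w (hle hw)

/-! ### A full point -/

/-- Two non-orthogonal full points give the whole group. -/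
theorem top_of_two_full (hG : Good Q) (hn : 7 ≤ finrank F V) {x z : V} (p : IsPair Q x z)
    (hfx : IsFullAt Q H x) (hfz : IsFullAt Q H z) : H = ⊤ := by
  have step : ∀ {x z : V}, IsPair Q x z → IsFullAt Q H x → IsFullAt Q H z → ∀ y, y ≠ 0 → Q y = 0 →
      polar Q x y = 0 → polar Q z y = 0 → IsFullAt Q H y := by
    intro x z p hfx hfz y hy0 hy hxy hzy
    have hyx := full_ks hG p.qe hfx hxy
    have hzy' := ks_symm hG p.qd hy (full_ks hG p.qd hfz hzy)
    have hxn : x ∉ wk Q H y := fun h => by
      have := h z hzy'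
      rw [p.de] at this
      exact one_ne_zero this
    refine isFullAt_of_perp hG hy fun t ht => ?_
    have hle : wk Q H x ≤ Submodule.span F {x} := by
      intro s hs
      rw [← perp_perp hG.nd (Submodule.span F {x})]
      exact fun w hw => hs w (full_ks hG p.qe hfx (hw x (Submodule.mem_span_singleton_self x)))
    obtain ⟨s, hs, r, hr, rfl⟩ := Submodule.mem_sup.1 (key_rel hG p.qe hy hy0 hyx hxn ht)
    obtain ⟨a, rfl⟩ := Submodule.mem_span_singleton.1 (hle hs)
    obtain ⟨b, rfl⟩ := Submodule.mem_span_singleton.1 hr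
    have := ht z hzy'
    rw [b_add_right, b_smul_right, b_smul_right, p.de, hzy] at this
    have ha : a = 0 := by linear_combination this
    rw [ha, zero_smul, zero_add]
    exact Submodule.smul_mem _ _ (Submodule.mem_span_singleton_self y)
  by_contra hne
  obtain ⟨e, f, pe, hK⟩ := exists_root_not_mem hG hne
  refine hK (eq_top_iff.2 fun y _ => mem_kPart.2 ?_)
  obtain ⟨f₁, g₁, p₁, hf₁, hg₁, h1, h2⟩ := exists_pair_avoid hG.nd hn p (pperp_part p e)
  obtain ⟨a1, a2⟩ := mem_pperp.1 hf₁
  obtain ⟨a3, a4⟩ := mem_pperp.1 hg₁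
  have hef : ∀ t, polar Q x t = 0 → polar Q z t = 0 →
      polar Q (e - polar Q e z • x - polar Q e x • z) t = 0 → polar Q t e = 0 := by
    intro t hx hz he
    rw [b_sub_left, b_sub_left, b_smul_left, b_smul_left, hx, hz] at he
    rw [b_comm]; linear_combination he
  exact step p₁ (step p hfx hfz f₁ p₁.ne p₁.qe a1 a2) (step p hfx hfz g₁ p₁.symm.ne p₁.qd a3 a4)
    e pe.ne pe.qe (hef f₁ a1 a2 h1) (hef g₁ a3 a4 h2) _ (mem_pperp.1 y.2).1

omit [Fintype F] in
theorem card_scalar_ne [Finite F] : Nat.card {s : F // s ≠ 0} + 1 = Nat.card F := by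
  classical
  haveI := Fintype.ofFinite F
  have h := Nat.card_congr (Equiv.optionSubtypeNe (0 : F))
  rwa [Finite.card_option] at h

theorem exists_sq_ne (hq : 4 ≤ Nat.card F) : ∃ c : F, c ≠ 0 ∧ c * c ≠ 1 := by
  by_contra hcon
  push Not at hcon
  classical
  have hsub : (Finset.univ : Finset F) ⊆ {0, 1, -1} := fun x _ => by
    rcases eq_or_ne x 0 with rfl | hx
    · simp
    · rcases mul_self_eq_one_iff.1 (hcon x hx) with h | h <;> simp [h]
  have := (Finset.card_le_card hsub).trans Finset.card_le_three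
  rw [Finset.card_univ, ← Nat.card_eq_fintype_card] at this
  omega

/-- Singular vectors outside a totally singular subspace bound an orbit. -/
theorem orbit_outside (hG : Good Q) {z : V} (hz : Q z = 0) (hz0 : z ≠ 0) (W : Submodule F V)
    (hW : ∀ w ∈ W, Q w = 0) (hinv : ∀ h ∈ H, ∀ w ∈ W, app h w ∈ W) (hzW : z ∉ W) :
    (lineStab Q z).relIndex H * (Nat.card F - 1) + Nat.card W ≤ Nat.card {v : V // Q v = 0} := by
  haveI : Finite V := Module.finite_of_finite F
  haveI : Finite (omg Q) := finite_omega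
  have hsplit := card_split (α := V) (fun v => Q v = 0) (fun v => v ∈ W)
  have hWc : Nat.card {v : V // Q v = 0 ∧ v ∈ W} = Nat.card W :=
    Nat.card_congr (Equiv.subtypeEquivRight fun v => ⟨fun h => h.2, fun h => ⟨hW v h, h⟩⟩)
  rw [hWc] at hsplit
  rw [← hsplit]
  refine Nat.add_le_add_right ?_ _
  have hq : Nat.card F - 1 = Nat.card {s : F // s ≠ 0} := by
    have := card_scalar_ne (F := F); omega
  rw [hq, Subgroup.relIndex, Subgroup.index, ← Nat.card_prod]
  refine Nat.card_le_card_of_injective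
    (fun k : (↥H ⧸ (lineStab Q z).subgroupOf H) × {s : F // s ≠ 0} =>
      (⟨(k.2 : F) • app (k.1.out : omg Q) z, ?_, ?_⟩ : {v : V // Q v = 0 ∧ ¬ v ∈ W})) ?_
  · rw [q_smul, q_app, hz, mul_zero]
  · intro hm
    have h1 := W.smul_mem (k.2 : F)⁻¹ hm
    rw [smul_smul, inv_mul_cancel₀ k.2.2, one_smul] at h1
    have h2 := hinv _ (H.inv_mem (k.1.out : ↥H).2) _ h1
    rw [app_inv_app] at h2
    exact hzW h2
  · rintro ⟨k, s, hs⟩ ⟨k', s', hs'⟩ h
    have h' : s • app (k.out : omg Q) z = s' • app (k'.out : omg Q) z := congrArg Subtype.val h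
    have hk : k = k' := by
      rw [← QuotientGroup.out_eq' k, ← QuotientGroup.out_eq' k', QuotientGroup.eq, Subgroup.mem_subgroupOf]
      refine ⟨s / s', div_ne_zero hs hs', ?_⟩
      rw [Subgroup.coe_mul, Subgroup.coe_inv, app_mul]
      have h2 : app (k'.out : omg Q) z = (s'⁻¹ * s) • app (k.out : omg Q) z := by
        rw [mul_smul, h', smul_smul, inv_mul_cancel₀ hs', one_smul]
      rw [h2, app, map_smul]
      show (s'⁻¹ * s) • app (k.out : omg Q)⁻¹ (app (k.out : omg Q) z) = _
      rw [app_inv_app, mul_comm, ← div_eq_mul_inv]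
    subst hk
    have hss : s = s' := smul_left_injective F (app_ne _ hz0) h'
    subst hss
    rfl

/-- A subgroup of small index has no full point. -/
theorem no_full (hG : Good Q) (hn : 7 ≤ finrank F V) {c m : ℕ} (hT : HasType Q c m) (hq : 4 ≤ Nat.card F)
    (hne : H ≠ ⊤) (hI : ∀ e, e ≠ 0 → Q e = 0 → H.index < (lineStab Q e).index)
    (hpts : ∀ e, e ≠ 0 → Q e = 0 → (lineStab Q e).index * (Nat.card F - 1) + 1 = Nat.card {v : V // Q v = 0})
    (hcls : ∀ e, e ≠ 0 → Q e = 0 →
      IsFullAt Q H e ∨ IsZAt Q H e ∨ finrank F (wk Q H e) = 2 ∨ IsPlAt Q H e m)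
    {x : V} (hx0 : x ≠ 0) (hx : Q x = 0) : ¬ IsFullAt Q H x := by
  intro hfx
  haveI : Finite V := Module.finite_of_finite F
  haveI : Finite (omg Q) := finite_omega
  let S : Set V := {v | Q v = 0 ∧ v ≠ 0 ∧ IsFullAt Q H v}
  have hperp : ∀ a ∈ S, ∀ b ∈ S, polar Q a b = 0 := by
    rintro a ⟨ha, ha0, hfa⟩ b ⟨hb, hb0, hfb⟩
    by_contra h
    refine hne (top_of_two_full hG hn (x := a) (z := (polar Q a b)⁻¹ • b)
      ⟨ha, by rw [q_smul, hb, mul_zero], by rw [b_smul_right, inv_mul_cancel₀ h]⟩ hfa
      (full_smul hG hb hfb (inv_ne_zero h)))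
  let W := Submodule.span F S
  have hWp : ∀ a ∈ S, ∀ w ∈ W, polar Q a w = 0 := fun a ha w hw => by
    induction hw using Submodule.span_induction with
    | mem b hb => exact hperp a ha b hb
    | zero => exact b_zero_right a
    | add u v _ _ hu hv => rw [b_add_right, hu, hv, add_zero]
    | smul t u _ hu => rw [b_smul_right, hu, mul_zero]
  have hW : ∀ w ∈ W, Q w = 0 := fun w hw => by
    induction hw using Submodule.span_induction with
    | mem b hb => exact hb.1
    | zero => exact map_zero Q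
    | add u v hu hv ihu ihv =>
      have : polar Q u v = 0 := by
        clear ihu ihv
        induction hu using Submodule.span_induction with
        | mem b hb => exact hWp b hb v hv
        | zero => exact b_zero_left v
        | add s t _ _ hs ht => rw [b_add_left, hs, ht, add_zero]
        | smul r s _ hs => rw [b_smul_left, hs, mul_zero]
      rw [q_add, ihu, ihv, this, add_zero, add_zero]
    | smul t u _ hu => rw [q_smul, hu, mul_zero]
  have hinv : ∀ h ∈ H, ∀ w ∈ W, app h w ∈ W := fun h hh w hw => by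
    induction hw using Submodule.span_induction with
    | mem b hb => exact Submodule.subset_span ⟨by rw [q_app, hb.1], app_ne h hb.2.1, full_conj hG hb.1 hb.2.2 hh⟩
    | zero => rw [app, map_zero]; exact W.zero_mem
    | add u v _ _ hu hv => rw [app, map_add]; exact W.add_mem hu hv
    | smul t u _ hu => rw [app, map_smul]; exact W.smul_mem t hu
  have hxW : x ∈ W := Submodule.subset_span ⟨hx, hx0, hfx⟩
  have hWm : finrank F W ≤ m := sing_dim_le m hG.nd hT W hW
  obtain ⟨z, hz, hxz⟩ := exists_sing_not_perp hG.nd (by omega) hx0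
  have hz0 : z ≠ 0 := fun h => hxz (by rw [h, b_zero_right])
  have hzW : z ∉ W := fun h => hxz (hWp x ⟨hx, hx0, hfx⟩ z h)
  have hks : finrank F (ks Q H z) ≤ finrank F W := by
    have hle : ks Q H z ≤ (W ⊔ Submodule.span F {z}) ⊓ perp Q (Submodule.span F {z}) := by
      intro w hw
      obtain ⟨h1, -⟩ := (mem_ks hG hz).1 hw
      refine ⟨?_, fun b hb => ?_⟩
      · have h3 := W.sub_mem (hinv _ (tr_mem_of_ks hG hz hw) x hxW) hxW
        rw [tr_apply hG hz h1, show x + polar Q x z • w - (polar Q x w + Q w * polar Q x z) • z - x =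
          polar Q x z • w - (polar Q x w + Q w * polar Q x z) • z by abel] at h3
        have h4 : polar Q x z • w ∈ W ⊔ Submodule.span F {z} := by
          have h5 := Submodule.add_mem _ (Submodule.mem_sup_left h3) (Submodule.mem_sup_right
            (Submodule.smul_mem _ (polar Q x w + Q w * polar Q x z) (Submodule.mem_span_singleton_self z)) :
              _ ∈ W ⊔ Submodule.span F {z})
          rwa [sub_add_cancel] at h5
        have h6 := Submodule.smul_mem _ (polar Q x z)⁻¹ h4
        rwa [smul_smul, inv_mul_cancel₀ hxz, one_smul] at h6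
      · obtain ⟨t, rfl⟩ := Submodule.mem_span_singleton.1 hb
        rw [b_smul_left, h1, mul_zero]
    have h1 := Submodule.finrank_mono hle
    have h2 : (W ⊔ Submodule.span F {z}) ⊓ perp Q (Submodule.span F {z}) < W ⊔ Submodule.span F {z} := by
      refine lt_of_le_of_ne inf_le_left fun h => hxz ?_
      rw [b_comm]
      exact (h.ge (Submodule.mem_sup_left hxW)).2 z (Submodule.mem_span_singleton_self z)
    have h3 := Submodule.finrank_lt_finrank_of_lt h2
    have h4 := Submodule.finrank_add_le_finrank_add_finrank W (Submodule.span F {z})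
    rw [finrank_span_singleton hz0] at h4
    omega
  have hsum := finrank_perp_eq hG.nd (ks Q H z)
  change finrank F (wk Q H z) + _ = _ at hsum
  have hdim := hT.1
  rcases hcls z hz0 hz with h | ⟨hzz, f, p, hlev⟩ | h | h
  · exact hxz (hperp x ⟨hx, hx0, hfx⟩ z ⟨hz, hz0, h⟩)
  · -- the Levi subgroup moves W to the line of f
    obtain ⟨s, hs, hs1⟩ := exists_sq_ne hq
    obtain ⟨g, hge, hgf, hgy⟩ := scale_mem hG p hs
    have hgH : g ∈ H := hlev g (Submodule.mem_span_singleton.2 ⟨_, hge.symm⟩)
      (Submodule.mem_span_singleton.2 ⟨_, hgf.symm⟩)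
    have hxd : app g x - x = ((s * s - 1) * polar Q x f) • z + ((s⁻¹ * s⁻¹ - 1) * polar Q x z) • f := by
      have h5 : g.1.1 (x - polar Q x f • z - polar Q x z • f) = x - polar Q x f • z - polar Q x z • f :=
        hgy _ (pperp_part p x)
      conv_lhs => rw [show x = polar Q x f • z + polar Q x z • f + (x - polar Q x f • z - polar Q x z • f) by abel]
      generalize x - polar Q x f • z - polar Q x z • f = y at h5
      show g.1.1 _ - _ = _
      rw [map_add, map_add, map_smul, map_smul, h5, show g.1.1 z = (s * s) • z from hge,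
        show g.1.1 f = (s⁻¹ * s⁻¹) • f from hgf]
      module
    have hmem := W.sub_mem (hinv g hgH x hxW) hxW
    rw [hxd] at hmem
    have hs2 : s⁻¹ * s⁻¹ - 1 ≠ 0 := sub_ne_zero.2 fun h => hs1 (by rw [← mul_inv] at h; exact inv_eq_one.1 h)
    have hfW : f ∈ W := by
      have h6 := hW _ hmem
      rw [q_add, q_smul, q_smul, p.qe, p.qd, b_smul_left, b_smul_right, p.ed] at h6
      have ha : polar Q x f = 0 := by
        have h7 : ((s * s - 1) * (s⁻¹ * s⁻¹ - 1)) * polar Q x z * polar Q x f = 0 := by linear_combination h6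
        exact (mul_eq_zero.1 h7).resolve_left
          (mul_ne_zero (mul_ne_zero (sub_ne_zero.2 hs1) hs2) hxz)
      rw [ha, mul_zero, zero_smul, zero_add] at hmem
      have h8 := W.smul_mem ((s⁻¹ * s⁻¹ - 1) * polar Q x z)⁻¹ hmem
      rwa [smul_smul, inv_mul_cancel₀ (mul_ne_zero hs2 hxz), one_smul] at h8
    have hY : Good (restr Q (pperp Q z f)) := ⟨pperp_nondeg hG.nd p, by have := finrank_pperp p; omega⟩
    have hbot : (W.comap (pperp Q z f).subtype).toAddSubgroup = ⊥ := by
      refine (invariant_bot_or_top hY _ fun g y hy => ?_).resolve_right fun htop => ?_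
      · show ((app g y : pperp Q z f) : V) ∈ W
        rw [← extW_app p]
        refine hinv _ (hlev _ ?_ ?_) _ hy
        · rw [extW_e]; exact Submodule.mem_span_singleton_self z
        · rw [extW_d]; exact Submodule.mem_span_singleton_self f
      · obtain ⟨v, hv⟩ := exists_value hY.nd (by have := hY.dim; omega) (1 : F)
        have h1 : v ∈ (W.comap (pperp Q z f).subtype).toAddSubgroup := by rw [htop]; trivial
        rw [restr_apply, hW (v : V) h1] at hv
        exact zero_ne_one hv
    have hle : H ≤ lineStab Q f := by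
      intro h hh
      have h1 := hinv h hh f hfW
      have hwf : polar Q (app h f) f = 0 := b_eq_zero_of_singular hW h1 hfW
      have hy : (⟨_, pperp_part p (app h f)⟩ : pperp Q z f) ∈ (W.comap (pperp Q z f).subtype).toAddSubgroup := by
        show app h f - polar Q (app h f) f • z - polar Q (app h f) z • f ∈ W
        rw [hwf, zero_smul, sub_zero]
        exact W.sub_mem h1 (W.smul_mem _ hfW)
      rw [hbot, AddSubgroup.mem_bot] at hy
      have h2 : app h f - polar Q (app h f) f • z - polar Q (app h f) z • f = 0 := congrArg Subtype.val hy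
      rw [hwf, zero_smul, sub_zero, sub_eq_zero] at h2
      exact ⟨_, fun h0 => app_ne h p.symm.ne (by rw [h2, h0, zero_smul]), h2⟩
    have h9 := Nat.le_of_dvd (Nat.pos_of_ne_zero Subgroup.index_ne_zero_of_finite) (Subgroup.index_dvd_of_le hle)
    have := hI f p.symm.ne p.qd
    omega
  · omega
  · obtain ⟨U, -, -, hwk, -, hU, hexc⟩ := h
    have h4 := (Submodule.finrank_mono hwk).trans (Submodule.finrank_add_le_finrank_add_finrank _ U)
    rw [finrank_span_singleton hz0] at h4
    obtain ⟨h8, hbd⟩ := hexc (by omega)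
    obtain ⟨rfl, rfl⟩ : m = 4 ∧ c = 0 := by omega
    have horb := orbit_outside hG hz hz0 W hW hinv hzW
    rw [card_submodule, hT.2, show finrank F W = 4 by omega] at horb
    have hN := hpts z hz0 hz
    rw [hT.2] at hN
    have hlt := hI z hz0 hz
    have hmul : H.index * (lineStab Q z).relIndex H = (lineStab Q z).index * H.relIndex (lineStab Q z) := by
      have h5 := Subgroup.relIndex_mul_index (inf_le_left : H ⊓ lineStab Q z ≤ H)
      have h6 := Subgroup.relIndex_mul_index (inf_le_right : H ⊓ lineStab Q z ≤ lineStab Q z)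
      rw [Subgroup.inf_relIndex_left] at h5
      rw [Subgroup.inf_relIndex_right] at h6
      rw [mul_comm, h5, ← h6, mul_comm]
    have hIpos : 0 < H.index := Nat.pos_of_ne_zero Subgroup.index_ne_zero_of_finite
    obtain ⟨q, hqdef⟩ : ∃ q, Nat.card F = q := ⟨_, rfl⟩
    rw [hqdef] at horb hN hbd hq
    have hz4 : zc q 0 4 + q ^ 3 = q ^ 7 + q ^ 4 := by
      obtain ⟨p', rfl⟩ : ∃ p', q = p' + 1 := ⟨q - 1, by omega⟩
      simp only [zc, Nat.add_sub_cancel]; ring
    have hM : (lineStab Q z).relIndex H * (q - 1) ≤ q ^ 3 * ((q + 1) * (q ^ 2 + 1)) * (q - 1) := by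
      have e4 : q ^ 3 * ((q + 1) * (q ^ 2 + 1)) * (q - 1) + q ^ 3 = q ^ 7 := by
        obtain ⟨p', rfl⟩ : ∃ p', q = p' + 1 := ⟨q - 1, by omega⟩
        simp only [Nat.add_sub_cancel]; ring
      omega
    have hM' := Nat.le_of_mul_le_mul_right hM (by omega)
    have h10 : (lineStab Q z).index * (q ^ 3 * ((q + 1) * (q ^ 2 + 1))) ≤
        H.index * (q ^ 3 * ((q + 1) * (q ^ 2 + 1))) := by
      calc (lineStab Q z).index * (q ^ 3 * ((q + 1) * (q ^ 2 + 1)))
          ≤ (lineStab Q z).index * H.relIndex (lineStab Q z) := Nat.mul_le_mul_left _ hbd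
        _ = H.index * (lineStab Q z).relIndex H := hmul.symm
        _ ≤ _ := Nat.mul_le_mul_left _ hM'
    have h11 := Nat.le_of_mul_le_mul_right h10 (by positivity)
    omega

end Cfsg.Agent.OrthMin
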