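/-
A subgroup of small index would fix a non-singular point, which is impossible.
-/
import Cfsg.Agent.Lib.OrthMinIndex.Rel

set_option autoImplicit false

namespace Cfsg.Agent.OrthMin

open QuadraticMap Module Cfsg.Agent.Orth Cfsg.Agent.OrthDeg

variable {F V : Type*} [Field F] [AddCommGroup V] [Module F V] {Q : QuadraticForm F V}
variable [FiniteDimensional F V] [Fintype F] {H : Subgroup (omg Q)}

/-- A singular vector with a partner orthogonal to a subspace with a small radical. -/
theorem exists_pair_perp (hG : Good Q) (L : Submodule F V)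
    (h : finrank F L + finrank F (L ⊓ perp Q L : Submodule F V) + 3 ≤ finrank F V) :
    ∃ y d, IsPair Q y d ∧ y ∈ perp Q L ∧ d ∈ perp Q L := by
  obtain ⟨C, hC⟩ := Submodule.exists_isCompl ((L ⊓ perp Q L).comap (perp Q L).subtype)
  have hnd : ∀ a ∈ C.map (perp Q L).subtype, (∀ b ∈ C.map (perp Q L).subtype, polar Q a b = 0) → a = 0 := by
    rintro _ ⟨a, ha, rfl⟩ hb
    have haP : (a : V) ∈ L := by
      refine (le_of_eq (perp_perp hG.nd L) : perp Q (perp Q L) ≤ L) ?_
      intro b hb'
      obtain ⟨r, hr, s, hs, hrs⟩ := Submodule.mem_sup.1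
        (show (⟨b, hb'⟩ : perp Q L) ∈ (L ⊓ perp Q L).comap (perp Q L).subtype ⊔ C by
          rw [hC.sup_eq_top]; exact Submodule.mem_top)
      have e : b = (r : V) + (s : V) := (congrArg Subtype.val hrs).symm
      rw [e, b_add_left, a.2 r hr.1, zero_add, b_comm]
      exact hb _ ⟨s, hs, rfl⟩
    exact congrArg Subtype.val (Submodule.disjoint_def.1 hC.disjoint a ⟨haP, a.2⟩ ha)
  have hd := Submodule.finrank_add_eq_of_isCompl hC
  rw [(Submodule.comapSubtypeEquivOfLe inf_le_right).finrank_eq] at hd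
  have hp := finrank_perp_eq hG.nd L
  have hCd : 3 ≤ finrank F (C.map (perp Q L).subtype) := by
    rw [← (Submodule.equivMapOfInjective _ (perp Q L).injective_subtype C).finrank_eq]; omega
  obtain ⟨e, he0, he⟩ := exists_singular (nondeg_restr hnd) hCd
  obtain ⟨d, hd1, hd0⟩ := exists_partner (nondeg_restr hnd) he0 he
  obtain ⟨e', -, hee⟩ := e.2
  obtain ⟨d', -, hdd⟩ := d.2
  exact ⟨e, d, ⟨he, hd0, hd1⟩, hee ▸ e'.2, hdd ▸ d'.2⟩

theorem rad_le (L : Submodule F V) : finrank F (L ⊓ perp Q L : Submodule F V) ≤ finrank F L :=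
  Submodule.finrank_mono inf_le_left

/-- A neighbour of a point x with a line of dual. -/
def IsNbr (Q : QuadraticForm F V) (H : Subgroup (omg Q)) (x y : V) : Prop :=
  Q y = 0 ∧ y ∈ ks Q H x ∧ y ∉ wk Q H x

theorem IsNbr.ne {x y : V} (h : IsNbr Q H x y) : y ≠ 0 := fun h0 => h.2.2 (by rw [h0]; exact Submodule.zero_mem _)

/-- The hypotheses left after the local analysis and the exclusion of full points. -/
structure Small (Q : QuadraticForm F V) (H : Subgroup (omg Q)) (m : ℕ) : Prop where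
  good : Good Q
  dim : 7 ≤ finrank F V
  nofull : ∀ e, e ≠ 0 → Q e = 0 → ¬ IsFullAt Q H e
  cls : ∀ e, e ≠ 0 → Q e = 0 →
    ks Q H e ≤ Submodule.span F {e} ∨ finrank F (wk Q H e) = 2 ∨ IsPlAt Q H e m

variable {m : ℕ}

/-- A point of a totally singular family has a line of dual through its parent. -/
theorem pl_line (hS : Small Q H m) {y u : V} (hy : Q y = 0) (hu : Q u = 0) (hu0 : u ≠ 0)
    (hyu : polar Q y u = 0) (hr : ∀ w, polar Q y w = 0 → polar Q u w = 0 → tr Q u w ∈ H) :
    finrank F (wk Q H u) = 2 ∧ wk Q H u ≤ Submodule.span F {y, u} := by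
  have hle : wk Q H u ≤ Submodule.span F {y, u} := by
    refine le_trans (b := perp Q (perp Q (Submodule.span F {y, u}))) (fun z hz w hw => ?_) (perp_perp hS.good.nd _).le
    have h1 : polar Q y w = 0 := mem_perp_span.1 hw y (by simp)
    have h2 : polar Q u w = 0 := mem_perp_span.1 hw u (by simp)
    exact hz w ((mem_ks hS.good hu).2 ⟨h2, fun c => hr _ (by rw [b_smul_right, h1, mul_zero])
      (by rw [b_smul_right, h2, mul_zero])⟩)
  exact ⟨le_antisymm ((Submodule.finrank_mono hle).trans (finrank_span_pair_le y u))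
    (two_le_wk hS.good hu0 hu (hS.nofull u hu0 hu)), hle⟩

/-- A neighbour has a line of dual inside the plane spanned with the line of x. -/
theorem nbr_line (hS : Small Q H m) {x : V} (hx0 : x ≠ 0) (hx : Q x = 0) (hL : finrank F (wk Q H x) = 2) {y : V}
    (hy : IsNbr Q H x y) :
    finrank F (wk Q H y) = 2 ∧ x ∉ wk Q H y ∧ wk Q H y ≤ wk Q H x ⊔ Submodule.span F {y} := by
  have hG := hS.good
  obtain ⟨hy1, hy2, hy3⟩ := hy
  have hy0 : y ≠ 0 := IsNbr.ne ⟨hy1, hy2, hy3⟩
  have hxy := ks_symm hG hx hy1 hy2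
  have h2 := two_le_wk hG hy0 hy1 (hS.nofull y hy0 hy1)
  rcases Nat.lt_or_ge 2 (finrank F (wk Q H y)) with h3 | h3
  · exfalso
    by_cases hxm : x ∈ wk Q H y
    swap
    · have hle := key_rel hG hx hy1 hy0 hy2 hxm
      have h4 := Submodule.finrank_add_le_finrank_add_finrank (wk Q H x) (Submodule.span F {y})
      rw [hL, finrank_span_singleton hy0] at h4
      exact hxm ((Submodule.eq_of_le_of_finrank_le hle (by omega)).ge (Submodule.mem_sup_left (self_mem_wk hG hx)))
    rcases hS.cls y hy0 hy1 with hz | h | ⟨U, hU, hyU, hwU, hr, -, -⟩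
    · obtain ⟨t, ht⟩ := Submodule.mem_span_singleton.1 (hz hxy)
      have ht0 : t ≠ 0 := fun h => hx0 (by rw [← ht, h, zero_smul])
      refine hy3 ?_
      have := Submodule.smul_mem _ t⁻¹ (self_mem_wk hG hx : x ∈ wk Q H x)
      rw [← ht, smul_smul, inv_mul_cancel₀ ht0, one_smul, ht] at this
      exact this
    · omega
    obtain ⟨s, hs, u, hu, hsu⟩ := Submodule.mem_sup.1 (hwU hxm)
    obtain ⟨a, rfl⟩ := Submodule.mem_span_singleton.1 hs
    obtain ⟨hu1, hyu⟩ := hU u hu
    have hu0 : u ≠ 0 := fun h => by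
      rw [h, add_zero] at hsu
      have ha : a ≠ 0 := fun h' => hx0 (by rw [← hsu, h', zero_smul])
      refine hy3 ?_
      have := Submodule.smul_mem _ a⁻¹ (self_mem_wk hG hx : x ∈ wk Q H x)
      rw [← hsu, smul_smul, inv_mul_cancel₀ ha, one_smul, hsu] at this
      exact this
    obtain ⟨hu2, hule⟩ := pl_line hS hy1 hu1 hu0 hyu (hr u hu)
    have heq : wk Q H u = Submodule.span F {y, u} :=
      Submodule.eq_of_le_of_finrank_le hule ((finrank_span_pair_le y u).trans hu2.ge)
    rcases eq_or_ne a 0 with rfl | ha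
    · rw [zero_smul, zero_add] at hsu
      subst hsu
      exact hy3 (heq.ge (Submodule.subset_span (by simp)))
    have hux : u ∈ ks Q H x := by
      rw [show u = x - a • y by rw [← hsu]; abel]
      exact Submodule.sub_mem _ (self_mem_ks hG hx) (Submodule.smul_mem _ _ hy2)
    have hunot : u ∉ wk Q H x := fun h => hy3 (by
      have h' := Submodule.smul_mem _ a⁻¹ (Submodule.sub_mem _ (self_mem_wk hG hx) h)
      rw [← hsu, add_sub_cancel_right, smul_smul, inv_mul_cancel₀ ha, one_smul, hsu] at h'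
      exact h')
    have hxu : x ∈ wk Q H u := heq.ge (Submodule.mem_span_pair.2 ⟨a, 1, by rw [one_smul, hsu]⟩)
    have h5 := key_rel hG hu1 hx hx0 (ks_symm hG hx hu1 hux) hunot
    rw [sup_eq_left.2 ((Submodule.span_singleton_le_iff_mem _ _).2 hxu)] at h5
    exact hunot ((Submodule.eq_of_le_of_finrank_le h5 (by omega)).ge (self_mem_wk hG hu1))
  have hL2 : finrank F (wk Q H y) = 2 := le_antisymm h3 h2
  have hxm : x ∉ wk Q H y := fun hxm => by
    have h5 := key_rel hG hy1 hx hx0 hxy hy3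
    rw [sup_eq_left.2 ((Submodule.span_singleton_le_iff_mem _ _).2 hxm)] at h5
    exact hy3 ((Submodule.eq_of_le_of_finrank_le h5 (by omega)).ge (self_mem_wk hG hy1))
  exact ⟨hL2, hxm, key_rel hG hx hy1 hy0 hy2 hxm⟩

theorem nbr_smul (hG : Good Q) {x y : V} (hy : IsNbr Q H x y) {c : F} (hc : c ≠ 0) : IsNbr Q H x (c • y) :=
  ⟨by rw [q_smul, hy.1, mul_zero], Submodule.smul_mem _ _ hy.2.1, fun h => hy.2.2 (by
    have := Submodule.smul_mem _ c⁻¹ h
    rwa [smul_smul, inv_mul_cancel₀ hc, one_smul] at this)⟩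

theorem nbr_inf (hS : Small Q H m) {x : V} (hx0 : x ≠ 0) (hx : Q x = 0) (hL : finrank F (wk Q H x) = 2) {y : V}
    (hy : IsNbr Q H x y) : finrank F (wk Q H x ⊓ wk Q H y : Submodule F V) = 1 := by
  obtain ⟨h2, hxy, hle⟩ := nbr_line hS hx0 hx hL hy
  have h4 := Submodule.finrank_add_le_finrank_add_finrank (wk Q H x) (Submodule.span F {y})
  rw [hL, finrank_span_singleton hy.ne] at h4
  have h5 := Submodule.finrank_mono (sup_le le_sup_left hle : wk Q H x ⊔ wk Q H y ≤ _)
  have h6 := Submodule.finrank_sup_add_finrank_inf_eq (wk Q H x) (wk Q H y)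
  have h7 : wk Q H x ⊓ wk Q H y < wk Q H x :=
    lt_of_le_of_ne inf_le_left fun h => hxy (h.ge (self_mem_wk hS.good hx)).2
  have := Submodule.finrank_lt_finrank_of_lt h7
  omega

/-- The common point does not change along non-orthogonal neighbours. -/
theorem nbr_move (hS : Small Q H m) {x : V} (hx0 : x ≠ 0) (hx : Q x = 0) (hL : finrank F (wk Q H x) = 2)
    {y y' z : V} (hy : IsNbr Q H x y) (hy' : IsNbr Q H x y') (hz : IsNbr Q H x z) (hb : polar Q y y' ≠ 0)
    (hyz : polar Q y z = polar Q y y') : wk Q H x ⊓ wk Q H z = wk Q H x ⊓ wk Q H y' := by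
  have hG := hS.good
  obtain ⟨-, -, hle⟩ := nbr_line hS hx0 hx hL hy
  set b := polar Q y y' with hbdef
  obtain ⟨w, hwdef⟩ : ∃ w, b⁻¹ • (z - y') = w := ⟨_, rfl⟩
  have hyw : polar Q y w = 0 := by rw [← hwdef, b_smul_right, b_sub_right, hyz]; ring
  have hwks : w ∈ ks Q H y := by
    rw [← perp_wk hG]
    intro t ht
    obtain ⟨l, hl, r, hr, rfl⟩ := Submodule.mem_sup.1 (hle ht)
    obtain ⟨a, rfl⟩ := Submodule.mem_span_singleton.1 hr
    have h1 : polar Q l w = 0 := by
      have hp := fun v (hv : v ∈ ks Q H x) => (perp_wk (H := H) (x := x) hG).ge hv l hl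
      rw [← hwdef, b_smul_right, b_sub_right, hp z hz.2.1, hp y' hy'.2.1]; ring
    rw [b_add_left, b_smul_left, h1, hyw]; ring
  obtain ⟨h, hh⟩ : ∃ h, tr Q y w = h := ⟨_, rfl⟩
  have hhH : h ∈ H := hh ▸ tr_mem_of_ks hG hy.1 hwks
  have hmove : app h y' = z := by
    rw [← hh, tr_apply hG hy.1 hyw, b_comm y' y, ← hbdef]
    obtain ⟨k, hk⟩ : ∃ k, polar Q y' w + Q w * b = k := ⟨_, rfl⟩
    rw [hk]
    have hbw : b • w = z - y' := by rw [← hwdef, smul_smul, mul_inv_cancel₀ hb, one_smul]
    have hq := q_app h y'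
    rw [← hh, tr_apply hG hy.1 hyw, b_comm y' y, ← hbdef, hk, hbw, show y' + (z - y') - k • y = z - k • y by abel,
      q_sub, q_smul, b_smul_right, hz.1, hy.1, hy'.1, b_comm z y, hyz] at hq
    have hk0 : k = 0 := (mul_eq_zero.1 (show k * b = 0 by linear_combination -hq)).resolve_right hb
    rw [hk0, hbw, zero_smul, sub_zero]; abel
  have hle2 : wk Q H x ⊓ wk Q H y' ≤ wk Q H x ⊓ wk Q H z := by
    rintro t ⟨ht, ht'⟩
    refine ⟨ht, ?_⟩
    have h1 := wk_conj hG hy'.1 hhH ht'
    rw [hmove] at h1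
    have hp := fun v (hv : v ∈ ks Q H x) => (perp_wk (H := H) (x := x) hG).ge hv t ht
    have hfix : app h t = t := by
      rw [← hh]
      refine tr_fix hG hy.1 hyw (hp y hy.2.1) ?_
      rw [← hwdef, b_smul_right, b_sub_right, hp z hz.2.1, hp y' hy'.2.1]; ring
    rwa [hfix] at h1
  exact (Submodule.eq_of_le_of_finrank_le hle2
    (by rw [nbr_inf hS hx0 hx hL hz, nbr_inf hS hx0 hx hL hy'])).symm

theorem nbr_of_polar (hG : Good Q) {x y z : V} (hy : IsNbr Q H x y) (hz : Q z = 0) (hzk : z ∈ ks Q H x)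
    (h : polar Q y z ≠ 0) : IsNbr Q H x z :=
  ⟨hz, hzk, fun hm => h (by rw [b_comm]; exact (perp_wk (H := H) (x := x) hG).ge hy.2.1 z hm)⟩

/-- All neighbours share their common point with x. -/
theorem nbr_const (hS : Small Q H m) {x : V} (hx0 : x ≠ 0) (hx : Q x = 0) (hL : finrank F (wk Q H x) = 2)
    {y y' : V} (hy : IsNbr Q H x y) (hy' : IsNbr Q H x y') :
    wk Q H x ⊓ wk Q H y = wk Q H x ⊓ wk Q H y' := by
  have hG := hS.good
  have hn := hS.dim
  have hp := fun v (hv : v ∈ ks Q H x) => (perp_wk (H := H) (x := x) hG).ge hv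
  have key : ∀ {y y' : V}, IsNbr Q H x y → IsNbr Q H x y' → polar Q y y' ≠ 0 →
      wk Q H x ⊓ wk Q H y = wk Q H x ⊓ wk Q H y' := by
    intro y y' hy hy' hb
    obtain ⟨v, hv, hvq⟩ : ∃ v ∈ perp Q (wk Q H x ⊔ Submodule.span F {y, y'}), Q v ≠ 0 := by
      by_contra hcon
      push Not at hcon
      have hle : perp Q (wk Q H x ⊔ Submodule.span F {y, y'}) ≤ wk Q H x := by
        intro r hr
        have h1 : r ∈ perp Q (perp Q (wk Q H x ⊔ Submodule.span F {y, y'})) :=
          fun s hs => b_eq_zero_of_singular hcon hs hr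
        rw [perp_perp hG.nd] at h1
        obtain ⟨l, hl, t, ht, rfl⟩ := Submodule.mem_sup.1 h1
        obtain ⟨a, b, rfl⟩ := Submodule.mem_span_pair.1 ht
        have h2 := hr y (Submodule.mem_sup_right (Submodule.subset_span (by simp)))
        have h3 := hr y' (Submodule.mem_sup_right (Submodule.subset_span (by simp)))
        rw [b_add_right, b_add_right, b_smul_right, b_smul_right, b_self, hy.1, b_comm y l, hp y hy.2.1 l hl] at h2
        rw [b_add_right, b_add_right, b_smul_right, b_smul_right, b_self, hy'.1, b_comm y' l, hp y' hy'.2.1 l hl,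
          b_comm y' y] at h3
        have hb0 : b = 0 := (mul_eq_zero.1 (show b * polar Q y y' = 0 by linear_combination h2)).resolve_right hb
        have ha0 : a = 0 := (mul_eq_zero.1 (show a * polar Q y y' = 0 by linear_combination h3)).resolve_right hb
        rw [hb0, ha0, zero_smul, zero_smul, add_zero, add_zero]
        exact hl
      have h4 := Submodule.finrank_mono hle
      have h5 := finrank_perp_eq hG.nd (wk Q H x ⊔ Submodule.span F {y, y'})
      have h6 := Submodule.finrank_add_le_finrank_add_finrank (wk Q H x) (Submodule.span F {y, y'})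
      have h7 := finrank_span_pair_le (F := F) y y'
      omega
    have hvk : v ∈ ks Q H x := by
      rw [← perp_wk hG]; exact fun t ht => hv t (Submodule.mem_sup_left ht)
    have hvy : polar Q y v = 0 := hv y (Submodule.mem_sup_right (Submodule.subset_span (by simp)))
    have hvy' : polar Q y' v = 0 := hv y' (Submodule.mem_sup_right (Submodule.subset_span (by simp)))
    obtain ⟨z, hzdef⟩ : ∃ z, (-Q v / polar Q y y') • y + y' + v = z := ⟨_, rfl⟩
    have hz1 : polar Q y z = polar Q y y' := by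
      rw [← hzdef, b_add_right, b_add_right, b_smul_right, b_self, hy.1, hvy]; ring
    have hz2 : polar Q y' z = -Q v := by
      rw [← hzdef, b_add_right, b_add_right, b_smul_right, b_self, hy'.1, hvy', b_comm y' y,
        div_mul_cancel₀ _ hb]; ring
    have hzk : z ∈ ks Q H x := hzdef ▸ Submodule.add_mem _ (Submodule.add_mem _ (Submodule.smul_mem _ _ hy.2.1) hy'.2.1) hvk
    have hzq : Q z = 0 := by
      rw [← hzdef, q_add, q_add, q_smul, b_add_left, b_smul_left, b_smul_left, hy.1, hy'.1, hvy, hvy',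
        div_mul_cancel₀ _ hb]; ring
    have hzn : IsNbr Q H x z := nbr_of_polar hG hy hzq hzk (hz1 ▸ hb)
    have e1 := nbr_move hS hx0 hx hL hy hy' hzn hb hz1
    have hne : polar Q y' z ≠ 0 := by rw [hz2]; exact neg_ne_zero.2 hvq
    have hc : polar Q y' y / polar Q y' z ≠ 0 := div_ne_zero (by rwa [b_comm]) hne
    have e2 := nbr_move hS hx0 hx hL hy' hy (nbr_smul hG hzn hc) (by rwa [b_comm])
      (by rw [b_smul_right, div_mul_cancel₀ _ hne])
    rw [wk_smul hG hzn.1 hc] at e2
    rw [← e2, e1]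
  by_cases hb : polar Q y y' = 0
  swap
  · exact key hy hy' hb
  have partner : ∀ {y : V}, IsNbr Q H x y → ∃ d ∈ ks Q H x, polar Q y d ≠ 0 := by
    intro y hy
    by_contra h
    push Not at h
    exact hy.2.2 (fun w hw => by rw [b_comm]; exact h w hw)
  obtain ⟨d, hd, hyd⟩ := partner hy
  obtain ⟨z, hz, hyz, hy'z⟩ : ∃ z ∈ ks Q H x, polar Q y z ≠ 0 ∧ polar Q y' z ≠ 0 := by
    by_cases h : polar Q y' d = 0
    · obtain ⟨d', hd', hyd'⟩ := partner hy'
      by_cases h' : polar Q y d' = 0
      · exact ⟨d + d', Submodule.add_mem _ hd hd', by rw [b_add_right, h', add_zero]; exact hyd,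
          by rw [b_add_right, h, zero_add]; exact hyd'⟩
      · exact ⟨d', hd', h', hyd'⟩
    · exact ⟨d, hd, hyd, h⟩
  obtain ⟨w, hwdef⟩ : ∃ w, z + (-Q z / polar Q y z) • y = w := ⟨_, rfl⟩
  have hw1 : polar Q y w = polar Q y z := by rw [← hwdef, b_add_right, b_smul_right, b_self, hy.1]; ring
  have hw2 : polar Q y' w = polar Q y' z := by
    rw [← hwdef, b_add_right, b_smul_right, b_comm y' y, hb, mul_zero, add_zero]
  have hwq : Q w = 0 := by
    rw [← hwdef, q_add, q_smul, b_smul_right, hy.1, b_comm z y, div_mul_cancel₀ _ hyz]; ring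
  have hwn : IsNbr Q H x w := nbr_of_polar hG hy hwq
    (hwdef ▸ Submodule.add_mem _ hz (Submodule.smul_mem _ _ hy.2.1)) (hw1 ▸ hyz)
  exact (key hy hwn (hw1 ▸ hyz)).trans (key hy' hwn (hw2 ▸ hy'z)).symm

/-- The centre at x: a non-singular p spanning the line of dual with every neighbour. -/
def IsCentre (Q : QuadraticForm F V) (H : Subgroup (omg Q)) (x p : V) : Prop :=
  Q p ≠ 0 ∧ wk Q H x = Submodule.span F {x, p} ∧ ∀ y, IsNbr Q H x y → wk Q H y = Submodule.span F {y, p}

theorem exists_centre (hS : Small Q H m) {x : V} (hx0 : x ≠ 0) (hx : Q x = 0)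
    (hL : finrank F (wk Q H x) = 2) : ∃ p, IsCentre Q H x p := by
  have hG := hS.good
  have hn := hS.dim
  obtain ⟨y, d, pr, hyk, hdk⟩ := exists_pair_perp hG (wk Q H x)
    (by have := rad_le (Q := Q) (wk Q H x); omega)
  rw [perp_wk hG] at hyk hdk
  have hp' := fun v (hv : v ∈ ks Q H x) => (perp_wk (H := H) (x := x) hG).ge hv
  have hy : IsNbr Q H x y := ⟨pr.qe, hyk, fun h => by
    have := hp' d hdk y h
    rw [pr.ed] at this
    exact one_ne_zero this⟩
  obtain ⟨p, ⟨hpx, hpy⟩, hp0⟩ : ∃ p ∈ wk Q H x ⊓ wk Q H y, p ≠ 0 := Submodule.exists_mem_ne_zero_of_ne_bot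
    fun h => by have := nbr_inf hS hx0 hx hL hy; rw [h, finrank_bot] at this; omega
  have hxp : polar Q x p = 0 := by
    rw [b_comm]; exact hp' x (self_mem_ks hG hx) p hpx
  have hspan : ∀ z, IsNbr Q H x z → p ∈ wk Q H z ∧ wk Q H z = Submodule.span F {z, p} := by
    intro z hz
    have h1 : p ∈ wk Q H z := ((nbr_const hS hx0 hx hL hy hz).le ⟨hpx, hpy⟩).2
    refine ⟨h1, ?_⟩
    have hind : LinearIndependent F ![z, p] := (LinearIndependent.pair_iff' hz.ne).2 fun t ht => by
      refine hz.2.2 ?_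
      have ht0 : t ≠ 0 := fun h => hp0 (by rw [← ht, h, zero_smul])
      have := Submodule.smul_mem _ t⁻¹ hpx
      rwa [← ht, smul_smul, inv_mul_cancel₀ ht0, one_smul] at this
    refine (Submodule.eq_of_le_of_finrank_le (Submodule.span_le.2 ?_) ?_).symm
    · rintro t (rfl | rfl)
      · exact self_mem_wk hG hz.1
      · exact h1
    · rw [(nbr_line hS hx0 hx hL hz).1, finrank_span_pair hind]
  have hind : LinearIndependent F ![x, p] := (LinearIndependent.pair_iff' hx0).2 fun t ht => by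
    have ht0 : t ≠ 0 := fun h => hp0 (by rw [← ht, h, zero_smul])
    have h1 := Submodule.smul_mem _ t⁻¹ hpy
    rw [← ht, smul_smul, inv_mul_cancel₀ ht0, one_smul] at h1
    exact (nbr_line hS hx0 hx hL hy).2.1 h1
  have hwx : wk Q H x = Submodule.span F {x, p} := by
    refine (Submodule.eq_of_le_of_finrank_le (Submodule.span_le.2 ?_) ?_).symm
    · rintro t (rfl | rfl)
      · exact self_mem_wk hG hx
      · exact hpx
    · rw [hL, finrank_span_pair hind]
  refine ⟨p, fun hpq => ?_, hwx, fun z hz => (hspan z hz).2⟩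
  have hnb : ∀ z, IsNbr Q H x z → z ∈ ks Q H p := by
    intro z hz
    refine ks_symm hG hz.1 hpq ?_
    rw [← perp_wk hG, (hspan z hz).2]
    refine mem_perp_span.2 ?_
    rintro t (rfl | rfl)
    · rw [b_comm]; exact hp' t hz.2.1 p hpx
    · rw [b_self, hpq, mul_zero]
  have hle : ks Q H x ≤ ks Q H p := by
    intro v hv
    obtain ⟨v₀, hv₀⟩ : ∃ v₀, v - polar Q v d • y - polar Q v y • d = v₀ := ⟨_, rfl⟩
    obtain ⟨h1, h2⟩ := mem_pperp.1 (hv₀ ▸ pperp_part pr v : v₀ ∈ pperp Q y d)
    obtain ⟨s, hs⟩ : ∃ s, v₀ + y - Q v₀ • d = s := ⟨_, rfl⟩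
    have hsy : polar Q y s = -Q v₀ := by
      rw [← hs, b_sub_right, b_add_right, b_smul_right, h1, pr.ee, pr.ed]; ring
    have hsd : polar Q d s = 1 := by
      rw [← hs, b_sub_right, b_add_right, b_smul_right, h2, pr.de, pr.dd]; ring
    have hsq : Q s = 0 := by
      rw [← hs, q_sub, q_add, q_smul, b_smul_right, b_add_left, pr.qe, pr.qd, pr.ed, b_comm v₀ y, h1,
        b_comm v₀ d, h2]; ring
    have hv₀k : v₀ ∈ ks Q H x := hv₀ ▸ Submodule.sub_mem _ (Submodule.sub_mem _ hv (Submodule.smul_mem _ _ hyk))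
      (Submodule.smul_mem _ _ hdk)
    have hdn : IsNbr Q H x d := nbr_of_polar hG hy pr.qd hdk (by rw [pr.ed]; exact one_ne_zero)
    have hsn : IsNbr Q H x s := nbr_of_polar hG hdn hsq
      (hs ▸ Submodule.sub_mem _ (Submodule.add_mem _ hv₀k hyk) (Submodule.smul_mem _ _ hdk))
      (by rw [hsd]; exact one_ne_zero)
    rw [show v = polar Q v d • y + polar Q v y • d + (s - y + Q v₀ • d) by rw [← hs, ← hv₀]; module]
    exact Submodule.add_mem _ (Submodule.add_mem _ (Submodule.smul_mem _ _ (hnb y hy)) (Submodule.smul_mem _ _ (hnb d hdn)))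
      (Submodule.add_mem _ (Submodule.sub_mem _ (hnb s hsn) (hnb y hy)) (Submodule.smul_mem _ _ (hnb d hdn)))
  have hwp : wk Q H p ≤ wk Q H x := fun t ht b hb => ht b (hle hb)
  have hwp2 : wk Q H p = wk Q H x := Submodule.eq_of_le_of_finrank_le hwp
    (by rw [hL]; exact two_le_wk hG hp0 hpq (hS.nofull p hp0 hpq))
  have hyp : IsNbr Q H p y := ⟨pr.qe, hnb y hy, fun h => hy.2.2 (hwp2.le h)⟩
  exact (nbr_line hS hp0 hpq (by rw [hwp2, hL]) hyp).2.1 (hspan y hy).1

theorem singular_in_line {x p t : V} (hx : Q x = 0) (hxp : polar Q x p = 0) (hp : Q p ≠ 0)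
    (ht : t ∈ Submodule.span F {x, p}) (htq : Q t = 0) : t ∈ Submodule.span F {x} := by
  obtain ⟨a, b, rfl⟩ := Submodule.mem_span_pair.1 ht
  rw [q_add, q_smul, q_smul, b_smul_left, b_smul_right, hx, hxp] at htq
  have hb : b = 0 := mul_self_eq_zero.1 ((mul_eq_zero.1
    (show b * b * Q p = 0 by linear_combination htq)).resolve_right hp)
  rw [hb, zero_smul, add_zero]
  exact Submodule.smul_mem _ _ (Submodule.mem_span_singleton_self x)

theorem centre_perp (hG : Good Q) {x p : V} (hx : Q x = 0) (h : IsCentre Q H x p) : polar Q x p = 0 :=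
  ((perp_wk (H := H) (x := x) hG).ge (self_mem_ks hG hx) p
    (h.2.1.ge (Submodule.subset_span (by simp)))) ▸ (b_comm x p)

/-- Every singular point orthogonal to a centre has that centre. -/
theorem centre_spread (hS : Small Q H m) {x p : V} (hx0 : x ≠ 0) (hx : Q x = 0) (hc : IsCentre Q H x p) {z : V}
    (hz0 : z ≠ 0) (hz : Q z = 0) (hzp : polar Q p z = 0) : wk Q H z = Submodule.span F {z, p} := by
  have hG := hS.good
  have hn := hS.dim
  have hxp := centre_perp hG hx hc
  have near : ∀ {x : V}, x ≠ 0 → Q x = 0 → IsCentre Q H x p → ∀ {z : V}, z ≠ 0 → Q z = 0 →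
      polar Q p z = 0 → polar Q x z = 0 → wk Q H z = Submodule.span F {z, p} ∧
        (z ∉ Submodule.span F {x} → IsNbr Q H x z) := by
    intro x hx0 hx hc z hz0 hz hzp hxz
    have hzk : z ∈ ks Q H x := by
      rw [← perp_wk hG, hc.2.1]
      exact mem_perp_span.2 (by rintro t (rfl | rfl) <;> assumption)
    by_cases hzx : z ∈ Submodule.span F {x}
    · refine ⟨?_, fun h => absurd hzx h⟩
      obtain ⟨t, rfl⟩ := Submodule.mem_span_singleton.1 hzx
      have ht : t ≠ 0 := fun h => hz0 (by rw [h, zero_smul])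
      rw [wk_smul hG hx ht, hc.2.1]
      refine le_antisymm (Submodule.span_le.2 ?_) (Submodule.span_le.2 ?_)
      · rintro s (rfl | rfl)
        · exact Submodule.mem_span_pair.2 ⟨t⁻¹, 0, by rw [zero_smul, add_zero, smul_smul, inv_mul_cancel₀ ht, one_smul]⟩
        · exact Submodule.subset_span (by simp)
      · rintro s (rfl | rfl)
        · exact Submodule.smul_mem _ _ (Submodule.subset_span (by simp))
        · exact Submodule.subset_span (by simp)
    · have hn : IsNbr Q H x z := ⟨hz, hzk, fun h =>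
        hzx (singular_in_line hx (centre_perp hG hx hc) hc.1 (hc.2.1.le h) hz)⟩
      exact ⟨hc.2.2 z hn, fun _ => hn⟩
  by_cases hxz : polar Q x z = 0
  · exact (near hx0 hx hc hz0 hz hzp hxz).1
  obtain ⟨u, d, pr, huP, -⟩ := exists_pair_perp hG (Submodule.span F {x, z, p}) (by
    have h1 : finrank F (Submodule.span F ({x, z, p} : Set V)) ≤ 3 := by
      classical
      refine (finrank_span_le_card _).trans ?_
      simp only [Set.toFinset_insert, Set.toFinset_singleton]
      exact Finset.card_le_three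
    have h2 : Submodule.span F ({x, z, p} : Set V) ⊓ perp Q (Submodule.span F {x, z, p}) ≤ Submodule.span F {p} := by
      rintro r ⟨hr, hr'⟩
      obtain ⟨a, b, c, hs⟩ := Submodule.mem_span_triple.1 hr
      have e1 := hr' x (Submodule.subset_span (by simp))
      have e2 := hr' z (Submodule.subset_span (by simp))
      rw [← hs, b_add_right, b_add_right, b_smul_right, b_smul_right, b_smul_right, b_self, hx, hxp] at e1
      rw [← hs, b_add_right, b_add_right, b_smul_right, b_smul_right, b_smul_right, b_self, hz, b_comm z x,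
        b_comm z p, hzp] at e2
      have hb : b = 0 := (mul_eq_zero.1 (show b * polar Q x z = 0 by linear_combination e1)).resolve_right hxz
      have ha : a = 0 := (mul_eq_zero.1 (show a * polar Q x z = 0 by linear_combination e2)).resolve_right hxz
      rw [← hs, ha, hb, zero_smul, zero_smul, zero_add, zero_add]
      exact Submodule.smul_mem _ _ (Submodule.mem_span_singleton_self p)
    have h3 := Submodule.finrank_mono h2
    rw [finrank_span_singleton (fun h => hc.1 (by rw [h, map_zero]))] at h3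
    omega)
  have hux : polar Q x u = 0 := huP x (Submodule.subset_span (by simp))
  have huz : polar Q z u = 0 := huP z (Submodule.subset_span (by simp))
  have hup : polar Q p u = 0 := huP p (Submodule.subset_span (by simp))
  obtain ⟨huw, hun⟩ := near hx0 hx hc pr.ne pr.qe hup hux
  have hnotx : u ∉ Submodule.span F {x} := fun h => by
    obtain ⟨t, rfl⟩ := Submodule.mem_span_singleton.1 h
    rw [b_smul_right, b_comm z x] at huz
    exact hxz ((mul_eq_zero.1 huz).resolve_left fun ht => pr.ne (by rw [ht, zero_smul]))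
  have hn' := hun hnotx
  have hind : LinearIndependent F ![u, p] := (LinearIndependent.pair_iff' pr.ne).2 fun t ht => hc.1 (by
    rw [← ht, q_smul, pr.qe, mul_zero])
  have hu2 : finrank F (wk Q H u) = 2 := by rw [huw, finrank_span_pair hind]
  obtain ⟨p', hc'⟩ := exists_centre hS pr.ne pr.qe hu2
  -- the centre of u is the same point
  have hxn : IsNbr Q H u x := ⟨hx, by
      rw [← perp_wk hG, huw]
      exact mem_perp_span.2 (by
        rintro t (rfl | rfl)
        · rw [b_comm]; exact hux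
        · rw [b_comm]; exact hxp), fun h => by
      obtain ⟨t, ht⟩ := Submodule.mem_span_singleton.1
        (singular_in_line pr.qe (by rw [b_comm]; exact hup) hc.1 (huw.le h) hx)
      rw [← ht, b_smul_left, b_comm u z, huz, mul_zero] at hxz
      exact hxz rfl⟩
  have h1 := hc'.2.2 x hxn
  have hpp : p' ∈ Submodule.span F {p} := by
    have e1 : p' ∈ Submodule.span F {x, p} := by rw [← hc.2.1, h1]; exact Submodule.subset_span (by simp)
    have e2 : p' ∈ Submodule.span F {u, p} := by rw [← huw, hc'.2.1]; exact Submodule.subset_span (by simp)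
    obtain ⟨a, b, rfl⟩ := Submodule.mem_span_pair.1 e1
    obtain ⟨a', b', he⟩ := Submodule.mem_span_pair.1 e2
    have h4 := congrArg (fun v => polar Q z v) he
    simp only [b_add_right, b_smul_right, huz, b_comm z x, b_comm z p, hzp, mul_zero, add_zero, zero_add] at h4
    rw [(mul_eq_zero.1 h4.symm).resolve_right hxz, zero_smul, zero_add]
    exact Submodule.smul_mem _ _ (Submodule.mem_span_singleton_self p)
  obtain ⟨t, ht⟩ := Submodule.mem_span_singleton.1 hpp
  have ht0 : t ≠ 0 := fun h => hc'.1 (by rw [← ht, h, zero_smul, map_zero])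
  have hcu : IsCentre Q H u p := ⟨hc.1, huw, fun y hy => by
    rw [hc'.2.2 y hy, ← ht]
    refine le_antisymm (Submodule.span_le.2 ?_) (Submodule.span_le.2 ?_)
    · rintro s (rfl | rfl)
      · exact Submodule.subset_span (by simp)
      · exact Submodule.smul_mem _ _ (Submodule.subset_span (by simp))
    · rintro s (rfl | rfl)
      · exact Submodule.subset_span (by simp)
      · exact Submodule.mem_span_pair.2 ⟨0, t⁻¹, by rw [zero_smul, zero_add, smul_smul, inv_mul_cancel₀ ht0, one_smul]⟩⟩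
  exact (near pr.ne pr.qe hcu hz0 hz hzp (by rw [b_comm]; exact huz)).1

/-- The centre is unique. -/
theorem centre_unique (hS : Small Q H m) {p p' : V} (hp : Q p ≠ 0) (hp' : Q p' ≠ 0)
    (h : ∀ z, z ≠ 0 → Q z = 0 → polar Q p z = 0 → wk Q H z = Submodule.span F {z, p})
    (h' : ∀ z, z ≠ 0 → Q z = 0 → polar Q p' z = 0 → wk Q H z = Submodule.span F {z, p'}) :
    p' ∈ Submodule.span F {p} := by
  have hn := hS.dim
  obtain ⟨f, g, pr, hf, hg⟩ := exists_pair_perp hS.good (Submodule.span F {p, p'}) (by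
    have h1 := finrank_span_pair_le (F := F) p p'
    have h2 := rad_le (Q := Q) (Submodule.span F {p, p'})
    omega)
  have hpf := hf p (Submodule.subset_span (by simp))
  have hpg := hg p (Submodule.subset_span (by simp))
  have e1 : p' ∈ Submodule.span F {f, p} := by
    rw [← h f pr.ne pr.qe hpf, h' f pr.ne pr.qe (hf p' (Submodule.subset_span (by simp)))]
    exact Submodule.subset_span (by simp)
  have e2 : p' ∈ Submodule.span F {g, p} := by
    rw [← h g pr.symm.ne pr.qd hpg, h' g pr.symm.ne pr.qd (hg p' (Submodule.subset_span (by simp)))]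
    exact Submodule.subset_span (by simp)
  obtain ⟨a, b, rfl⟩ := Submodule.mem_span_pair.1 e1
  obtain ⟨a', b', he⟩ := Submodule.mem_span_pair.1 e2
  have h4 := congrArg (fun v => polar Q g v) he
  simp only [b_add_right, b_smul_right, pr.dd, pr.de, b_comm g p, hpg, mul_zero, add_zero, mul_one] at h4
  rw [← h4, zero_smul, zero_add]
  exact Submodule.smul_mem _ _ (Submodule.mem_span_singleton_self p)

/-- The centre of all points with a line of dual, fixed by H. -/
theorem centre_global (hS : Small Q H m) {x : V} (hx0 : x ≠ 0) (hx : Q x = 0) (hL : finrank F (wk Q H x) = 2) :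
    ∃ p, Q p ≠ 0 ∧ (∀ z, z ≠ 0 → Q z = 0 → ¬ ks Q H z ≤ Submodule.span F {z} → polar Q p z = 0) ∧
      ∀ h ∈ H, app h p ∈ Submodule.span F {p} := by
  have hG := hS.good
  obtain ⟨p, hc⟩ := exists_centre hS hx0 hx hL
  have hp : ∀ z, z ≠ 0 → Q z = 0 → polar Q p z = 0 → wk Q H z = Submodule.span F {z, p} :=
    fun z h0 hz => centre_spread hS hx0 hx hc h0 hz
  have hline : ∀ z, z ≠ 0 → Q z = 0 → ¬ ks Q H z ≤ Submodule.span F {z} → polar Q p z = 0 := by
    have two : ∀ z, z ≠ 0 → Q z = 0 → finrank F (wk Q H z) = 2 →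
        polar Q p z = 0 ∧ ∀ t ∈ wk Q H z, Q t = 0 → t ∈ Submodule.span F {z} := by
      intro z hz0 hz hz2
      obtain ⟨pz, hcz⟩ := exists_centre hS hz0 hz hz2
      have hzpz := centre_perp hG hz hcz
      obtain ⟨t, ht⟩ := Submodule.mem_span_singleton.1
        (centre_unique hS hc.1 hcz.1 hp (fun w h0 hw => centre_spread hS hz0 hz hcz h0 hw))
      refine ⟨?_, fun s hs hsq => singular_in_line hz hzpz hcz.1 (hcz.2.1.le hs) hsq⟩
      rw [← ht, b_smul_right, b_comm z p] at hzpz
      exact (mul_eq_zero.1 hzpz).resolve_left fun h => hcz.1 (by rw [← ht, h, zero_smul, map_zero])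
    intro z hz0 hz hzz
    rcases hS.cls z hz0 hz with h | h | ⟨U, hU, hzU, hwU, hr, -, -⟩
    · exact absurd h hzz
    · exact (two z hz0 hz h).1
    · exfalso
      obtain ⟨u, hu, hu0⟩ : ∃ u ∈ U, u ≠ 0 := Submodule.exists_mem_ne_zero_of_ne_bot fun h => by
        rw [h, sup_bot_eq] at hwU
        exact hS.nofull z hz0 hz (isFullAt_of_perp hG hz hwU)
      obtain ⟨hu2, hule⟩ := pl_line hS hz (hU u hu).1 hu0 (hU u hu).2 (hr u hu)
      have hmem : z ∈ wk Q H u :=
        (Submodule.eq_of_le_of_finrank_le hule ((finrank_span_pair_le z u).trans hu2.ge)).ge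
          (Submodule.subset_span (by simp))
      obtain ⟨t, ht⟩ := Submodule.mem_span_singleton.1 ((two u hu0 (hU u hu).1 hu2).2 z hmem hz)
      exact hzU (ht ▸ U.smul_mem t hu)
  refine ⟨p, hc.1, hline, fun g hgH => ?_⟩
  refine centre_unique hS hc.1 (by rw [q_app]; exact hc.1) hp fun w hw0 hw hwp => ?_
  have h1 := hp (app g⁻¹ w) (app_ne _ hw0) (by rw [q_app, hw])
    (by rw [← b_app g, app_app_inv]; exact hwp)
  refine le_antisymm (fun t ht => ?_) (Submodule.span_le.2 ?_)
  · have h2 := wk_conj hG hw (H.inv_mem hgH) ht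
    rw [h1] at h2
    obtain ⟨a, b, he⟩ := Submodule.mem_span_pair.1 h2
    refine Submodule.mem_span_pair.2 ⟨a, b, ?_⟩
    have e1 : g.1.1 (app g⁻¹ w) = w := app_app_inv g w
    conv_rhs => rw [← app_app_inv g t, ← he]
    show _ = g.1.1 _
    rw [map_add, map_smul, map_smul, e1]
  · rintro t (rfl | rfl)
    · exact self_mem_wk hG hw
    · have h3 := wk_conj hG (x := app g⁻¹ w) (by rw [q_app, hw]) hgH
        (h1.ge (Submodule.subset_span (show p ∈ ({app g⁻¹ w, p} : Set V) by simp)))
      rwa [app_app_inv] at h3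

/-- No subgroup is left. -/
theorem small_false (hS : Small Q H m) (hq : 4 ≤ Nat.card F)
    (hz' : ∀ e, e ≠ 0 → Q e = 0 → ks Q H e ≤ Submodule.span F {e} → IsZAt Q H e) : False := by
  have hG := hS.good
  have hn := hS.dim
  have notz : ∀ {x : V}, x ≠ 0 → Q x = 0 → ¬ IsZAt Q H x →
      ∃ u, u ≠ 0 ∧ Q u = 0 ∧ finrank F (wk Q H u) = 2 := by
    intro x hx0 hx hz
    rcases hS.cls x hx0 hx with h | h | ⟨U, hU, -, hwU, hr, -, -⟩
    · exact absurd (hz' x hx0 hx h) hz
    · exact ⟨x, hx0, hx, h⟩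
    · obtain ⟨u, hu, hu0⟩ : ∃ u ∈ U, u ≠ 0 := Submodule.exists_mem_ne_zero_of_ne_bot fun h => by
        rw [h, sup_bot_eq] at hwU
        exact hS.nofull x hx0 hx (isFullAt_of_perp hG hx hwU)
      exact ⟨u, hu0, (hU u hu).1, (pl_line hS hx (hU u hu).1 hu0 (hU u hu).2 (hr u hu)).1⟩
  -- inside the orthogonal of a point of type Z
  have zside : ∀ {e f : V}, IsPair Q e f → (∀ g : omg Q, app g e ∈ Submodule.span F {e} →
      app g f ∈ Submodule.span F {f} → g ∈ H) → ∀ y ∈ pperp Q e f, y ≠ 0 → Q y = 0 → ¬ IsZAt Q H y := by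
    intro e f pr hlev y hy hy0 hyq hz
    obtain ⟨w, hw, hwy, hwn⟩ : ∃ w ∈ pperp Q e f, polar Q y w = 0 ∧ w ∉ Submodule.span F {y} := by
      by_contra hcon
      push Not at hcon
      have h1 : pperp Q e f ⊓ perp Q (Submodule.span F {y}) ≤ Submodule.span F {y} :=
        fun w hw => hcon w hw.1 (hw.2 y (Submodule.mem_span_singleton_self y))
      have h2 := Submodule.finrank_mono h1
      have h3 := Submodule.finrank_sup_add_finrank_inf_eq (pperp Q e f) (perp Q (Submodule.span F {y}))
      have h4 := Submodule.finrank_le (pperp Q e f ⊔ perp Q (Submodule.span F {y}))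
      have h5 := finrank_perp_eq hG.nd (Submodule.span F {y})
      have h6 := finrank_pperp pr
      rw [finrank_span_singleton hy0] at h2 h5
      omega
    obtain ⟨y1, y2⟩ := mem_pperp.1 hy
    obtain ⟨w1, w2⟩ := mem_pperp.1 hw
    refine hwn (hz.1 ((mem_ks hG hyq).2 ⟨hwy, fun c => hlev _ ?_ ?_⟩))
    · rw [tr_fix hG hyq (by rw [b_smul_right, hwy, mul_zero]) y1 (by rw [b_smul_right, w1, mul_zero])]
      exact Submodule.mem_span_singleton_self e
    · rw [tr_fix hG hyq (by rw [b_smul_right, hwy, mul_zero]) y2 (by rw [b_smul_right, w2, mul_zero])]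
      exact Submodule.mem_span_singleton_self f
  obtain ⟨x, hx0, hx, hL⟩ : ∃ x, x ≠ 0 ∧ Q x = 0 ∧ finrank F (wk Q H x) = 2 := by
    obtain ⟨e, he0, he⟩ := exists_singular hG.nd (by omega)
    by_cases h : IsZAt Q H e
    · obtain ⟨-, f, pr, hlev⟩ := h
      obtain ⟨y, hy0, hy⟩ := exists_singular (pperp_nondeg hG.nd pr) (by have := finrank_pperp pr; omega)
      exact notz (fun h => hy0 (Subtype.ext h)) hy (zside pr hlev y y.2 (fun h => hy0 (Subtype.ext h)) hy)
    · exact notz he0 he h
  obtain ⟨p, hp0, hline0, hfix⟩ := centre_global hS hx0 hx hL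
  have hline : ∀ z, z ≠ 0 → Q z = 0 → ¬ IsZAt Q H z → polar Q p z = 0 := fun z h0 hz hn =>
    hline0 z h0 hz fun hle => hn (hz' z h0 hz hle)
  obtain ⟨z, hz, hzp⟩ := exists_sing_not_perp hG.nd (by omega) (y := p) (fun h => hp0 (by rw [h, map_zero]))
  have hz0 : z ≠ 0 := fun h => hzp (by rw [h, b_zero_right])
  obtain ⟨-, f, pr, hlev⟩ : IsZAt Q H z := by_contra fun h => hzp (hline z hz0 hz h)
  have hpY : p - polar Q p f • z - polar Q p z • f = 0 := by
    by_contra hne
    obtain ⟨u, hu, hpu⟩ := exists_sing_not_perp (pperp_nondeg hG.nd pr)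
      (by have := finrank_pperp pr; omega) (y := ⟨_, pperp_part pr p⟩) (fun h => hne (congrArg Subtype.val h))
    have hu0 : (u : V) ≠ 0 := fun h => hpu (by rw [show u = 0 from Subtype.ext h, b_zero_right])
    refine hpu ?_
    obtain ⟨u1, u2⟩ := mem_pperp.1 u.2
    show polar Q (p - polar Q p f • z - polar Q p z • f) (u : V) = 0
    rw [b_sub_left, b_sub_left, b_smul_left, b_smul_left, u1, u2,
      hline _ hu0 hu (zside pr hlev _ u.2 hu0 hu)]; ring
  obtain ⟨c, hc0, hc1⟩ := exists_sq_ne hq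
  obtain ⟨g, hgz, hgf⟩ := transit_pair hG hn pr (e' := c • z) (d' := c⁻¹ • f)
    ⟨by rw [q_smul, pr.qe, mul_zero], by rw [q_smul, pr.qd, mul_zero],
      by rw [b_smul_left, b_smul_right, pr.ed, mul_one, mul_inv_cancel₀ hc0]⟩
  have hgH : g ∈ H := hlev g (Submodule.mem_span_singleton.2 ⟨_, hgz.symm⟩)
    (Submodule.mem_span_singleton.2 ⟨_, hgf.symm⟩)
  have hgp : app g p ∈ Submodule.span F {p} := hfix g hgH
  obtain ⟨t, ht⟩ := Submodule.mem_span_singleton.1 hgp
  have he : p = polar Q p f • z + polar Q p z • f := by rw [sub_sub, sub_eq_zero] at hpY; exact hpY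
  have hgz' : g.1.1 z = c • z := hgz
  have hgf' : g.1.1 f = c⁻¹ • f := hgf
  have h5 : app g p = (polar Q p f * c) • z + (polar Q p z * c⁻¹) • f := by
    conv_lhs => rw [he]
    show g.1.1 _ = _
    rw [map_add, map_smul, map_smul, hgz', hgf', smul_smul, smul_smul]
  rw [← ht] at h5
  have h6 := congrArg (fun v => polar Q v f) h5
  have h7 := congrArg (fun v => polar Q v z) h5
  simp only [b_add_left, b_smul_left, pr.ee, pr.ed, pr.de, pr.dd, mul_zero, mul_one, add_zero, zero_add] at h6 h7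
  have hzp' : polar Q p z ≠ 0 := hzp
  have ha : polar Q p f ≠ 0 := fun h => hp0 (by rw [he, h, zero_smul, zero_add, q_smul, pr.qd, mul_zero])
  have t1 : t = c := mul_right_cancel₀ ha (by linear_combination h6)
  have t2 : t = c⁻¹ := mul_right_cancel₀ hzp' (by linear_combination h7)
  refine hc1 ?_
  have e : c = c⁻¹ := t1.symm.trans t2
  nth_rw 2 [e]
  exact mul_inv_cancel₀ hc0

/-- The theorem: a proper subgroup has index at least the number of singular points. -/
theorem eq_top_of_small_index (hG : Good Q) (hn : 7 ≤ finrank F V) {c : ℕ} (hT : HasType Q c m) (hc : c ≤ 2)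
    (hq : 4 ≤ Nat.card F) (hlow : LowFiveBound Q) {N : ℕ}
    (hN : 12 * N < 17 * Nat.card F ^ (finrank F V - 2))
    (hidx : ∀ e, e ≠ 0 → Q e = 0 → (lineStab Q e).index = N)
    (hpts : ∀ e, e ≠ 0 → Q e = 0 → (lineStab Q e).index * (Nat.card F - 1) + 1 = Nat.card {v : V // Q v = 0})
    (hI : H.index < N) : H = ⊤ := by
  by_contra hne
  have hcls := fun e (he0 : e ≠ 0) (he : Q e = 0) => classify (H := H) hG hn hT hc hq hlow hI hN he0 he
  have hnf : ∀ e, e ≠ 0 → Q e = 0 → ¬ IsFullAt Q H e := fun e he0 he =>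
    no_full hG hn hT hq hne (fun e' h0 h' => by rw [hidx e' h0 h']; exact hI) hpts hcls he0 he
  refine small_false ⟨hG, hn, hnf, fun e he0 he => ((hcls e he0 he).resolve_left (hnf e he0 he)).imp_left
    (fun h => h.1)⟩ hq fun e he0 he hle => ?_
  have h1 := Submodule.finrank_mono hle
  rw [finrank_span_singleton he0] at h1
  have h2 := finrank_perp_eq hG.nd (ks Q H e)
  change finrank F (wk Q H e) + _ = _ at h2
  rcases (hcls e he0 he).resolve_left (hnf e he0 he) with h | h | ⟨U, -, -, hwU, -, hU, -⟩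
  · exact h
  · omega
  · have h3 := (Submodule.finrank_mono hwU).trans (Submodule.finrank_add_le_finrank_add_finrank _ U)
    rw [finrank_span_singleton he0] at h3
    have := hT.1
    omega

end Cfsg.Agent.OrthMin
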