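/-
Minimal index of the projective Omega groups over fields with at least four elements.
-/
import Cfsg.Agent.Lib.OrthMinIndex.Centre
import Cfsg.Agent.Lib.Orthogonal.POmega
import Cfsg.Agent.Lib.Orthogonal.LowFive
import Cfsg.Agent.Lib.OrthDeg.Std
import Cfsg.Agent.Lib.SpMinIndex.Psp

set_option autoImplicit false

namespace Cfsg.Agent.OrthMin

open QuadraticMap Module Cfsg.Agent.Orth Cfsg.Agent.OrthDeg
open scoped commutatorElement

variable {F V : Type*} [Field F] [AddCommGroup V] [Module F V] {Q : QuadraticForm F V}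

section Points

variable [FiniteDimensional F V] [Fintype F]

/-- The index of the stabiliser of a singular point. -/
theorem card_points (hG : Good Q) (hn : 7 ≤ finrank F V) {e : V} (he0 : e ≠ 0) (he : Q e = 0) :
    (lineStab Q e).index * (Nat.card F - 1) + 1 = Nat.card {v : V // Q v = 0} := by
  haveI : Finite V := Module.finite_of_finite F
  classical
  have hopt := Nat.card_congr (Equiv.optionSubtypeNe (⟨0, map_zero Q⟩ : {v : V // Q v = 0}))
  rw [Finite.card_option] at hopt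
  rw [← hopt, show Nat.card F - 1 = Nat.card {s : F // s ≠ 0} by have := card_scalar_ne (F := F); omega,
    Subgroup.index, ← Nat.card_prod]
  congr 1
  refine Nat.card_congr (Equiv.ofBijective
    (fun k => (⟨⟨(k.2 : F) • app k.1.out e, by rw [q_smul, q_app, he, mul_zero]⟩, fun h => ?_⟩ :
      {v : {v : V // Q v = 0} // v ≠ ⟨0, map_zero Q⟩})) ⟨?_, ?_⟩)
  · exact (smul_ne_zero k.2.2 (app_ne _ he0)) (congrArg Subtype.val h)
  · rintro ⟨k, s, hs⟩ ⟨k', s', hs'⟩ h
    have h' : s • app k.out e = s' • app k'.out e := congrArg (fun v => (v.1 : V)) h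
    have hk : k = k' := by
      rw [← QuotientGroup.out_eq' k, ← QuotientGroup.out_eq' k', QuotientGroup.eq]
      refine ⟨s / s', div_ne_zero hs hs', ?_⟩
      have h2 : app k'.out e = (s'⁻¹ * s) • app k.out e := by
        rw [mul_smul, h', smul_smul, inv_mul_cancel₀ hs', one_smul]
      rw [app_mul, h2, app, map_smul]
      show (s'⁻¹ * s) • app k.out⁻¹ (app k.out e) = _
      rw [app_inv_app, mul_comm, ← div_eq_mul_inv]
    subst hk
    have hss : s = s' := smul_left_injective F (app_ne _ he0) h'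
    subst hss
    rfl
  · rintro ⟨⟨v, hv⟩, hv0⟩
    have hv0' : v ≠ 0 := fun h => hv0 (Subtype.ext h)
    obtain ⟨g, hg⟩ := transit_sing hG hn he0 hv0' he hv
    obtain ⟨s, hs, hse⟩ : g⁻¹ * (QuotientGroup.mk g : omg Q ⧸ lineStab Q e).out ∈ lineStab Q e :=
      QuotientGroup.eq.1 (QuotientGroup.out_eq' _).symm
    refine ⟨(QuotientGroup.mk g, ⟨s⁻¹, inv_ne_zero hs⟩), Subtype.ext (Subtype.ext ?_)⟩
    show s⁻¹ • app (QuotientGroup.mk g : omg Q ⧸ lineStab Q e).out e = v
    have h1 : app (QuotientGroup.mk g : omg Q ⧸ lineStab Q e).out e = s • v := by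
      have h2 := congrArg (app g) hse
      rw [app_mul, app_app_inv] at h2
      rw [h2, ← hg]
      exact map_smul g.1.1 s e
    rw [h1, smul_smul, inv_mul_cancel₀ hs, one_smul]

/-- Omega is its own commutator subgroup. -/
theorem omega_perfect (hG : Good Q) (hq : 4 ≤ Nat.card F) : commutator (omg Q) = ⊤ := by
  by_contra h
  obtain ⟨e, f, p, hK⟩ := exists_root_not_mem hG h
  refine hK (eq_top_iff.2 fun y _ => mem_kPart.2 ?_)
  obtain ⟨s, hs, hs1⟩ := exists_sq_ne hq
  obtain ⟨g, hge, -, hgy⟩ := scale_mem hG p hs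
  have hy : ∀ c : F, polar Q e (c • (y : V)) = 0 := fun c => by rw [b_smul_right, (mem_pperp.1 y.2).1, mul_zero]
  have hne : s * s - 1 ≠ 0 := sub_ne_zero.2 hs1
  obtain ⟨z, hz⟩ : ∃ z, (s * s - 1)⁻¹ • (y : V) = z := ⟨_, rfl⟩
  have hzY : z ∈ pperp Q e f := hz ▸ Submodule.smul_mem _ _ y.2
  have hze : polar Q e z = 0 := hz ▸ hy _
  have h1 : (g * tr Q e z * g⁻¹) * (tr Q e z)⁻¹ ∈ commutator (omg Q) := by
    rw [commutator_def]
    exact Subgroup.commutator_mem_commutator (Subgroup.mem_top g) (Subgroup.mem_top _)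
  rwa [(conj_tr hG p.qe hge hze (mul_ne_zero hs hs)).2, hgy z hzY, ← tr_neg hG p.qe hze,
    ← tr_add hG p.qe (by rw [b_smul_right, hze, mul_zero]) (by rw [← neg_one_smul F z, b_smul_right, hze, mul_zero]),
    show (s * s) • z + -z = (s * s - 1) • z by module, ← hz, smul_smul, mul_inv_cancel₀ hne, one_smul] at h1

theorem points_bound {q c m N : ℕ} (hq : 4 ≤ q) (hm : 3 ≤ m) (hN : N * (q - 1) + 1 = zc q c m) :
    12 * N < 17 * q ^ (2 * m + c - 2) := by
  have h := zc_spec q c (by omega) m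
  rw [← hN] at h
  obtain ⟨j, hj⟩ : ∃ j, 2 * m + c = (m + 1) + j ∧ 2 ≤ j := ⟨m + c - 1, by omega, by omega⟩
  obtain ⟨d, hd⟩ : ∃ d, 2 * m + c = d + 2 := ⟨2 * m + c - 2, by omega⟩
  have h2 : 16 * q ^ (m + 1) ≤ q ^ (2 * m + c) := by
    rw [hj.1, pow_add _ (m + 1) j, mul_comm]
    refine Nat.mul_le_mul_left _ (le_trans ?_ (Nat.pow_le_pow_right (by omega) hj.2))
    nlinarith
  rw [hd, Nat.add_sub_cancel]
  rw [hd] at h h2
  by_contra hlt
  rw [not_lt] at hlt
  have h3 : 3 * q ≤ 4 * (q - 1) := by omega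
  have h5 : 17 * q ^ d * q * (3 * q) ≤ 12 * N * q * (4 * (q - 1)) :=
    Nat.mul_le_mul (Nat.mul_le_mul_right _ hlt) h3
  have h6 : 17 * q ^ d * q * (3 * q) = 51 * q ^ (d + 2) := by ring
  have h7 : 12 * N * q * (4 * (q - 1)) = 48 * (q * (N * (q - 1))) := by ring
  rw [h6, h7] at h5
  rw [Nat.mul_add, mul_one] at h
  have : 0 < q ^ (d + 2) := by positivity
  omega

end Points

/-! ### The projective groups -/

section Proj

variable {K : Type*} [Field K] [Fintype K] {ι : Type} [Fintype ι] [DecidableEq ι]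
  {R : QuadraticForm K (ι → K)} {c m : ℕ}

theorem min_index_pomega (hR : (polarBilin R).Nondegenerate) (hT : HasType R c m) (hc : c ≤ 2)
    (hn : 7 ≤ 2 * m + c) (hm : 3 ≤ m) (hq : 4 ≤ Nat.card K) (hlow : LowFiveBound R) :
    (∀ H : Subgroup (Cfsg.POmega K (⇑R)), H ≠ ⊤ → (zc (Nat.card K) c m - 1) / (Nat.card K - 1) ≤ H.index) ∧
      ∃ H : Subgroup (Cfsg.POmega K (⇑R)), H.index = (zc (Nat.card K) c m - 1) / (Nat.card K - 1) := by
  haveI : Finite (omg R) := finite_omega
  have hG : Good R := ⟨hR, by rw [hT.1]; omega⟩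
  have hn' : 7 ≤ finrank K (ι → K) := by rw [hT.1]; omega
  obtain ⟨e, he0, he⟩ := exists_singular hR (by omega)
  have hq1 : 0 < Nat.card K - 1 := by omega
  have hidx : ∀ e, e ≠ 0 → R e = 0 → (lineStab R e).index = (zc (Nat.card K) c m - 1) / (Nat.card K - 1) := by
    intro e he0 he
    have h := card_points hG hn' he0 he
    rw [hT.2] at h
    rw [← h, Nat.add_sub_cancel, Nat.mul_div_cancel _ hq1]
  have hN : 12 * ((zc (Nat.card K) c m - 1) / (Nat.card K - 1)) < 17 * Nat.card K ^ (finrank K (ι → K) - 2) := by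
    rw [hT.1]
    refine points_bound hq hm ?_
    rw [← hidx e he0 he, card_points hG hn' he0 he, hT.2]
  let π : omg R →* Cfsg.POmega K (⇑R) := (QuotientGroup.mk' _).comp (omegaEquiv R).symm.toMonoidHom
  have hπ : Function.Surjective π := (QuotientGroup.mk'_surjective _).comp (omegaEquiv R).symm.surjective
  refine ⟨fun H hH => ?_, (lineStab R e).map π, ?_⟩
  · by_contra hlt
    rw [not_le, ← Subgroup.index_comap_of_surjective _ hπ] at hlt
    have := eq_top_of_small_index hG hn' hT hc hq hlow hN hidx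
      (fun e h0 h => card_points hG hn' h0 h) hlt
    refine hH (Subgroup.index_eq_one.1 ?_)
    rw [← Subgroup.index_comap_of_surjective _ hπ, this, Subgroup.index_top]
  · rw [Subgroup.index_map_eq _ hπ, hidx e he0 he]
    intro g hg
    have hz : omegaEquiv R ((omegaEquiv R).symm g) ∈ Subgroup.center (omg R) := by
      have h1 : (omegaEquiv R).symm g ∈ Subgroup.center _ := (QuotientGroup.eq_one_iff _).1 (MonoidHom.mem_ker.1 hg)
      rw [Subgroup.mem_center_iff] at h1 ⊢
      intro x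
      simpa using congrArg (omegaEquiv R) (h1 ((omegaEquiv R).symm x))
    rw [MulEquiv.apply_symm_apply, center_scalar hR hn'] at hz
    obtain ⟨a, ha⟩ := hz
    exact ⟨a, fun h => app_ne g he0 ((ha e).trans (by rw [h, zero_smul])), ha e⟩

end Proj

/-! ### The five-dimensional bound -/

theorem five_transfer {K : Type*} [Field K] [Fintype K] (hodd : Odd (Fintype.card K)) (h5 : 5 ≤ Fintype.card K)
    {W : Type*} [AddCommGroup W] [Module K W] [FiniteDimensional K W] {Q' : QuadraticForm K W} (hY : Good Q')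
    (φ : W ≃ₗ[K] (Unit ⊕ (Fin 2 ⊕ Fin 2) → K)) (hφ : ∀ x, qOdd K 2 (φ x) = Q' x)
    (S : Subgroup (omg Q')) (hS : S ≠ ⊤) : Nat.card K ^ 4 - 1 ≤ S.index * (Nat.card K - 1) := by
  haveI : Finite (omg Q') := finite_omega
  let c₁ := oCongr φ hφ
  have hmap : (omg Q').map c₁.toMonoidHom = omg (qOdd K 2) := by
    show (commutator _).map _ = commutator _
    rw [commutator_def, commutator_def, Subgroup.map_commutator, Subgroup.map_top_of_surjective _ c₁.surjective]
  let c₂ := (c₁.subgroupMap _).trans (MulEquiv.subgroupCongr hmap)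
  obtain ⟨iso⟩ := OrthLow.pomega_five (F := K) hodd
  let π : omg Q' →* Cfsg.PSp 2 K :=
    iso.toMonoidHom.comp ((QuotientGroup.mk' _).comp ((omegaEquiv (qOdd K 2)).symm.toMonoidHom.comp c₂.toMonoidHom))
  have hπ : Function.Surjective π := iso.surjective.comp ((QuotientGroup.mk'_surjective _).comp
    ((omegaEquiv (qOdd K 2)).symm.surjective.comp c₂.surjective))
  have hker : π.ker ≤ Subgroup.center _ := by
    intro x hx
    have h1 : (omegaEquiv (qOdd K 2)).symm (c₂ x) ∈ Subgroup.center _ :=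
      (QuotientGroup.eq_one_iff _).1 (iso.injective (hx.trans (map_one iso).symm))
    rw [Subgroup.mem_center_iff] at h1 ⊢
    intro y
    have h2 := h1 ((omegaEquiv (qOdd K 2)).symm (c₂ y))
    rw [← map_mul, ← map_mul, ← map_mul, ← map_mul] at h2
    exact c₂.injective ((omegaEquiv (qOdd K 2)).symm.injective h2)
  have hne : S.map π ≠ ⊤ := by
    intro htop
    refine hS (eq_top_iff.2 ?_)
    rw [← omega_perfect hY (by rw [Nat.card_eq_fintype_card]; omega), commutator_def, Subgroup.commutator_le]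
    intro a _ b _
    obtain ⟨s, hs, hsa⟩ : π a ∈ S.map π := htop ▸ Subgroup.mem_top _
    obtain ⟨t, ht, htb⟩ : π b ∈ S.map π := htop ▸ Subgroup.mem_top _
    have hca : ∀ (x y : omg Q'), π x = π y →
        ∃ z ∈ Subgroup.center (omg Q'), y = x * z :=
      fun x y h => ⟨x⁻¹ * y, hker (by rw [MonoidHom.mem_ker, map_mul, map_inv, h, inv_mul_cancel]), by group⟩
    obtain ⟨z, hz, rfl⟩ := hca s a hsa
    obtain ⟨w, hw, rfl⟩ := hca t b htb
    rw [Subgroup.mem_center_iff] at hz hw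
    have he : ⁅s * z, t * w⁆ = ⁅s, t⁆ := by
      simp only [commutatorElement_def, mul_inv_rev]
      calc s * z * (t * w) * (z⁻¹ * s⁻¹) * (w⁻¹ * t⁻¹) = s * (z * t * w) * z⁻¹ * s⁻¹ * w⁻¹ * t⁻¹ := by group
        _ = s * (t * w * z) * z⁻¹ * s⁻¹ * w⁻¹ * t⁻¹ := by rw [mul_assoc z t w, ← hz (t * w)]
        _ = s * t * (w * s⁻¹) * w⁻¹ * t⁻¹ := by group
        _ = s * t * (s⁻¹ * w) * w⁻¹ * t⁻¹ := by rw [hw s⁻¹]
        _ = s * t * s⁻¹ * t⁻¹ := by group
    rw [he, commutatorElement_def]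
    exact S.mul_mem (S.mul_mem (S.mul_mem hs ht) (S.inv_mem hs)) (S.inv_mem ht)
  have h1 := (SpMin.min_index_psp (F := K) (m := 2) rfl le_rfl (by rw [Nat.card_eq_fintype_card]; omega)
    (by rw [Nat.card_eq_fintype_card]; omega)).1 _ hne
  have h3 := Nat.le_of_dvd (Nat.pos_of_ne_zero Subgroup.index_ne_zero_of_finite) (Subgroup.index_map_dvd (f := π) S hπ)
  rw [show 2 * 2 = 4 from rfl] at h1
  have hdvd : Nat.card K - 1 ∣ Nat.card K ^ 4 - 1 := by simpa using Nat.sub_dvd_pow_sub_pow (Nat.card K) 1 4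
  calc Nat.card K ^ 4 - 1 = (Nat.card K ^ 4 - 1) / (Nat.card K - 1) * (Nat.card K - 1) :=
        (Nat.div_mul_cancel hdvd).symm
    _ ≤ S.index * (Nat.card K - 1) := Nat.mul_le_mul_right _ (h1.trans h3)

theorem lowFive_qOdd {K : Type*} [Field K] [Fintype K] (hodd : Odd (Fintype.card K)) (h5 : 5 ≤ Fintype.card K)
    (m : ℕ) : LowFiveBound (qOdd K m) := by
  intro hfin
  have hm : m = 3 := by
    have := (hasType_qOdd (F := K) m).1
    omega
  subst hm
  have h2 : (2 : K) ≠ 0 := two_ne_of_odd (by rwa [Nat.card_eq_fintype_card])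
  refine ⟨by rwa [Nat.card_eq_fintype_card], h2, fun e f p S hS => ?_⟩
  have hR := qOdd_nondeg h2 3
  have hG : Good (qOdd K 3) := ⟨hR, by omega⟩
  have hY : Good (restr (qOdd K 3) (pperp (qOdd K 3) e f)) :=
    ⟨pperp_nondeg hR p, by have := finrank_pperp p; omega⟩
  -- the standard pair and the standard embedding
  let ε : (Unit ⊕ (Fin 2 ⊕ Fin 2) → K) →ₗ[K] (Unit ⊕ (Fin 3 ⊕ Fin 3) → K) :=
    { toFun := fun v => Sum.elim (fun u => v (.inl u))
        (Sum.elim ![v (.inr (.inl 0)), v (.inr (.inl 1)), 0] ![v (.inr (.inr 0)), v (.inr (.inr 1)), 0])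
      map_add' := fun u v => by
        funext x; rcases x with _ | i | i <;> [simp; (fin_cases i <;> simp); (fin_cases i <;> simp)]
      map_smul' := fun c v => by
        funext x; rcases x with _ | i | i <;> [simp; (fin_cases i <;> simp); (fin_cases i <;> simp)] }
  let e₀ : Unit ⊕ (Fin 3 ⊕ Fin 3) → K := Sum.elim 0 (Sum.elim ![0, 0, 1] 0)
  let f₀ : Unit ⊕ (Fin 3 ⊕ Fin 3) → K := Sum.elim 0 (Sum.elim 0 ![0, 0, 1])
  have hval : ∀ v, qOdd K 3 v = v (.inl ()) ^ 2 + ∑ i : Fin 3, v (.inr (.inl i)) * v (.inr (.inr i)) :=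
    fun v => congrFun (coe_qOdd (F := K) 3) v
  have hval2 : ∀ v, qOdd K 2 v = v (.inl ()) ^ 2 + ∑ i : Fin 2, v (.inr (.inl i)) * v (.inr (.inr i)) :=
    fun v => congrFun (coe_qOdd (F := K) 2) v
  have hε : ∀ v, qOdd K 3 (ε v) = qOdd K 2 v := by
    intro v
    simp [hval, hval2, ε, Fin.sum_univ_three, Fin.sum_univ_two]
  have p₀ : IsPair (qOdd K 3) e₀ f₀ := by
    refine ⟨?_, ?_, ?_⟩ <;> simp [polar, hval, e₀, f₀, Fin.sum_univ_three]
  have hε0 : ∀ v, ε v ∈ pperp (qOdd K 3) e₀ f₀ := by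
    intro v
    refine mem_pperp.2 ⟨?_, ?_⟩ <;> simp [polar, hval, e₀, f₀, ε, Fin.sum_univ_three]
  obtain ⟨g, hge, hgf⟩ := transit_pair hG (by omega) p₀ p
  have hmem : ∀ v, app g (ε v) ∈ pperp (qOdd K 3) e f := fun v => by
    obtain ⟨a1, a2⟩ := mem_pperp.1 (hε0 v)
    exact mem_pperp.2 ⟨by rw [← hge, b_app, a1], by rw [← hgf, b_app, a2]⟩
  let ψ : (Unit ⊕ (Fin 2 ⊕ Fin 2) → K) →ₗ[K] pperp (qOdd K 3) e f :=
    (g.1.1.toLinearMap.comp ε).codRestrict _ hmem
  have hψ : Function.Injective ψ := by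
    rw [injective_iff_map_eq_zero]
    intro v hv
    have h1 : ε v = 0 := g.1.1.injective (by rw [map_zero]; exact congrArg Subtype.val hv)
    funext x
    rcases x with u | i | i
    · simpa [ε] using congrFun h1 (.inl u)
    · fin_cases i
      · simpa [ε] using congrFun h1 (.inr (.inl 0))
      · simpa [ε] using congrFun h1 (.inr (.inl 1))
    · fin_cases i
      · simpa [ε] using congrFun h1 (.inr (.inr 0))
      · simpa [ε] using congrFun h1 (.inr (.inr 1))
  have hd : finrank K (Unit ⊕ (Fin 2 ⊕ Fin 2) → K) = finrank K (pperp (qOdd K 3) e f) := by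
    have h1 := finrank_pperp p
    have h3 : finrank K (Unit ⊕ (Fin 2 ⊕ Fin 2) → K) = 5 := by simp
    omega
  let φ := (ψ.linearEquivOfInjective hψ hd).symm
  have hφ : ∀ x, qOdd K 2 (φ x) = restr (qOdd K 3) (pperp (qOdd K 3) e f) x := by
    intro x
    obtain ⟨v, rfl⟩ := (ψ.linearEquivOfInjective hψ hd).surjective x
    rw [show φ ((ψ.linearEquivOfInjective hψ hd) v) = v from LinearEquiv.symm_apply_apply _ v, restr_apply,
      ← hε v]
    exact (q_app g (ε v)).symm
  exact five_transfer hodd h5 hY φ hφ S hS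

/-- Closed forms of the number of points. -/
theorem pts_closed {q : ℕ} (hq : 2 ≤ q) (m : ℕ) :
    zc q 1 m = q ^ (2 * m) ∧ zc q 0 (m + 1) - 1 = (q ^ (m + 1) - 1) * (q ^ m + 1) ∧
      zc q 2 m - 1 = (q ^ (m + 1) + 1) * (q ^ m - 1) := by
  refine ⟨?_, ?_, ?_⟩
  · have h := zc_spec q 1 (by omega) m
    refine Nat.eq_of_mul_eq_mul_left (show 0 < q by omega) ?_
    rw [pow_succ q (2 * m)] at h
    linarith
  · have h := zc_spec q 0 (by omega) (m + 1)
    have e1 : 1 ≤ q ^ (m + 1) := Nat.one_le_pow _ _ (by omega)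
    have e2 := zc_pos q 0 (by omega) (m + 1)
    refine Nat.eq_of_mul_eq_mul_left (show 0 < q by omega) ?_
    zify [e1, (show 1 ≤ zc q 0 (m + 1) by omega)] at h ⊢
    simp only [add_zero, pow_succ, two_mul, pow_add, pow_one] at h ⊢
    linear_combination h
  · have h := zc_spec q 2 (by omega) m
    have e1 : 1 ≤ q ^ m := Nat.one_le_pow _ _ (by omega)
    have e2 := zc_pos q 2 (by omega) m
    refine Nat.eq_of_mul_eq_mul_left (show 0 < q by omega) ?_
    zify [e1, (show 1 ≤ zc q 2 m by omega)] at h ⊢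
    simp only [pow_succ, two_mul, pow_add, pow_one, pow_zero, one_mul] at h ⊢
    linear_combination h

end Cfsg.Agent.OrthMin
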