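/-
Fields with two or three elements: the root part at a point is everything, a hyperplane, or nothing.
-/
import Cfsg.Agent.Lib.OrthMinIndex.Rigid

set_option autoImplicit false

namespace Cfsg.Agent.OrthMin

open QuadraticMap Module Cfsg.Agent.Orth Cfsg.Agent.OrthDeg

variable {F V : Type*} [Field F] [AddCommGroup V] [Module F V] {Q : QuadraticForm F V}

/-- The bound M of the small cases, for the dimension d of the orthogonal of a pair. -/
def SmallBound (q c d M : ℕ) : Prop :=
  (q = 2 ∧ (c = 0 ∨ c = 2) ∧ 6 ≤ d ∧ M ≤ 2 ^ (d + 1) ∧ (d = 6 → M ≤ 120)) ∨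
  (q = 3 ∧ (c = 1 ∨ c = 2) ∧ 5 ≤ d ∧ 2 * M ≤ 3 ^ (d + 1) ∧ (d = 5 → M ≤ 360))

/-- An additive subgroup over a field with a prime number of elements is a subspace. -/
theorem exists_submodule [Finite F] (hp : (Nat.card F).Prime) {Y : Type*} [AddCommGroup Y] [Module F Y]
    (A : AddSubgroup Y) : ∃ U : Submodule F Y, U.toAddSubgroup = A := by
  have htop : AddSubgroup.zmultiples (1 : F) = ⊤ := by
    rcases (AddSubgroup.zmultiples (1 : F)).eq_bot_or_eq_top_of_prime_card (hp := ⟨hp⟩) with h | h
    · exfalso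
      have h1 := AddSubgroup.mem_zmultiples (1 : F)
      rw [h, AddSubgroup.mem_bot] at h1
      exact one_ne_zero h1
    · exact h
  refine ⟨{ A.toAddSubmonoid with smul_mem' := fun c a ha => ?_ }, rfl⟩
  obtain ⟨k, hk⟩ := AddSubgroup.mem_zmultiples_iff.1 (htop.ge (AddSubgroup.mem_top c))
  show c • a ∈ A
  rw [← hk, smul_assoc, one_smul]
  exact A.zsmul_mem ha k

omit [Field F] in
theorem prime_of_small {q : ℕ} (h : q = 2 ∨ q = 3) : q.Prime := by
  rcases h with rfl | rfl
  · exact Nat.prime_two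
  · exact Nat.prime_three

variable [FiniteDimensional F V] [Fintype F]

/-- The classes of pairs, counted from a level. -/
theorem class_ge_level (hG : Good Q) (g : F × F × F) :
    Nat.card {r : V // r ≠ 0 ∧ Q r = g.1} * ((Nat.card F - 1) * Nat.card V) ≤
      Nat.card (pairClass Q g) * Nat.card F ^ 3 := by
  haveI : Finite V := Module.finite_of_finite F
  obtain ⟨α, β, γ⟩ := g
  classical
  haveI := Fintype.ofFinite V
  have hfib : ∀ r : {r : V // r ≠ 0 ∧ Q r = α}, (Nat.card F - 1) * Nat.card V ≤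
      Nat.card {s : V // LinearIndependent F ![(r : V), s] ∧ Q s = β ∧ polar Q (r : V) s = γ} * Nat.card F ^ 3 := by
    intro r
    obtain ⟨w, hw, hrw, hi⟩ := exists_sing_indep hG (r : V)
    exact gram_ge hG.nd hw hrw (hi r.2.1) β γ
  have hle : Nat.card (Σ r : {r : V // r ≠ 0 ∧ Q r = α},
      {s : V // LinearIndependent F ![(r : V), s] ∧ Q s = β ∧ polar Q (r : V) s = γ}) ≤
      Nat.card (pairClass Q (α, β, γ)) := by
    refine Nat.card_le_card_of_injective (fun x => ⟨((x.1 : V), (x.2 : V)), x.2.2.1, ?_⟩) ?_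
    · simp only [gram, x.1.2.2, x.2.2.2.1, x.2.2.2.2]
    · rintro ⟨⟨a, ha⟩, ⟨b, hb⟩⟩ ⟨⟨a', ha'⟩, ⟨b', hb'⟩⟩ h
      simp only [Subtype.mk.injEq, Prod.mk.injEq] at h
      obtain ⟨rfl, rfl⟩ := h
      rfl
  rw [Nat.card_sigma] at hle
  have hsum := Finset.sum_le_sum fun r (_ : r ∈ Finset.univ) => hfib r
  rw [Finset.sum_const, Finset.card_univ, smul_eq_mul, ← Nat.card_eq_fintype_card, ← Finset.sum_mul] at hsum
  exact hsum.trans (Nat.mul_le_mul_right _ hle)

variable {e f : V}

/-- Stability under the part of the normaliser that fixes the pair. -/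
def IsStable (hG : Good Q) (p : IsPair Q e f) (H : Subgroup (omg Q)) (U : Submodule F (pperp Q e f)) : Prop :=
  ∀ g ∈ kNorm hG p H, ∀ hg : g ∈ pairStab Q e f, ∀ y ∈ U,
    (⟨app g (y : V), pairStab_pperp hg y.2⟩ : pperp Q e f) ∈ U

theorem indep_image {g : omg Q} (hg : g ∈ pairStab Q e f) {a b : pperp Q e f} (h : LinearIndependent F ![a, b]) :
    LinearIndependent F ![(⟨app g (a : V), pairStab_pperp hg a.2⟩ : pperp Q e f),
      ⟨app g (b : V), pairStab_pperp hg b.2⟩] := by
  refine LinearIndependent.pair_iff.2 fun s t hst => LinearIndependent.pair_iff.1 h s t (Subtype.ext ?_)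
  have h := congrArg Subtype.val hst
  simp only [Submodule.coe_add, Submodule.coe_smul, Submodule.coe_zero, app, ← map_smul, ← map_add,
    LinearEquiv.map_eq_zero_iff] at h
  exact h

variable (hG : Good Q) (p : IsPair Q e f) (H : Subgroup (omg Q))

/-- The pairs of one class inside U cover the class. -/
theorem sub_class_le (hY : Good (restr Q (pperp Q e f))) {U : Submodule F (pperp Q e f)}
    (hU : IsStable hG p H U) {g : F × F × F}
    (hcond : 6 ≤ finrank F (pperp Q e f) ∨ ((2 : F) ≠ 0 ∧ g ≠ (0, 0, 0)))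
    (hne : ∃ a b, a ∈ U ∧ b ∈ U ∧ (a, b) ∈ pairClass (restr Q (pperp Q e f)) g) :
    Nat.card (pairClass (restr Q (pperp Q e f)) g) ≤ (kNorm hG p H).relIndex (pairStab Q e f) *
      Nat.card {x : pperp Q e f × pperp Q e f | x.1 ∈ U ∧ x.2 ∈ U ∧ x ∈ pairClass (restr Q (pperp Q e f)) g} := by
  obtain ⟨a, b, ha, hb, hab, hgr⟩ := hne
  refine cover_pairs hG p H _ _ ?_ fun c hc => ?_
  · rintro k hk hk' x ⟨h1, h2, hi, hgr'⟩
    refine ⟨hU k hk hk' _ h1, hU k hk hk' _ h2, indep_image hk' hi, ?_⟩
    rw [← hgr']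
    simp only [gram, restr_apply, polar_restr, q_app, b_app]
  · obtain ⟨k, hk, h1, h2⟩ := pair_trans p hY hab hc.1 (hc.2.trans hgr.symm)
      (hcond.imp_right fun ⟨h2, hg0⟩ hz => hg0 (by
        rw [← hgr]
        simp only [gram, restr_apply, polar_restr, (mul_eq_zero.1 hz.1).resolve_left h2,
          (mul_eq_zero.1 hz.2.1).resolve_left h2, hz.2.2]))
    exact ⟨k, hk, (a, b), ⟨ha, hb, hab, hgr⟩, h1, h2⟩

theorem sub_ts_le (hY : Good (restr Q (pperp Q e f))) {U : Submodule F (pperp Q e f)} (hU : IsStable hG p H U)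
    (hUs : ∀ u ∈ U, Q (u : V) = 0) {a b : pperp Q e f} (ha : a ∈ U) (hb : b ∈ U)
    (hab : LinearIndependent F ![a, b]) :
    Nat.card (pairClass (restr Q (pperp Q e f)) (0, 0, 0)) ≤ (kNorm hG p H).relIndex (pairStab Q e f) *
      ((Nat.card F ^ finrank F U - 1) * (Nat.card F ^ finrank F U - Nat.card F)) := by
  haveI : Finite V := Module.finite_of_finite F
  let S : Set (pperp Q e f × pperp Q e f) := {x | x.1 ∈ U ∧ x.2 ∈ U ∧ LinearIndependent F ![x.1, x.2]}
  refine (cover_pairs hG p H S _ ?_ fun c hc => ?_).trans (Nat.mul_le_mul_left _ (card_span_pairs U S fun x hx => hx))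
  · rintro k hk hk' x ⟨h1, h2, hi⟩
    exact ⟨hU k hk hk' _ h1, hU k hk hk' _ h2, indep_image hk' hi⟩
  · have hc2 := hc.2
    simp only [gram, Prod.mk.injEq] at hc2
    obtain ⟨g, k, hk, h1, h2⟩ := move_two_scaled hY hab hc.1 (hUs a ha) (hUs b hb)
      (b_eq_zero_of_singular (W := U) (Q := restr Q (pperp Q e f)) hUs ha hb) hc2.1 hc2.2.1 hc2.2.2
    refine ⟨extW p g, extW_mem_pairStab p g, (a, k⁻¹ • b),
      ⟨ha, U.smul_mem _ hb, ?_⟩, by rw [extW_app, h1], ?_⟩
    · refine LinearIndependent.pair_iff.2 fun s t hst => ?_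
      rw [smul_smul] at hst
      obtain ⟨hs, ht⟩ := LinearIndependent.pair_iff.1 hab s _ hst
      exact ⟨hs, (mul_eq_zero.1 ht).resolve_right (inv_ne_zero hk)⟩
    · rw [extW_app]
      show ((g.1.1 (k⁻¹ • b) : pperp Q e f) : V) = _
      rw [map_smul, show g.1.1 b = k • c.2 from h2, smul_smul, inv_mul_cancel₀ hk, one_smul]

theorem sub_vec_le (hd : 4 ≤ finrank F (pperp Q e f)) {U : Submodule F (pperp Q e f)} (hU : IsStable hG p H U)
    {a : pperp Q e f} (ha : a ∈ U) (ha0 : a ≠ 0) :
    Nat.card {w : pperp Q e f // w ≠ 0 ∧ restr Q (pperp Q e f) w = Q (a : V)} ≤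
      (kNorm hG p H).relIndex (pairStab Q e f) * (Nat.card F ^ finrank F U - 1) := by
  haveI : Finite V := Module.finite_of_finite F
  haveI : Finite (omg Q) := finite_omega
  have hinj : Function.Injective (fun w : pperp Q e f => (w : V)) := Subtype.val_injective
  have h := cover_le (pairStab Q e f) (kNorm hG p H) (fun g (x : V) => app g x) (fun g h x => app_mul g h x)
    ((fun w : pperp Q e f => (w : V)) '' {w | w ∈ U ∧ w ≠ 0})
    ((fun w : pperp Q e f => (w : V)) '' {w | w ≠ 0 ∧ restr Q (pperp Q e f) w = Q (a : V)}) ?_ ?_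
  · rw [Nat.card_image_of_injective hinj, Nat.card_image_of_injective hinj] at h
    refine le_trans h (Nat.mul_le_mul_left _ ?_)
    classical
    have h1 := Nat.card_congr (Equiv.optionSubtypeNe (0 : U))
    rw [Finite.card_option, card_submodule] at h1
    have h2 : Nat.card {w : pperp Q e f | w ∈ U ∧ w ≠ 0} ≤ Nat.card {u : U // u ≠ 0} :=
      Nat.card_le_card_of_injective (fun w => ⟨⟨w.1, w.2.1⟩, fun h => w.2.2 (congrArg Subtype.val h)⟩)
        fun x y hxy => Subtype.ext (congrArg (fun z => ((z.1 : U) : pperp Q e f)) hxy)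
    omega
  · rintro g hg hg' _ ⟨w, ⟨hw, hw0⟩, rfl⟩
    exact ⟨⟨app g (w : V), pairStab_pperp hg' w.2⟩,
      ⟨hU g hg hg' w hw, fun h => app_ne g (fun h0 => hw0 (Subtype.ext h0)) (congrArg Subtype.val h)⟩, rfl⟩
  · rintro _ ⟨w, ⟨hw0, hwq⟩, rfl⟩
    obtain ⟨g, hg, hga⟩ := vec_trans hG p hd a.2 w.2 (fun h => ha0 (Subtype.ext h))
      (fun h => hw0 (Subtype.ext h)) hwq
    exact ⟨g, hg, (a : V), ⟨a, ⟨ha, ha0⟩, rfl⟩, hga⟩

/-- Three classes met by U. -/
theorem sub_three_le (hY : Good (restr Q (pperp Q e f))) (hd : 6 ≤ finrank F (pperp Q e f))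
    {U : Submodule F (pperp Q e f)} (hU : IsStable hG p H U) {l : List (F × F × F)} (hl : l.Nodup)
    (hne : ∀ g ∈ l, ∃ a b, a ∈ U ∧ b ∈ U ∧ (a, b) ∈ pairClass (restr Q (pperp Q e f)) g) {B : ℕ}
    (hB : ∀ g, B ≤ Nat.card (pairClass (restr Q (pperp Q e f)) g)) :
    l.length * B ≤ (kNorm hG p H).relIndex (pairStab Q e f) *
      ((Nat.card F ^ finrank F U - 1) * (Nat.card F ^ finrank F U - Nat.card F)) := by
  classical
  haveI : Finite V := Module.finite_of_finite F
  haveI := Fintype.ofFinite (pperp Q e f)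
  let S : F × F × F → Finset (pperp Q e f × pperp Q e f) := fun g =>
    Finset.univ.filter fun x => x.1 ∈ U ∧ x.2 ∈ U ∧ x ∈ pairClass (restr Q (pperp Q e f)) g
  have hS : ∀ g, Nat.card {x : pperp Q e f × pperp Q e f | x.1 ∈ U ∧ x.2 ∈ U ∧
      x ∈ pairClass (restr Q (pperp Q e f)) g} = (S g).card := fun g => by
    rw [Nat.card_coe_set_eq, ← Set.ncard_coe_finset]
    congr 1
    ext x
    simp [S]
  have h1 : ∀ g ∈ l.toFinset, B ≤ (kNorm hG p H).relIndex (pairStab Q e f) * (S g).card := fun g hg => by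
    rw [← hS]
    exact (hB g).trans (sub_class_le hG p H hY hU (Or.inl hd) (hne g (List.mem_toFinset.1 hg)))
  have h2 := Finset.sum_le_sum h1
  rw [Finset.sum_const, smul_eq_mul, List.toFinset_card_of_nodup hl, ← Finset.mul_sum,
    ← Finset.card_biUnion] at h2
  · refine h2.trans (Nat.mul_le_mul_left _ ?_)
    refine le_trans (le_of_eq ?_) (card_span_pairs U (↑(l.toFinset.biUnion S) : Set (pperp Q e f × pperp Q e f)) ?_)
    · rw [Nat.card_coe_set_eq, Set.ncard_coe_finset]
    · intro x hx
      simp only [Finset.coe_biUnion, Set.mem_iUnion, Finset.mem_coe, S, Finset.mem_filter] at hx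
      obtain ⟨g, -, -, h1, h2, h3⟩ := hx
      exact ⟨h1, h2, h3.1⟩
  · intro g _ g' _ hne
    refine Finset.disjoint_left.2 fun x hx hx' => hne ?_
    simp only [S, Finset.mem_filter, Finset.mem_univ, true_and] at hx hx'
    exact hx.2.2.2.symm.trans hx'.2.2.2

/-- In odd characteristic a non-singular plane contains few pairs of one non-zero class. -/
theorem sub_plane_le (hY : Good (restr Q (pperp Q e f))) (h2 : (2 : F) ≠ 0) {U : Submodule F (pperp Q e f)}
    (hU : IsStable hG p H U) (hU2 : finrank F U = 2) {a : pperp Q e f} (ha : a ∈ U) (haq : Q (a : V) ≠ 0) :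
    ∃ g, Nat.card (pairClass (restr Q (pperp Q e f)) g) ≤
      (kNorm hG p H).relIndex (pairStab Q e f) * ((Nat.card F ^ 2 - 1) * Nat.card F) := by
  classical
  haveI : Finite V := Module.finite_of_finite F
  haveI := Fintype.ofFinite U
  have ha0 : a ≠ 0 := fun h => haq (by rw [h, Submodule.coe_zero, map_zero])
  obtain ⟨b, hb⟩ := exists_indep_of_two_le (F := F) (V := U) hU2.ge (v := ⟨a, ha⟩)
    (fun h => ha0 (congrArg Subtype.val h))
  have hab : LinearIndependent F ![a, (b : pperp Q e f)] := (LinearIndependent.pair_iff' ha0).2 fun t ht =>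
    hb (Submodule.mem_span_singleton.2 ⟨t, Subtype.ext ht⟩)
  obtain ⟨g, hg⟩ : ∃ g, gram (restr Q (pperp Q e f)) (a, (b : pperp Q e f)) = g := ⟨_, rfl⟩
  have hg0 : g ≠ (0, 0, 0) := fun h => haq (congrArg Prod.fst (hg.trans h))
  refine ⟨g, (sub_class_le hG p H hY hU (Or.inr ⟨h2, hg0⟩) ⟨a, b, ha, b.2, hab, hg⟩).trans
    (Nat.mul_le_mul_left _ ?_)⟩
  obtain ⟨α, β, γ⟩ := g
  have hα : α ≠ 0 := fun h => haq ((congrArg Prod.fst hg).trans h)
  have hfib : ∀ r : {r : U // r ≠ 0 ∧ Q ((r : pperp Q e f) : V) = α},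
      Nat.card {s : U // polar Q ((r.1 : pperp Q e f) : V) ((s : pperp Q e f) : V) = γ} = Nat.card F := by
    intro r
    let φ : Dual F U := ((polarBilin Q) ((r.1 : pperp Q e f) : V)).comp
      ((pperp Q e f).subtype.comp U.subtype)
    have hφ : φ ≠ 0 := fun h => by
      have h1 := LinearMap.congr_fun h r.1
      change polar Q ((r.1 : pperp Q e f) : V) ((r.1 : pperp Q e f) : V) = 0 at h1
      rw [b_self, r.2.2] at h1
      exact hα ((mul_eq_zero.1 h1).resolve_left h2)
    have h := card_one_fibre hφ γ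
    rw [card_submodule, hU2, pow_two] at h
    exact Nat.eq_of_mul_eq_mul_right Nat.card_pos h
  have h1 : Nat.card {r : U // r ≠ 0 ∧ Q ((r : pperp Q e f) : V) = α} ≤ Nat.card F ^ 2 - 1 := by
    have h := Nat.card_congr (Equiv.optionSubtypeNe (0 : U))
    rw [Finite.card_option, card_submodule, hU2] at h
    have := Nat.card_le_card_of_injective
      (fun r : {r : U // r ≠ 0 ∧ Q ((r : pperp Q e f) : V) = α} => (⟨r.1, r.2.1⟩ : {r : U // r ≠ 0}))
      fun x y hxy => Subtype.ext (congrArg (fun z : {r : U // r ≠ 0} => z.1) hxy)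
    omega
  have h3 : Nat.card {x : pperp Q e f × pperp Q e f | x.1 ∈ U ∧ x.2 ∈ U ∧
      x ∈ pairClass (restr Q (pperp Q e f)) (α, β, γ)} ≤
      Nat.card (Σ r : {r : U // r ≠ 0 ∧ Q ((r : pperp Q e f) : V) = α},
        {s : U // polar Q ((r.1 : pperp Q e f) : V) ((s : pperp Q e f) : V) = γ}) := by
    refine Nat.card_le_card_of_injective (fun x => ⟨⟨⟨x.1.1, x.2.1⟩,
      fun h => x.2.2.2.1.ne_zero 0 (congrArg Subtype.val h), congrArg Prod.fst x.2.2.2.2⟩,
      ⟨⟨x.1.2, x.2.2.1⟩, congrArg (fun t : F × F × F => t.2.2) x.2.2.2.2⟩⟩) fun x y hxy => ?_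
    have h' := congrArg (fun z : Σ r : {r : U // r ≠ 0 ∧ Q ((r : pperp Q e f) : V) = α},
      {s : U // polar Q ((r.1 : pperp Q e f) : V) ((s : pperp Q e f) : V) = γ} =>
      ((z.1.1 : pperp Q e f), (z.2.1 : pperp Q e f))) hxy
    exact Subtype.ext h'
  rw [Nat.card_sigma, Finset.sum_congr rfl fun r _ => hfib r, Finset.sum_const, Finset.card_univ, smul_eq_mul,
    ← Nat.card_eq_fintype_card] at h3
  exact h3.trans (Nat.mul_le_mul_right _ h1)

/-- A plane or larger stable subspace of at most half dimension has a long orbit. -/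
theorem orbit_sub {c m M : ℕ} (hT : HasType (restr Q (pperp Q e f)) c m)
    (hB : SmallBound (Nat.card F) c (finrank F (pperp Q e f)) M) {U : Submodule F (pperp Q e f)}
    (hU : IsStable hG p H U) (hU2 : 2 ≤ finrank F U) (hUd : 2 * finrank F U ≤ finrank F (pperp Q e f)) :
    M ≤ (kNorm hG p H).relIndex (pairStab Q e f) * Nat.card F ^ finrank F U := by
  haveI : Finite V := Module.finite_of_finite F
  have hd5 : 5 ≤ finrank F (pperp Q e f) := by rcases hB with ⟨-, -, h, -⟩ | ⟨-, -, h, -⟩ <;> omega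
  have hY : Good (restr Q (pperp Q e f)) := ⟨pperp_nondeg hG.nd p, hd5⟩
  obtain ⟨d, hd⟩ : ∃ d, finrank F (pperp Q e f) = d := ⟨_, rfl⟩
  obtain ⟨n, hn⟩ : ∃ n, (kNorm hG p H).relIndex (pairStab Q e f) = n := ⟨_, rfl⟩
  obtain ⟨s, hs⟩ : ∃ s, finrank F U = s := ⟨_, rfl⟩
  obtain ⟨a, ha, b, hb, hab⟩ : ∃ a ∈ U, ∃ b ∈ U, LinearIndependent F ![a, b] := by
    obtain ⟨a, ha, ha0⟩ := U.ne_bot_iff.1 (fun h => by rw [h, finrank_bot] at hU2; omega)
    obtain ⟨b, hb⟩ := exists_indep_of_two_le (F := F) (V := U) hU2 (v := ⟨a, ha⟩) fun h => ha0 (congrArg Subtype.val h)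
    exact ⟨a, ha, b, b.2, (LinearIndependent.pair_iff' ha0).2 fun t ht =>
      hb (Submodule.mem_span_singleton.2 ⟨t, Subtype.ext ht⟩)⟩
  have hC : ∀ g, (Nat.card F ^ 2 - 1) * (Nat.card F - 1) * (Nat.card F ^ d) ^ 2 ≤
      Nat.card (pairClass (restr Q (pperp Q e f)) g) * Nat.card F ^ 6 := fun g => by
    have h := class_ge hY g
    rwa [card_submodule, hd] at h
  have hz : (∀ u ∈ U, Q (u : V) = 0) → Nat.card (pairClass (restr Q (pperp Q e f)) (0, 0, 0)) ≤
      n * ((Nat.card F ^ s - 1) * (Nat.card F ^ s - Nat.card F)) := fun h => by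
    rw [← hn, ← hs]; exact sub_ts_le hG p H hY hU h ha hb hab
  have hsing : (∀ u ∈ U, Q (u : V) = 0) → s ≤ m := fun h => by
    rw [← hs]; exact sing_dim_le m hY.nd hT U h
  have hsq : ∀ x, x * ((Nat.card F ^ s - 1) * (Nat.card F ^ s - Nat.card F)) ≤
      x * Nat.card F ^ s * Nat.card F ^ s := fun x => by
    rw [mul_assoc]
    exact Nat.mul_le_mul_left _ (Nat.mul_le_mul (Nat.sub_le _ _) (Nat.sub_le _ _))
  have hdim : d = 2 * m + c := by rw [← hd]; exact hT.1
  -- the case of three classes or a totally singular subspace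
  have hfew : 6 ≤ d → (∀ B, (∀ g, B ≤ Nat.card (pairClass (restr Q (pperp Q e f)) g)) →
      3 * B ≤ n * ((Nat.card F ^ s - 1) * (Nat.card F ^ s - Nat.card F))) ∨
      (∀ u ∈ U, Q (u : V) = 0) ∨ Nat.card F ^ s ≤ 4 := by
    intro h6
    by_cases hthree : ∀ p₁ p₂ p₃ : pperp Q e f × pperp Q e f,
        (∀ x ∈ [p₁, p₂, p₃], x.1 ∈ U.toAddSubgroup ∧ x.2 ∈ U.toAddSubgroup ∧ LinearIndependent F ![x.1, x.2]) →
        gram (restr Q (pperp Q e f)) p₁ = gram (restr Q (pperp Q e f)) p₂ ∨
        gram (restr Q (pperp Q e f)) p₁ = gram (restr Q (pperp Q e f)) p₃ ∨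
        gram (restr Q (pperp Q e f)) p₂ = gram (restr Q (pperp Q e f)) p₃
    · right
      rcases few_classes hthree with h | h
      · exact Or.inl fun u hu => span_sing h ha hb hab u (Submodule.subset_span hu)
      · refine Or.inr (le_trans (le_of_eq ?_) h)
        rw [← hs, ← card_submodule]
        rfl
    · left
      intro B hB'
      push Not at hthree
      obtain ⟨p₁, p₂, p₃, hp, h12, h13, h23⟩ := hthree
      rw [← hn, ← hs]
      refine sub_three_le hG p H hY (hd ▸ h6) hU (l := [p₁, p₂, p₃].map (gram (restr Q (pperp Q e f))))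
        (by simp [h12, h13, h23]) ?_ hB'
      intro g hg
      obtain ⟨x, hx, rfl⟩ := List.mem_map.1 hg
      exact ⟨x.1, x.2, (hp x hx).1, (hp x hx).2.1, (hp x hx).2.2, rfl⟩
  rw [hd] at hB hUd
  rw [hn, hs]
  rw [hs] at hU2 hUd
  rcases hB with ⟨hq, hc, hd6, hM, hM6⟩ | ⟨hq, hc, hd5', hM, hM5⟩
  · rw [hq] at hC hz hfew hsq ⊢
    have hC3 : ∀ g, 3 * (2 ^ d) ^ 2 ≤ Nat.card (pairClass (restr Q (pperp Q e f)) g) * 64 := fun g => by
      have := hC g; norm_num at this ⊢; exact this
    rcases Nat.lt_or_ge d 8 with hd8 | hd8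
    · obtain rfl : d = 6 := by omega
      have hM' := hM6 rfl
      obtain rfl | rfl : s = 2 ∨ s = 3 := by omega
      · have h1 := sub_class_le hG p H hY hU (Or.inl (by omega))
          (g := gram (restr Q (pperp Q e f)) (a, b)) ⟨a, b, ha, hb, hab, rfl⟩
        have h2 := card_span_pairs U {x : pperp Q e f × pperp Q e f | x.1 ∈ U ∧ x.2 ∈ U ∧
          x ∈ pairClass (restr Q (pperp Q e f)) (gram (restr Q (pperp Q e f)) (a, b))}
          (fun x hx => ⟨hx.1, hx.2.1, hx.2.2.1⟩)
        rw [hq, hs] at h2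
        rw [hn] at h1
        have h3 := h1.trans (Nat.mul_le_mul_left n h2)
        have h4 := hC3 (gram (restr Q (pperp Q e f)) (a, b))
        norm_num at h3 h4 ⊢
        omega
      · rcases hfew le_rfl with h | h | h
        · have hB8 : ∀ g, 216 ≤ Nat.card (pairClass (restr Q (pperp Q e f)) g) := by
            intro g
            have h1 := class_ge_level hY g
            rw [card_submodule, hd, hq] at h1
            have hz0 : Nat.card {y : pperp Q e f // restr Q (pperp Q e f) y = 0} = zc 2 c m := by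
              rw [← hq]; exact hT.2
            have hlev : 27 ≤ Nat.card {r : pperp Q e f // r ≠ 0 ∧ restr Q (pperp Q e f) r = g.1} := by
              have hzc : zc 2 c m = 36 ∨ zc 2 c m = 28 := by
                rcases hc with rfl | rfl
                · obtain rfl : m = 3 := by omega
                  exact Or.inl (by decide)
                · obtain rfl : m = 2 := by omega
                  exact Or.inr (by decide)
              have hF : ∀ x : F, x = 0 ∨ x = 1 := fun x => by
                classical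
                by_contra hx
                push Not at hx
                have := Finset.card_le_univ ({x, 0, 1} : Finset F)
                rw [Finset.card_insert_of_notMem (by simp [hx.1, hx.2]), Finset.card_pair zero_ne_one,
                  ← Nat.card_eq_fintype_card, hq] at this
                omega
              have hs1 := card_split (α := pperp Q e f) (fun r => restr Q (pperp Q e f) r = 0) (fun r => r = 0)
              have h0 : Nat.card {r : pperp Q e f // restr Q (pperp Q e f) r = 0 ∧ r = 0} = 1 :=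
                Nat.card_eq_one_iff_unique.2 ⟨⟨fun x y => Subtype.ext (x.2.2.trans y.2.2.symm)⟩,
                  ⟨⟨0, map_zero _, rfl⟩⟩⟩
              rw [h0, hz0] at hs1
              rcases hF g.1 with hg | hg
              · have e1 : Nat.card {r : pperp Q e f // r ≠ 0 ∧ restr Q (pperp Q e f) r = g.1} =
                    Nat.card {r : pperp Q e f // restr Q (pperp Q e f) r = 0 ∧ ¬ r = 0} :=
                  Nat.card_congr (Equiv.subtypeEquivRight fun r => by rw [hg]; exact and_comm)
                omega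
              · have h' := card_split (α := pperp Q e f) (fun _ => True) (fun r => restr Q (pperp Q e f) r = 0)
                simp only [true_and, Nat.card_congr (Equiv.subtypeUnivEquiv (α := pperp Q e f) (fun _ => trivial)),
                  card_submodule, hd, hq] at h'
                rw [hz0] at h'
                have e1 : Nat.card {r : pperp Q e f // r ≠ 0 ∧ restr Q (pperp Q e f) r = g.1} =
                    Nat.card {r : pperp Q e f // ¬ restr Q (pperp Q e f) r = 0} :=
                  Nat.card_congr (Equiv.subtypeEquivRight fun r => ⟨fun h => by rw [h.2, hg]; exact one_ne_zero,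
                    fun h => ⟨fun h0 => h (by rw [h0]; exact map_zero _), by rw [hg]; exact (hF _).resolve_left h⟩⟩)
                omega
            simp only [Nat.reducePow, Nat.reduceSub, one_mul] at h1
            omega
          have h1 := h 216 hB8
          norm_num at h1 ⊢
          omega
        · have hm := hsing h
          obtain ⟨rfl, rfl⟩ : c = 0 ∧ m = 3 := by omega
          have h1 := (ts_ge hY.nd (m := 1) hT).trans (hz h)
          rw [hq, show zc 2 0 3 = 36 by decide, show zc 2 0 2 = 10 by decide] at h1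
          norm_num at h1 ⊢
          omega
        · norm_num at h
    · have hd4 : s + 4 ≤ d := by omega
      by_contra hlt
      rw [not_le] at hlt
      have hlt' : n * 2 ^ s < 2 ^ (d + 1) := by omega
      have hpow : 2 ^ (d + 1) * 2 ^ s = 2 ^ (d + s + 1) := by rw [← pow_add]; congr 1; omega
      rcases hfew (by omega) with h | h | h
      · obtain ⟨B, hB'⟩ : ∃ B, 3 * 2 ^ (2 * d - 6) = B := ⟨_, rfl⟩
        have e : (2 ^ d) ^ 2 = 2 ^ (2 * d - 6) * 64 := by
          rw [← pow_mul, show (64 : ℕ) = 2 ^ 6 by norm_num, ← pow_add]; congr 1; omega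
        have h1 := (h B fun g => by have := hC3 g; rw [e] at this; omega).trans (hsq n)
        have h2 := Nat.mul_lt_mul_of_pos_right hlt' (show 0 < 2 ^ s by positivity)
        have h3 : 2 ^ (d + s + 1) ≤ 2 ^ (2 * d - 6) * 8 := by
          rw [show (8 : ℕ) = 2 ^ 3 by norm_num, ← pow_add]
          exact Nat.pow_le_pow_right (by norm_num) (by omega)
        rw [hpow] at h2
        omega
      · have h1 := (hz h).trans (hsq n)
        have h2 := Nat.mul_lt_mul_of_pos_right hlt' (show 0 < 2 ^ s by positivity)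
        rw [hpow] at h2
        obtain ⟨k, rfl⟩ : ∃ k, m = k + 2 := ⟨m - 2, by omega⟩
        have h3 := (ts_ge hY.nd hT).trans h1
        rw [hq] at h3
        have hm := hsing h
        rcases hc with rfl | rfl
        · have e1 : 2 ^ (2 * k + 3) + 1 ≤ zc 2 0 (k + 2) ∧ 2 ^ (2 * k + 1) + 1 ≤ zc 2 0 (k + 1) := by
            have z1 := zc_spec 2 0 (by norm_num) (k + 2)
            have z2 := zc_spec 2 0 (by norm_num) (k + 1)
            have p1 : 2 ≤ 2 ^ (k + 1) := Nat.le_self_pow (by omega) 2
            simp only [add_zero, pow_succ, pow_mul, pow_add, pow_zero, one_mul, pow_two] at z1 z2 p1 ⊢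
            ring_nf at z1 z2 p1 ⊢
            omega
          have h4 : 2 ^ (2 * k + 3) * (2 * 2 ^ (2 * k + 1)) ≤ (zc 2 0 (k + 2) - 1) * (2 * zc 2 0 (k + 1) - 2) :=
            Nat.mul_le_mul (by omega) (by omega)
          have h5 : 2 ^ (d + s + 1) ≤ 2 ^ (2 * k + 3) * (2 * 2 ^ (2 * k + 1)) := by
            rw [← pow_succ', ← pow_add]
            exact Nat.pow_le_pow_right (by norm_num) (by omega)
          omega
        · have e1 : 3 * 2 ^ (2 * k + 3) + 1 ≤ zc 2 2 (k + 2) ∧ 3 * 2 ^ (2 * k + 1) + 1 ≤ zc 2 2 (k + 1) := by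
            obtain ⟨j, rfl⟩ : ∃ j, k = j + 1 := ⟨k - 1, by omega⟩
            have z1 := zc_spec 2 2 (by norm_num) (j + 1 + 2)
            have z2 := zc_spec 2 2 (by norm_num) (j + 1 + 1)
            have p1 : 4 ^ j ≥ 2 ^ j := Nat.pow_le_pow_left (by norm_num) j
            have p2 : 1 ≤ 2 ^ j := Nat.one_le_two_pow
            have e4 : (2 : ℕ) ^ (j * 2) = 4 ^ j := by rw [mul_comm, pow_mul]; norm_num
            simp only [pow_add, pow_mul, pow_succ, pow_zero, one_mul] at z1 z2 ⊢
            norm_num at z1 z2 ⊢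
            ring_nf at z1 z2 ⊢
            omega
          have h4 : 3 * 2 ^ (2 * k + 3) * (2 * (3 * 2 ^ (2 * k + 1))) ≤
              (zc 2 2 (k + 2) - 1) * (2 * zc 2 2 (k + 1) - 2) :=
            Nat.mul_le_mul (by omega) (by omega)
          have h5 : 2 ^ (d + s + 1) ≤ 8 * 2 ^ (4 * k + 5) := by
            rw [show (8 : ℕ) = 2 ^ 3 by norm_num, ← pow_add]
            exact Nat.pow_le_pow_right (by norm_num) (by omega)
          have h6 : 3 * 2 ^ (2 * k + 3) * (2 * (3 * 2 ^ (2 * k + 1))) = 9 * 2 ^ (4 * k + 5) := by ring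
          have h7 : 0 < 2 ^ (4 * k + 5) := by positivity
          omega
      · obtain rfl : s = 2 := by
          rcases Nat.lt_or_ge s 3 with h' | h'
          · omega
          · have := Nat.pow_le_pow_right (show 0 < 2 by norm_num) h'; norm_num at this h; omega
        have h1 := sub_class_le hG p H hY hU (Or.inl (by omega))
          (g := gram (restr Q (pperp Q e f)) (a, b)) ⟨a, b, ha, hb, hab, rfl⟩
        have h2 := card_span_pairs U {x : pperp Q e f × pperp Q e f | x.1 ∈ U ∧ x.2 ∈ U ∧
          x ∈ pairClass (restr Q (pperp Q e f)) (gram (restr Q (pperp Q e f)) (a, b))}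
          (fun x hx => ⟨hx.1, hx.2.1, hx.2.2.1⟩)
        rw [hq, hs] at h2
        rw [hn] at h1
        have h3 := h1.trans (Nat.mul_le_mul_left n h2)
        have h4 := hC3 (gram (restr Q (pperp Q e f)) (a, b))
        have e : (2 ^ d) ^ 2 = 2 ^ (2 * d - 6) * 64 := by
          rw [← pow_mul, show (64 : ℕ) = 2 ^ 6 by norm_num, ← pow_add]; congr 1; omega
        have h5 : 2 ^ (d + 1) ≤ 2 ^ (2 * d - 6) := Nat.pow_le_pow_right (by norm_num) (by omega)
        rw [e] at h4
        simp only [Nat.reducePow, Nat.reduceSub, Nat.reduceMul] at h3 hlt'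
        omega
  · rw [hq] at hC hz hfew hsq ⊢
    have hC16 : ∀ g, 16 * (3 ^ d) ^ 2 ≤ Nat.card (pairClass (restr Q (pperp Q e f)) g) * 729 := fun g => by
      have := hC g; norm_num at this ⊢; exact this
    rcases Nat.lt_or_ge d 7 with hd7 | hd7
    · have hcase : (∀ u ∈ U, Q (u : V) = 0) ∨ ∃ u ∈ U, Q (u : V) ≠ 0 := by
        by_cases h : ∀ u ∈ U, Q (u : V) = 0
        · exact Or.inl h
        · push Not at h; exact Or.inr h
      have h2F : (2 : F) ≠ 0 := by
        intro h
        haveI : CharP F 2 := (CharP.charP_iff_prime_eq_zero Nat.prime_two).2 (by exact_mod_cast h)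
        have := FiniteField.even_card_of_char_two (F := F) (ringChar.eq F 2)
        rw [← Nat.card_eq_fintype_card, hq] at this
        omega
      obtain rfl | rfl : d = 5 ∨ d = 6 := by omega
      · have hM' := hM5 rfl
        obtain rfl : s = 2 := by omega
        obtain ⟨rfl, rfl⟩ : c = 1 ∧ m = 2 := by omega
        rcases hcase with h | ⟨u, hu, huq⟩
        · have h1 := (ts_ge hY.nd (m := 0) hT).trans (hz h)
          rw [hq, show zc 3 1 2 = 81 by decide, show zc 3 1 1 = 9 by decide] at h1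
          norm_num at h1 ⊢
          omega
        · obtain ⟨g, hg⟩ := sub_plane_le hG p H hY h2F hU hs hu huq
          have h2 := hC16 g
          rw [hn, hq] at hg
          norm_num at hg h2 ⊢
          omega
      · obtain rfl | rfl : s = 2 ∨ s = 3 := by omega
        · have h1 := sub_class_le hG p H hY hU (Or.inl (by omega))
            (g := gram (restr Q (pperp Q e f)) (a, b)) ⟨a, b, ha, hb, hab, rfl⟩
          have h2 := card_span_pairs U {x : pperp Q e f × pperp Q e f | x.1 ∈ U ∧ x.2 ∈ U ∧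
            x ∈ pairClass (restr Q (pperp Q e f)) (gram (restr Q (pperp Q e f)) (a, b))}
            (fun x hx => ⟨hx.1, hx.2.1, hx.2.2.1⟩)
          rw [hq, hs] at h2
          rw [hn] at h1
          have h3 := h1.trans (Nat.mul_le_mul_left n h2)
          have h4 := hC16 (gram (restr Q (pperp Q e f)) (a, b))
          norm_num at h3 h4 hM ⊢
          omega
        · rcases hfew le_rfl with h | h | h
          · have h1 := h 11664 fun g => by
              have := hC16 g; simp only [Nat.reducePow, Nat.reduceMul] at this; omega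
            norm_num at h1 hM ⊢
            omega
          · have := hsing h; omega
          · norm_num at h
    · have hd4 : s + 4 ≤ d := by omega
      by_contra hlt
      rw [not_le] at hlt
      have hlt' : 2 * (n * 3 ^ s) < 3 ^ (d + 1) := by omega
      have h2 := Nat.mul_lt_mul_of_pos_right hlt' (show 0 < 3 ^ s by positivity)
      have hpow : 3 ^ (d + 1) * 3 ^ s = 3 ^ (d + s + 1) := by rw [← pow_add]; congr 1; omega
      rw [hpow] at h2
      have e9 : (3 ^ d) ^ 2 = 3 ^ (2 * d - 6) * 729 := by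
        rw [← pow_mul, show (729 : ℕ) = 3 ^ 6 by norm_num, ← pow_add]; congr 1; omega
      have h3 : 3 ^ (d + s + 1) ≤ 3 ^ (2 * d - 6) * 27 := by
        rw [show (27 : ℕ) = 3 ^ 3 by norm_num, ← pow_add]
        exact Nat.pow_le_pow_right (by norm_num) (by omega)
      have hCT : ∀ g, 16 * 3 ^ (2 * d - 6) ≤ Nat.card (pairClass (restr Q (pperp Q e f)) g) := fun g => by
        have := hC16 g; rw [e9] at this; omega
      have h0 : 0 < 3 ^ (2 * d - 6) := by positivity
      rcases hfew (by omega) with h | h | h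
      · have h1 := (h _ hCT).trans (hsq n)
        rw [mul_assoc 2 (n * 3 ^ s)] at h2
        omega
      · have h1 := ((hCT _).trans (hz h)).trans (hsq n)
        rw [mul_assoc 2 (n * 3 ^ s)] at h2
        omega
      · have := Nat.pow_le_pow_right (show 0 < 3 by norm_num) hU2; norm_num at this h; omega

/-- The trichotomy over small fields. -/
theorem small_trichotomy {c m M : ℕ} (hT : HasType Q c (m + 1))
    (hB : SmallBound (Nat.card F) c (finrank F (pperp Q e f)) M) (hI : H.index < M) :
    kPart hG p H = ⊤ ∨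
      (∃ v : pperp Q e f, ∀ y : pperp Q e f, polar Q (v : V) (y : V) = 0 → y ∈ kPart hG p H) ∨
      (kPart hG p H = ⊥ ∧ lineStab Q e ≤ rGrp hG p H) := by
  haveI : Finite V := Module.finite_of_finite F
  haveI : Finite (omg Q) := finite_omega
  obtain ⟨q, hq⟩ : ∃ q, Nat.card F = q := ⟨_, rfl⟩
  obtain ⟨d, hd⟩ : ∃ d, finrank F (pperp Q e f) = d := ⟨_, rfl⟩
  have hprime : (Nat.card F).Prime := by
    rcases hB with ⟨h, -⟩ | ⟨h, -⟩ <;> rw [h]
    · exact Nat.prime_two
    · exact Nat.prime_three
  have hd5 : 5 ≤ d := by rw [← hd]; rcases hB with ⟨-, -, h, -⟩ | ⟨-, -, h, -⟩ <;> omega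
  have hM : M ≤ 2 * q ^ d := by
    rw [← hd, ← hq]
    rcases hB with ⟨h, -, -, h', -⟩ | ⟨h, -, -, h', -⟩
    · rw [h, ← pow_succ']; exact h'
    · rw [h]; rw [pow_succ] at h'; omega
  have hY : (polarBilin (restr Q (pperp Q e f))).Nondegenerate := pperp_nondeg hG.nd p
  obtain ⟨UA, hUA⟩ := exists_submodule hprime (aPart hG p H)
  obtain ⟨UK, hUK⟩ := exists_submodule hprime (kPart hG p H)
  have hAc : Nat.card (aPart hG p H) = q ^ finrank F UA := by
    rw [← hq, ← card_submodule, ← hUA]; rfl
  have hKc : Nat.card (kPart hG p H) = q ^ finrank F UK := by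
    rw [← hq, ← card_submodule, ← hUK]; rfl
  have hsum : finrank F UA + finrank F UK = d := by
    have h := card_dualK hY (kPart hG p H)
    rw [show dualK (restr Q (pperp Q e f)) (kPart hG p H) = aPart hG p H from rfl, hAc, hKc, card_submodule, hd,
      hq, ← pow_add] at h
    exact Nat.pow_right_injective (hq ▸ hprime.two_le) h
  rcases Nat.eq_zero_or_pos (finrank F UK) with hk0 | hk0
  · right; right
    have hbot : kPart hG p H = ⊥ := by
      rw [← hUK, Submodule.finrank_eq_zero.1 hk0]; rfl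
    refine ⟨hbot, Subgroup.relIndex_eq_one.1 ?_⟩
    have h1 := chain_le hG p H
    rw [hAc, show finrank F UA = d by omega] at h1
    have h2 := h1.trans (relIndex_le_index' _ _)
    have h3 : (rGrp hG p H).relIndex (lineStab Q e) * q ^ d < 2 * q ^ d := by omega
    have h4 := Nat.lt_of_mul_lt_mul_right h3
    have h5 : (rGrp hG p H).relIndex (lineStab Q e) ≠ 0 := Subgroup.index_ne_zero_of_finite
    omega
  rcases Nat.lt_or_ge (finrank F UA) 2 with hw | hw
  · rcases Nat.eq_zero_or_pos (finrank F UA) with hw0 | hw0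
    · left
      refine AddSubgroup.eq_top_of_card_eq _ ?_
      rw [hKc, card_submodule, hd, hq, show finrank F UK = d by omega]
    · right; left
      obtain ⟨v, hv, hv0⟩ := UA.ne_bot_iff.1 (fun h => by rw [h, finrank_bot] at hw0; omega)
      refine ⟨v, fun y hy => perp_le_kPart hG p H UA (fun z hz => hUA.ge hz) fun u hu => ?_⟩
      have hspan : UA = Submodule.span F {v} := (Submodule.eq_of_le_of_finrank_le
        ((Submodule.span_singleton_le_iff_mem _ _).2 hv) (by rw [finrank_span_singleton hv0]; omega)).symm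
      rw [hspan] at hu
      obtain ⟨t, rfl⟩ := Submodule.mem_span_singleton.1 hu
      rw [Submodule.coe_smul, b_smul_left, hy, mul_zero]
  exfalso
  have hstA : IsStable hG p H UA := fun g hg hg' y hy => (SetLike.ext_iff.1 hUA _).2 (norm_app_a hg hg' ((SetLike.ext_iff.1 hUA _).1 hy))
  have hstK : IsStable hG p H UK := fun g hg hg' y hy => (SetLike.ext_iff.1 hUK _).2 ((norm_app hg hg').1 ((SetLike.ext_iff.1 hUK _).1 hy))
  have hn := norm_mul_le hG p H
  rw [hAc] at hn
  have hlt : (kNorm hG p H).relIndex (pairStab Q e f) * q ^ finrank F UA < M := hn.trans_lt hI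
  have hTY := hT.restrict p
  rcases le_total (finrank F UA) (finrank F UK) with hle | hle
  · have := orbit_sub hG p H hTY hB hstA hw (by omega)
    rw [hq] at this
    omega
  · rcases Nat.lt_or_ge (finrank F UK) 2 with hk | hk
    · obtain ⟨a, ha, ha0⟩ := UK.ne_bot_iff.1 (fun h => by rw [h, finrank_bot] at hk0; omega)
      obtain ⟨u, hu0, hu⟩ := exists_singular hY (by omega)
      have h1 := sub_vec_le hG p H (by omega) hstK ha ha0
      have h2 := level_one hY hu hu0 (Q (a : V))
      rw [show finrank F UK = 1 by omega, pow_one] at h1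
      rw [card_submodule, hd, hq] at h2
      have h3 : q ^ d ≤ (kNorm hG p H).relIndex (pairStab Q e f) * q ^ 2 := by
        refine Nat.le_of_mul_le_mul_left ?_ (show 0 < q - 1 by have := hq ▸ hprime.two_le; omega)
        refine le_trans h2 (le_trans (Nat.mul_le_mul_right _ h1) (le_of_eq ?_))
        rw [hq]; ring
      have hq2 : 2 ≤ q := hq ▸ hprime.two_le
      have h4 : q ^ finrank F UA = q ^ 2 * q ^ (d - 3) := by rw [← pow_add]; congr 1; omega
      have h5 : 2 ≤ q ^ (d - 3) := le_trans hq2 (Nat.le_self_pow (by omega) q)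
      have h6 : q ^ d * 2 ≤ (kNorm hG p H).relIndex (pairStab Q e f) * q ^ finrank F UA := by
        rw [h4, ← mul_assoc]
        exact Nat.mul_le_mul h3 h5
      omega
    · have h1 := orbit_sub hG p H hTY hB hstK hk (by omega)
      have h2 := Nat.pow_le_pow_right (show 0 < q by have := hq ▸ hprime.two_le; omega) hle
      have h3 := Nat.mul_le_mul_left ((kNorm hG p H).relIndex (pairStab Q e f)) h2
      rw [hq] at h1
      omega

end Cfsg.Agent.OrthMin
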