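/-
Fields with two or three elements: no proper subgroup of index below the bound.
-/
import Cfsg.Agent.Lib.OrthMinIndex.SmallRoot
import Cfsg.Agent.Lib.OrthMinIndex.Centre

set_option autoImplicit false

namespace Cfsg.Agent.OrthMin

open QuadraticMap Module Cfsg.Agent.Orth Cfsg.Agent.OrthDeg

variable {F V : Type*} [Field F] [AddCommGroup V] [Module F V] {Q : QuadraticForm F V}

/-- A span of pairwise orthogonal singular vectors is totally singular. -/
theorem span_ts {S : Set V} (hs : ∀ a ∈ S, Q a = 0) (hp : ∀ a ∈ S, ∀ b ∈ S, polar Q a b = 0) :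
    ∀ w ∈ Submodule.span F S, Q w = 0 := by
  have h1 : ∀ a ∈ S, ∀ w ∈ Submodule.span F S, polar Q a w = 0 := fun a ha w hw => by
    induction hw using Submodule.span_induction with
    | mem b hb => exact hp a ha b hb
    | zero => exact b_zero_right a
    | add u v _ _ hu hv => rw [b_add_right, hu, hv, add_zero]
    | smul t u _ hu => rw [b_smul_right, hu, mul_zero]
  intro w hw
  induction hw using Submodule.span_induction with
  | mem b hb => exact hs b hb
  | zero => exact map_zero Q
  | add u v hu hv ihu ihv =>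
    have h2 : polar Q u v = 0 := by
      clear ihu ihv
      induction hu using Submodule.span_induction with
      | mem b hb => exact h1 b hb v hv
      | zero => exact b_zero_left v
      | add s t _ _ hs ht => rw [b_add_left, hs, ht, add_zero]
      | smul r s _ hs => rw [b_smul_left, hs, mul_zero]
    rw [q_add, ihu, ihv, h2, add_zero, add_zero]
  | smul t u _ hu => rw [q_smul, hu, mul_zero]

variable [FiniteDimensional F V] [Fintype F] {H : Subgroup (omg Q)}

/-- No root element at e is in H, and every element fixing the line of e is in H up to a root element. -/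
def IsSparse (Q : QuadraticForm F V) (H : Subgroup (omg Q)) (e : V) : Prop :=
  (∀ w, polar Q e w = 0 → tr Q e w ∈ H → w ∈ Submodule.span F {e}) ∧
    ∀ g ∈ lineStab Q e, ∃ y, polar Q e y = 0 ∧ g * tr Q e y ∈ H

theorem IsSparse.ks_le (hG : Good Q) {e : V} (he : Q e = 0) (h : IsSparse Q H e) :
    ks Q H e ≤ Submodule.span F {e} :=
  fun w hw => h.1 w ((mem_ks hG he).1 hw).1 (tr_mem_of_ks hG he hw)

set_option maxHeartbeats 1000000 in
/-- The classification at a singular point over a small field. -/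
theorem classify_small (hG : Good Q) {c m M : ℕ} (hT : HasType Q c (m + 1))
    (hB : SmallBound (Nat.card F) c (finrank F V - 2) M) (hI : H.index < M) {e : V} (he0 : e ≠ 0) (he : Q e = 0) :
    IsFullAt Q H e ∨ finrank F (wk Q H e) = 2 ∨ IsSparse Q H e := by
  obtain ⟨f, hf, hf0⟩ := exists_partner hG.nd he0 he
  have p : IsPair Q e f := ⟨he, hf0, hf⟩
  have hB' : SmallBound (Nat.card F) c (finrank F (pperp Q e f)) M := by
    rwa [show finrank F (pperp Q e f) = finrank F V - 2 by have := finrank_pperp p; omega]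
  have hproj : ∀ w, polar Q e w = 0 → tr Q e (w - polar Q w f • e) = tr Q e w := fun w hw => by
    conv_rhs => rw [← sub_add_cancel w (polar Q w f • e)]
    exact (tr_shift hG he (mem_pperp.1 (perp_part_mem p hw)).1 _).symm
  rcases small_trichotomy hG p H hT hB' hI with h | ⟨v, hv⟩ | ⟨hbot, hR⟩
  · refine Or.inl fun w hw => ?_
    have h1 : (⟨_, perp_part_mem p hw⟩ : pperp Q e f) ∈ kPart hG p H := by rw [h]; trivial
    exact hproj w hw ▸ mem_kPart.1 h1
  · have hle : wk Q H e ≤ Submodule.span F {e, (v : V)} := by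
      refine le_trans (b := perp Q (perp Q (Submodule.span F {e, (v : V)}))) (fun z hz => ?_) (perp_perp hG.nd _).le
      intro w hw
      have h1 : polar Q e w = 0 := mem_perp_span.1 hw e (by simp)
      have h2 : polar Q (v : V) w = 0 := mem_perp_span.1 hw v (by simp)
      refine hz w ((mem_ks hG he).2 ⟨h1, fun d => ?_⟩)
      have h3 : polar Q e (d • w) = 0 := by rw [b_smul_right, h1, mul_zero]
      rw [← hproj _ h3]
      refine mem_kPart.1 (hv ⟨_, perp_part_mem p h3⟩ ?_)
      show polar Q (v : V) (d • w - polar Q (d • w) f • e) = 0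
      rw [b_sub_right, b_smul_right, b_smul_right, h2, b_comm (v : V) e, (mem_pperp.1 v.2).1]; ring
    rcases Nat.lt_or_ge (finrank F (wk Q H e)) 2 with h | h
    · refine Or.inl (isFullAt_of_perp hG he (le_of_eq (Submodule.eq_of_le_of_finrank_le ?_ ?_).symm))
      · exact (Submodule.span_singleton_le_iff_mem _ _).2 (self_mem_wk hG he)
      · rw [finrank_span_singleton he0]; omega
    · exact Or.inr (Or.inl (le_antisymm ((Submodule.finrank_mono hle).trans (finrank_span_pair_le e (v : V))) h))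
  · refine Or.inr (Or.inr ⟨fun w hw hwH => ?_, fun g hg => ?_⟩)
    · have h1 : (⟨_, perp_part_mem p hw⟩ : pperp Q e f) ∈ kPart hG p H := mem_kPart.2 (by
        show tr Q e (w - polar Q w f • e) ∈ H
        rw [hproj w hw]; exact hwH)
      rw [hbot, AddSubgroup.mem_bot] at h1
      exact Submodule.mem_span_singleton.2 ⟨polar Q w f, (sub_eq_zero.1 (congrArg Subtype.val h1)).symm⟩
    · obtain ⟨-, t, ht, htH⟩ := hR hg
      obtain ⟨y, hy, rfl⟩ := (mem_root hG p).1 ht
      exact ⟨y, hy, htH⟩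

/-! ### No full point -/

theorem no_full_small (hG : Good Q) (hn : 7 ≤ finrank F V) {c m : ℕ} (hT : HasType Q c m) {M : ℕ}
    (hne : H ≠ ⊤) (hI : H.index < M) (hline : ∀ e, e ≠ 0 → Q e = 0 → M ≤ (lineStab Q e).index)
    (hc : c ≤ 2)
    (hcls : ∀ e, e ≠ 0 → Q e = 0 → IsFullAt Q H e ∨ finrank F (wk Q H e) = 2 ∨ IsSparse Q H e)
    {x : V} (hx0 : x ≠ 0) (hx : Q x = 0) : ¬ IsFullAt Q H x := by
  intro hfx
  haveI : Finite V := Module.finite_of_finite F
  haveI : Finite (omg Q) := finite_omega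
  let S : Set V := {v | Q v = 0 ∧ v ≠ 0 ∧ IsFullAt Q H v}
  have hperp : ∀ a ∈ S, ∀ b ∈ S, polar Q a b = 0 := by
    rintro a ⟨ha, ha0, hfa⟩ b ⟨hb, hb0, hfb⟩
    by_contra h
    refine hne (top_of_two_full hG hn (x := a) (z := (polar Q a b)⁻¹ • b)
      ⟨ha, by rw [q_smul, hb, mul_zero], by rw [b_smul_right, inv_mul_cancel₀ h]⟩ hfa
      (full_smul hG hb hfb (inv_ne_zero h)))
  let W := Submodule.span F S
  have hW : ∀ w ∈ W, Q w = 0 := span_ts (fun a ha => ha.1) hperp
  have hinv : ∀ h ∈ H, ∀ w ∈ W, app h w ∈ W := fun h hh w hw => by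
    induction hw using Submodule.span_induction with
    | mem b hb => exact Submodule.subset_span ⟨by rw [q_app, hb.1], app_ne h hb.2.1, full_conj hG hb.1 hb.2.2 hh⟩
    | zero => rw [app, map_zero]; exact W.zero_mem
    | add u v _ _ hu hv => rw [app, map_add]; exact W.add_mem hu hv
    | smul t u _ hu => rw [app, map_smul]; exact W.smul_mem t hu
  have hxW : x ∈ W := Submodule.subset_span ⟨hx, hx0, hfx⟩
  have hWm : finrank F W ≤ m := sing_dim_le m hG.nd hT W hW
  obtain ⟨z, hz, hxz⟩ := exists_sing_not_perp hG.nd (by omega) hx0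
  have hz0 : z ≠ 0 := fun h => hxz (by rw [h, b_zero_right])
  have hzW : z ∉ W := fun h => hxz (b_eq_zero_of_singular hW hxW h)
  rcases hcls z hz0 hz with h | h | ⟨hno, hlift⟩
  · exact hxz (hperp x ⟨hx, hx0, hfx⟩ z ⟨hz, hz0, h⟩)
  · have hle : ks Q H z ≤ W ⊔ Submodule.span F {z} := by
      intro w hw
      obtain ⟨h1, -⟩ := (mem_ks hG hz).1 hw
      have h3 := W.sub_mem (hinv _ (tr_mem_of_ks hG hz hw) x hxW) hxW
      rw [tr_apply hG hz h1, show x + polar Q x z • w - (polar Q x w + Q w * polar Q x z) • z - x =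
        polar Q x z • w - (polar Q x w + Q w * polar Q x z) • z by abel] at h3
      have h4 : polar Q x z • w ∈ W ⊔ Submodule.span F {z} := by
        have h5 := Submodule.add_mem _ (Submodule.mem_sup_left h3) (Submodule.mem_sup_right
          (Submodule.smul_mem _ (polar Q x w + Q w * polar Q x z) (Submodule.mem_span_singleton_self z)) :
            _ ∈ W ⊔ Submodule.span F {z})
        rwa [sub_add_cancel] at h5
      have h6 := Submodule.smul_mem _ (polar Q x z)⁻¹ h4
      rwa [smul_smul, inv_mul_cancel₀ hxz, one_smul] at h6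
    have h1 := Submodule.finrank_mono hle
    have h2 := Submodule.finrank_add_le_finrank_add_finrank W (Submodule.span F {z})
    rw [finrank_span_singleton hz0] at h2
    have h3 := finrank_perp_eq hG.nd (ks Q H z)
    change finrank F (wk Q H z) + _ = _ at h3
    have h4 := hT.1
    omega
  · -- the stabiliser of the line of z moves W
    obtain ⟨f, hf, hf0⟩ := exists_partner hG.nd hz0 hz
    have p : IsPair Q z f := ⟨hz, hf0, hf⟩
    have hdY := finrank_pperp p
    have hY : Good (restr Q (pperp Q z f)) := ⟨pperp_nondeg hG.nd p, by omega⟩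
    let K : Submodule F (pperp Q z f) := (W ⊔ Submodule.span F {z}).comap (pperp Q z f).subtype
    have hKs : ∀ y ∈ K, ∃ w ∈ W, polar Q z w = 0 ∧ ∃ t : F, (y : V) = w + t • z := by
      intro y hy
      obtain ⟨w, hw, r, hr, hwr⟩ := Submodule.mem_sup.1 hy
      obtain ⟨t, rfl⟩ := Submodule.mem_span_singleton.1 hr
      have hwr' : w + t • z = (y : V) := hwr
      refine ⟨w, hw, ?_, t, hwr'.symm⟩
      have h1 := (mem_pperp.1 y.2).1
      rwa [← hwr', b_add_right, b_smul_right, p.ee, mul_zero, add_zero] at h1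
    have hKts : ∀ y ∈ K, Q (y : V) = 0 := by
      intro y hy
      obtain ⟨w, hw, hzw, t, e1⟩ := hKs y hy
      rw [e1, q_add, q_smul, hW w hw, hz, b_smul_right, b_comm w z, hzw]; ring
    have hbot : K.toAddSubgroup = ⊥ := by
      refine (invariant_bot_or_top hY _ fun g y hy => ?_).resolve_right fun htop => ?_
      · obtain ⟨w, hw, hzw, t, e1⟩ := hKs y hy
        obtain ⟨u, hu, huH⟩ := hlift _ (pairStab_le z f (extW_mem_pairStab p g))
        have h1 := hinv _ huH w hw
        show ((app g y : pperp Q z f) : V) ∈ W ⊔ Submodule.span F {z}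
        rw [← extW_app p, e1]
        obtain ⟨k, hk⟩ : ∃ k, extW p g = k := ⟨_, rfl⟩
        have hke : k.1.1 z = z := hk ▸ extW_e p g
        rw [hk] at h1 ⊢
        rw [app_mul, tr_apply hG hz hu, b_comm w z, hzw, zero_smul, add_zero] at h1
        simp only [app, map_sub, map_smul, map_add, hke] at h1 ⊢
        exact Submodule.mem_sup.2 ⟨_, h1, ((polar Q w u + Q u * 0) + t) • z,
          Submodule.smul_mem _ _ (Submodule.mem_span_singleton_self z), by module⟩
      · obtain ⟨v, hv⟩ := exists_value hY.nd (by have := hY.dim; omega) (1 : F)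
        have h1 : v ∈ K.toAddSubgroup := by rw [htop]; trivial
        rw [restr_apply, hKts v h1] at hv
        exact zero_ne_one hv
    have hWz : W ⊓ perp Q (Submodule.span F {z}) = ⊥ := by
      refine (Submodule.eq_bot_iff _).2 fun w hw => ?_
      have hzw : polar Q z w = 0 := hw.2 z (Submodule.mem_span_singleton_self z)
      have hy : (⟨_, perp_part_mem p hzw⟩ : pperp Q z f) ∈ K.toAddSubgroup := by
        show w - polar Q w f • z ∈ W ⊔ Submodule.span F {z}
        exact Submodule.sub_mem _ (Submodule.mem_sup_left hw.1)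
          (Submodule.mem_sup_right (Submodule.smul_mem _ _ (Submodule.mem_span_singleton_self z)))
      rw [hbot, AddSubgroup.mem_bot] at hy
      have h2 : w = polar Q w f • z := sub_eq_zero.1 (congrArg Subtype.val hy)
      rcases eq_or_ne (polar Q w f) 0 with h3 | h3
      · rw [h2, h3, zero_smul]
      · refine absurd ?_ hzW
        have h4 := W.smul_mem (polar Q w f)⁻¹ (hw.1 : w ∈ W)
        rw [h2, smul_smul] at h4
        rwa [show (polar Q (polar Q w f • z) f)⁻¹ * polar Q w f = 1 by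
          rw [b_smul_left, p.ed, mul_one, inv_mul_cancel₀ h3], one_smul] at h4
    have hW1 : finrank F W ≤ 1 := by
      have h1 := Submodule.finrank_sup_add_finrank_inf_eq W (perp Q (Submodule.span F {z}))
      have h2 := Submodule.finrank_le (W ⊔ perp Q (Submodule.span F {z}))
      have h3 := finrank_perp_eq hG.nd (Submodule.span F {z})
      rw [hWz, finrank_bot] at h1
      rw [finrank_span_singleton hz0] at h3
      omega
    have hWx : W = Submodule.span F {x} := (Submodule.eq_of_le_of_finrank_le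
      ((Submodule.span_singleton_le_iff_mem _ _).2 hxW) (by rw [finrank_span_singleton hx0]; omega)).symm
    have hle : H ≤ lineStab Q x := by
      intro h hh
      have h1 := hinv h hh x hxW
      rw [hWx] at h1
      obtain ⟨t, ht⟩ := Submodule.mem_span_singleton.1 h1
      exact ⟨t, fun h0 => app_ne h hx0 (by rw [← ht, h0, zero_smul]), ht.symm⟩
    have h9 := Nat.le_of_dvd (Nat.pos_of_ne_zero Subgroup.index_ne_zero_of_finite) (Subgroup.index_dvd_of_le hle)
    have := hline x hx0 hx
    omega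

/-- The orbit of the line of a vector covers its level up to scalars. -/
theorem level_le_line (hG : Good Q) {p : V} (hp : p ≠ 0) :
    Nat.card {v : V // v ≠ 0 ∧ Q v = Q p} ≤ (lineStab Q p).index * (Nat.card F - 1) := by
  haveI : Finite V := Module.finite_of_finite F
  haveI : Finite (omg Q) := finite_omega
  have key : ∀ v : {v : V // v ≠ 0 ∧ Q v = Q p}, ∃ k : (omg Q ⧸ lineStab Q p) × {s : F // s ≠ 0},
      (k.2 : F) • app k.1.out p = (v : V) := by
    rintro ⟨v, hv0, hv⟩
    obtain ⟨g, hg⟩ := move_one hG hp hv0 hv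
    obtain ⟨s, hs, hse⟩ : g⁻¹ * (QuotientGroup.mk g : omg Q ⧸ lineStab Q p).out ∈ lineStab Q p :=
      QuotientGroup.eq.1 (QuotientGroup.out_eq' _).symm
    refine ⟨(QuotientGroup.mk g, ⟨s⁻¹, inv_ne_zero hs⟩), ?_⟩
    have h2 := congrArg (app g) hse
    rw [app_mul, app_app_inv] at h2
    show s⁻¹ • app (QuotientGroup.mk g : omg Q ⧸ lineStab Q p).out p = v
    rw [h2, ← hg]
    show s⁻¹ • g.1.1 (s • p) = g.1.1 p
    rw [map_smul, smul_smul, inv_mul_cancel₀ hs, one_smul]
  choose k hk using key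
  refine (Nat.card_le_card_of_injective k fun a b h => Subtype.ext (by rw [← hk a, ← hk b, h])).trans (le_of_eq ?_)
  rw [Nat.card_prod, Subgroup.index]
  have := card_scalar_ne (F := F)
  congr 1
  omega

/-! ### Only sparse points -/

section Sparse

variable {e f : V}

theorem tr_comm_of_fix (hG : Good Q) {g : omg Q} {u : V} (he : Q e = 0) (hu : polar Q e u = 0)
    (h1 : app g e = e) (h2 : app g u = u) : g * tr Q e u = tr Q e u * g := by
  have h := tr_conj hG g he hu
  rw [h1, h2] at h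
  exact mul_inv_eq_iff_eq_mul.1 h

theorem lift_exists (hG : Good Q) (p : IsPair Q e f) (hs : IsSparse Q H e) {g : omg Q}
    (hg : g ∈ pairStab Q e f) : ∃ u ∈ pperp Q e f, tr Q e u * g ∈ H := by
  obtain ⟨y, hy, hyH⟩ := hs.2 g (pairStab_le e f hg)
  have hgy : polar Q e (app g y) = 0 := by
    conv_lhs => rw [← hg.1]
    rw [b_app, hy]
  refine ⟨_, perp_part_mem p hgy, ?_⟩
  have h := tr_conj hG g p.qe hy
  rw [hg.1, mul_inv_eq_iff_eq_mul] at h
  rw [h] at hyH
  convert hyH using 2
  conv_rhs => rw [← sub_add_cancel (app g y) (polar Q (app g y) f • e)]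
  exact (tr_shift hG p.qe (mem_pperp.1 (perp_part_mem p hgy)).1 _).symm

/-- Lifts of commuting elements. -/
theorem lift_comm (hG : Good Q) (p : IsPair Q e f) (hs : IsSparse Q H e) {g s : omg Q}
    (hg : g ∈ pairStab Q e f) (hsm : s ∈ pairStab Q e f) (hc : g * s = s * g) {a b : V} (ha : a ∈ pperp Q e f)
    (hb : b ∈ pperp Q e f) (haH : tr Q e a * g ∈ H) (hbH : tr Q e b * s ∈ H) :
    app g b - b = app s a - a := by
  have move : ∀ {g : omg Q}, g ∈ pairStab Q e f → ∀ b ∈ pperp Q e f,
      g * tr Q e b = tr Q e (app g b) * g := fun {g} hg b hb => by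
    have h := tr_conj hG g p.qe (mem_pperp.1 hb).1
    rw [hg.1] at h
    exact mul_inv_eq_iff_eq_mul.1 h
  have h1 := pairStab_pperp hg hb
  have h2 := pairStab_pperp hsm ha
  have e1 : polar Q e (a + app g b) = 0 := (mem_pperp.1 (Submodule.add_mem _ ha h1)).1
  have e2 : polar Q e (b + app s a) = 0 := (mem_pperp.1 (Submodule.add_mem _ hb h2)).1
  have hA : tr Q e (a + app g b) * (g * s) ∈ H := by
    rw [tr_add hG p.qe (mem_pperp.1 ha).1 (mem_pperp.1 h1).1]
    convert H.mul_mem haH hbH using 1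
    rw [mul_assoc (tr Q e a) g, ← mul_assoc g (tr Q e b), move hg b hb]
    group
  have hB : tr Q e (b + app s a) * (g * s) ∈ H := by
    rw [tr_add hG p.qe (mem_pperp.1 hb).1 (mem_pperp.1 h2).1, hc]
    convert H.mul_mem hbH haH using 1
    rw [mul_assoc (tr Q e b) s, ← mul_assoc s (tr Q e a), move hsm a ha]
    group
  have hD := H.mul_mem hA (H.inv_mem hB)
  rw [mul_inv_rev, ← mul_assoc, mul_inv_cancel_right, ← tr_neg hG p.qe e2,
    ← tr_add hG p.qe e1 (by rw [← neg_one_smul F (b + app s a), b_smul_right, e2, mul_zero])] at hD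
  obtain ⟨t, ht⟩ := Submodule.mem_span_singleton.1 (hs.1 _ (by
    rw [b_add_right, ← neg_one_smul F (b + app s a), b_smul_right, e1, e2, mul_zero, add_zero]) hD)
  have hmem : (a + app g b) + -(b + app s a) ∈ pperp Q e f :=
    Submodule.add_mem _ (Submodule.add_mem _ ha h1) (Submodule.neg_mem _ (Submodule.add_mem _ hb h2))
  have ht0 := (mem_pperp.1 hmem).2
  rw [← ht, b_smul_right, p.de, mul_one] at ht0
  rw [ht0, zero_smul] at ht
  linear_combination (norm := module) -ht

/-- The lift of a transvection of a line is orthogonal to the line. -/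
theorem line_lift (hG : Good Q) (hn : 7 ≤ finrank F V) (p : IsPair Q e f) (hs : IsSparse Q H e) {y w : V}
    (hy : y ∈ pperp Q e f) (hw : w ∈ pperp Q e f) (hyq : Q y = 0) (hwq : Q w = 0) (hyw : polar Q y w = 0)
    {u : V} (hu : u ∈ pperp Q e f) (huH : tr Q e u * tr Q y w ∈ H) : polar Q y u = 0 := by
  obtain ⟨y1, y2⟩ := mem_pperp.1 hy
  obtain ⟨w1, w2⟩ := mem_pperp.1 hw
  obtain ⟨b, hb, hyb, hbn⟩ : ∃ b ∈ pperp Q e f, polar Q y b = 0 ∧ b ∉ Submodule.span F {y, w} := by
    by_contra hcon
    push Not at hcon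
    have h1 : pperp Q e f ⊓ perp Q (Submodule.span F {y}) ≤ Submodule.span F {y, w} :=
      fun b hb => hcon b hb.1 (hb.2 y (Submodule.mem_span_singleton_self y))
    have h2 := Submodule.finrank_mono h1
    have h3 := Submodule.finrank_sup_add_finrank_inf_eq (pperp Q e f) (perp Q (Submodule.span F {y}))
    have h4 := Submodule.finrank_le (pperp Q e f ⊔ perp Q (Submodule.span F {y}))
    have h5 := finrank_perp_eq hG.nd (Submodule.span F {y})
    have h6 := finrank_pperp p
    have h7 : finrank F (Submodule.span F {y, w} : Submodule F V) ≤ 2 := finrank_span_pair_le y w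
    have h8 : finrank F (Submodule.span F {y} : Submodule F V) ≤ 1 := by
      rcases eq_or_ne y 0 with h | h
      · rw [h, Submodule.span_zero_singleton, finrank_bot]; omega
      · rw [finrank_span_singleton h]
    omega
  obtain ⟨b1, b2⟩ := mem_pperp.1 hb
  have hsm : tr Q y w ∈ pairStab Q e f :=
    ⟨tr_fix hG hyq hyw y1 w1, tr_fix hG hyq hyw y2 w2⟩
  have hgm : tr Q y b ∈ pairStab Q e f := ⟨tr_fix hG hyq hyb y1 b1, tr_fix hG hyq hyb y2 b2⟩
  obtain ⟨a, ha, haH⟩ := lift_exists hG p hs hgm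
  have h := lift_comm hG p hs hgm hsm (by rw [← tr_add hG hyq hyb hyw, ← tr_add hG hyq hyw hyb, add_comm]) ha hu
    haH huH
  rw [tr_apply hG hyq hyb, tr_apply hG hyq hyw] at h
  by_contra hne
  refine hbn ?_
  have hne' : polar Q u y ≠ 0 := by rwa [b_comm]
  refine (Submodule.smul_mem_iff _ hne').1 ?_
  rw [show polar Q u y • b = polar Q a y • w +
    ((polar Q u b + Q b * polar Q u y) - (polar Q a w + Q w * polar Q a y)) • y by
    linear_combination (norm := module) h]
  exact Submodule.add_mem _ (Submodule.smul_mem _ _ (Submodule.subset_span (by simp)))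
    (Submodule.smul_mem _ _ (Submodule.subset_span (by simp)))

/-- The lift of a transvection of a line, orthogonal to all of the line. -/
theorem line_lift_both (hG : Good Q) (hn : 7 ≤ finrank F V) (p : IsPair Q e f) (hs : IsSparse Q H e) {y w : V}
    (hy : y ∈ pperp Q e f) (hw : w ∈ pperp Q e f) (hyq : Q y = 0) (hwq : Q w = 0) (hyw : polar Q y w = 0) :
    ∃ u ∈ pperp Q e f, tr Q e u * tr Q y w ∈ H ∧ polar Q y u = 0 ∧ polar Q w u = 0 := by
  obtain ⟨y1, y2⟩ := mem_pperp.1 hy
  obtain ⟨w1, w2⟩ := mem_pperp.1 hw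
  obtain ⟨u, hu, huH⟩ := lift_exists hG p hs
    (g := tr Q y w) ⟨tr_fix hG hyq hyw y1 w1, tr_fix hG hyq hyw y2 w2⟩
  refine ⟨u, hu, huH, line_lift hG hn p hs hy hw hyq hwq hyw hu huH, ?_⟩
  refine line_lift hG hn p hs hw (Submodule.neg_mem _ hy) hwq ?_ ?_ hu ?_
  · rw [← neg_one_smul F y, q_smul, hyq, mul_zero]
  · rw [← neg_one_smul F y, b_smul_right, b_comm, hyw, mul_zero]
  · rwa [← tr_swap hG hyq hwq hyw]

theorem flat_eq (hG : Good Q) {y w : V} (he : Q e = 0) (hy : Q y = 0) (hw : Q w = 0) (hey : polar Q e y = 0)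
    (hew : polar Q e w = 0) (hyw : polar Q y w = 0) (α β : F) :
    tr Q e (α • y + β • w) * tr Q y w = tr Q (y + β • e) (w - α • e) := by
  have hye : polar Q y e = 0 := by rw [b_comm, hey]
  have hβe : Q (β • e) = 0 := by rw [q_smul, he, mul_zero]
  have hae : Q ((-α) • e) = 0 := by rw [q_smul, he, mul_zero]
  have h1 : polar Q y ((-α) • e) = 0 := by rw [b_smul_right, hye, mul_zero]
  have hz : polar Q y (w + (-α) • e) = 0 := by rw [b_add_right, hyw, h1, add_zero]
  have hez : polar Q e (w + (-α) • e) = 0 := by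
    rw [b_add_right, b_smul_right, hew, b_self, he]; ring
  have hwz : Q (w + (-α) • e) = 0 := by rw [q_add, hw, hae, b_smul_right, b_comm w e, hew]; ring
  have heαy : polar Q e (α • y) = 0 := by rw [b_smul_right, hey, mul_zero]
  have heβw : polar Q e (β • w) = 0 := by rw [b_smul_right, hew, mul_zero]
  have hA : tr Q y ((-α) • e) = tr Q e (α • y) := by
    rw [tr_swap hG hy hae h1, tr_scale hG _ he (by rw [← neg_one_smul F y, b_smul_right, hey, mul_zero]),
      neg_smul_neg]
  have hB : tr Q (β • e) (w + (-α) • e) = tr Q e (β • w) := by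
    rw [tr_scale hG β he hez, smul_add, smul_smul, tr_shift hG he heβw]
  rw [sub_eq_add_neg w, ← neg_smul, tr_add_left hG hy hβe (by rw [b_smul_right, hye, mul_zero]) hz
      (by rw [b_smul_left, hez, mul_zero]), hwz, neg_zero, zero_smul, tr_zero hG hy, mul_one, hB,
    tr_add hG hy hyw h1, hA, mul_assoc, ← tr_add hG he heαy heβw]
  refine (tr_comm_of_fix hG he ?_ ?_ ?_).symm
  · rw [b_add_right, heαy, heβw, add_zero]
  · exact tr_fix hG hy hyw hey hew
  · refine tr_fix hG hy hyw ?_ ?_
    · rw [b_add_left, b_smul_left, b_smul_left, b_self, hy, b_comm w y, hyw]; ring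
    · rw [b_add_left, b_smul_left, b_smul_left, b_self, hw, hyw]; ring

/-- The lift of a transvection of a line is not in the line. -/
theorem flat_false (hG : Good Q) (hsp : ∀ x, x ≠ 0 → Q x = 0 → IsSparse Q H x) (p : IsPair Q e f) {y w : V}
    (hy : y ∈ pperp Q e f) (hw : w ∈ pperp Q e f) (hyq : Q y = 0) (hwq : Q w = 0) (hyw : polar Q y w = 0)
    (hy0 : y ≠ 0) (hwy : w ∉ Submodule.span F {y}) (α β : F)
    (huH : tr Q e (α • y + β • w) * tr Q y w ∈ H) : False := by
  obtain ⟨y1, y2⟩ := mem_pperp.1 hy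
  obtain ⟨w1, w2⟩ := mem_pperp.1 hw
  rw [flat_eq hG p.qe hyq hwq y1 w1 hyw] at huH
  have hye : polar Q y e = 0 := by rw [b_comm, y1]
  have hx : Q (y + β • e) = 0 := by rw [q_add, hyq, q_smul, p.qe, b_smul_right, hye]; ring
  have hx0 : y + β • e ≠ 0 := fun h => by
    have h1 := congrArg (polar Q f) h
    rw [b_add_right, b_smul_right, y2, p.de, zero_add, mul_one, b_zero_right] at h1
    rw [h1, zero_smul, add_zero] at h
    exact hy0 h
  obtain ⟨t, ht⟩ := Submodule.mem_span_singleton.1 ((hsp _ hx0 hx).1 _ (by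
    rw [b_sub_right, b_add_left, b_add_left, b_smul_left, b_smul_left, b_smul_right, b_smul_right, w1, hyw,
      hye, p.ee]; ring) huH)
  refine hwy (Submodule.mem_span_singleton.2 ⟨t, ?_⟩)
  have h1 := congrArg (polar Q f) ht
  rw [b_smul_right, b_add_right, b_smul_right, b_sub_right, b_smul_right, y2, w2, p.de] at h1
  have h2 : -α = t * β := by linear_combination -h1
  rw [smul_add, smul_smul, ← h2] at ht
  linear_combination (norm := module) ht

end Sparse

/-- Three orthogonal pairs. -/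
structure IsSix (Q : QuadraticForm F V) (e f y y' w w' : V) : Prop where
  pe : IsPair Q e f
  py : IsPair Q y y'
  pw : IsPair Q w w'
  hy : y ∈ pperp Q e f
  hy' : y' ∈ pperp Q e f
  hw : w ∈ pperp Q e f
  hw' : w' ∈ pperp Q e f
  wy : w ∈ pperp Q y y'
  w'y : w' ∈ pperp Q y y'

theorem exists_six (hG : Good Q) (hn : 7 ≤ finrank F V) : ∃ e f y y' w w', IsSix Q e f y y' w w' := by
  obtain ⟨e, he0, he⟩ := exists_singular hG.nd (by omega)
  obtain ⟨f, hf, hf0⟩ := exists_partner hG.nd he0 he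
  have p : IsPair Q e f := ⟨he, hf0, hf⟩
  have hY := pperp_nondeg hG.nd p
  have h1 := finrank_pperp p
  obtain ⟨y, hy0, hy⟩ := exists_singular hY (by omega)
  obtain ⟨y', hy', hy'0⟩ := exists_partner hY hy0 hy
  have p' : IsPair (restr Q (pperp Q e f)) y y' := ⟨hy, hy'0, hy'⟩
  have h2 := finrank_pperp p'
  obtain ⟨w, hw0, hw⟩ := exists_singular (pperp_nondeg hY p') (by omega)
  obtain ⟨w', hw', hw'0⟩ := exists_partner (pperp_nondeg hY p') hw0 hw
  exact ⟨e, f, (y : V), (y' : V), ((w : pperp Q e f) : V), ((w' : pperp Q e f) : V), p,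
    ⟨hy, hy'0, hy'⟩, ⟨hw, hw'0, hw'⟩, y.2, y'.2, w.1.2, w'.1.2,
    mem_pperp.2 ⟨(mem_pperp.1 w.2).1, (mem_pperp.1 w.2).2⟩, mem_pperp.2 ⟨(mem_pperp.1 w'.2).1, (mem_pperp.1 w'.2).2⟩⟩

/-- The orthogonal of three pairs. -/
theorem six_perp (hG : Good Q) {e f y y' w w' : V} (S : IsSix Q e f y y' w w') :
    ∃ R : Submodule F V, (∀ r, r ∈ R ↔ polar Q e r = 0 ∧ polar Q f r = 0 ∧ polar Q y r = 0 ∧ polar Q y' r = 0 ∧
      polar Q w r = 0 ∧ polar Q w' r = 0) ∧ (∀ a ∈ R, (∀ b ∈ R, polar Q a b = 0) → a = 0) ∧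
      finrank F V ≤ finrank F R + 6 := by
  obtain ⟨y1, y2⟩ := mem_pperp.1 S.hy
  obtain ⟨w1, w2⟩ := mem_pperp.1 S.hw
  obtain ⟨y'1, y'2⟩ := mem_pperp.1 S.hy'
  obtain ⟨w'1, w'2⟩ := mem_pperp.1 S.hw'
  obtain ⟨wy1, wy2⟩ := mem_pperp.1 S.wy
  obtain ⟨w'y1, w'y2⟩ := mem_pperp.1 S.w'y
  obtain ⟨R, hRdef⟩ : ∃ R, perp Q (Submodule.span F ({e, f, y, y', w, w'} : Set V)) = R := ⟨_, rfl⟩
  have hR : ∀ r, r ∈ R ↔ polar Q e r = 0 ∧ polar Q f r = 0 ∧ polar Q y r = 0 ∧ polar Q y' r = 0 ∧
      polar Q w r = 0 ∧ polar Q w' r = 0 := fun r => by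
    rw [← hRdef, mem_perp_span]
    simp
  have hRnd : ∀ a ∈ R, (∀ b ∈ R, polar Q a b = 0) → a = 0 := by
    intro a ha hab
    refine eq_zero_of_b hG.nd fun x => ?_
    obtain ⟨a1, a2, a3, a4, a5, a6⟩ := (hR a).1 ha
    obtain ⟨x', hx'⟩ : ∃ x', x - polar Q x f • e - polar Q x e • f - polar Q x y' • y - polar Q x y • y'
      - polar Q x w' • w - polar Q x w • w' = x' := ⟨_, rfl⟩
    have hmem : x' ∈ R := by
      rw [hR, ← hx']
      simp only [b_sub_right, b_smul_right, b_comm f e, b_comm y e, b_comm y f, b_comm y' e, b_comm y' f,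
        b_comm w e, b_comm w f, b_comm w' e, b_comm w' f, b_comm w y, b_comm w y', b_comm w' y, b_comm w' y',
        b_comm y' y, b_comm w' w, S.pe.ee, S.pe.dd, S.pe.ed, S.py.ee, S.py.dd, S.py.ed, S.pw.ee, S.pw.dd, S.pw.ed,
        y1, y2, y'1, y'2, w1, w2, w'1, w'2, wy1, wy2, w'y1, w'y2, b_comm x e, b_comm x f, b_comm x y, b_comm x y',
        b_comm x w, b_comm x w']
      refine ⟨?_, ?_, ?_, ?_, ?_, ?_⟩ <;> ring
    have h := hab x' hmem
    rw [← hx'] at h
    simp only [b_sub_right, b_smul_right, b_comm a e, b_comm a f, b_comm a y, b_comm a y', b_comm a w, b_comm a w',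
      a1, a2, a3, a4, a5, a6, mul_zero, sub_zero] at h
    exact h
  have hRdim : finrank F V ≤ finrank F R + 6 := by
    have h1 := finrank_perp_eq hG.nd (Submodule.span F ({e, f, y, y', w, w'} : Set V))
    rw [hRdef] at h1
    have h2 : finrank F (Submodule.span F ({e, f, y, y', w, w'} : Set V)) ≤ 6 := by
      classical
      have h3 := finrank_span_finset_le_card (R := F) ({e, f, y, y', w, w'} : Finset V)
      rw [show (({e, f, y, y', w, w'} : Finset V) : Set V) = ({e, f, y, y', w, w'} : Set V) by simp] at h3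
      exact h3.trans Finset.card_le_six
    omega
  exact ⟨R, hR, hRnd, hRdim⟩

set_option maxHeartbeats 1000000 in
/-- Not every point is sparse. -/
theorem sparse_false (hG : Good Q) (hn : 7 ≤ finrank F V)
    (hbase : 9 ≤ finrank F V ∨ ((∀ W : Submodule F V, (∀ w ∈ W, Q w = 0) → finrank F W ≤ 3) ∧
      (finrank F V = 8 ∨ (finrank F V = 7 ∧ (2 : F) ≠ 0))))
    (hsp : ∀ x, x ≠ 0 → Q x = 0 → IsSparse Q H x) : False := by
  obtain ⟨e, f, y, y', w, w', S⟩ := exists_six hG hn
  obtain ⟨y1, y2⟩ := mem_pperp.1 S.hy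
  obtain ⟨w1, w2⟩ := mem_pperp.1 S.hw
  obtain ⟨y'1, y'2⟩ := mem_pperp.1 S.hy'
  obtain ⟨w'1, w'2⟩ := mem_pperp.1 S.hw'
  obtain ⟨wy1, wy2⟩ := mem_pperp.1 S.wy
  obtain ⟨w'y1, w'y2⟩ := mem_pperp.1 S.w'y
  have hs := hsp e S.pe.ne S.pe.qe
  obtain ⟨u, hu, huH, hyu, hwu⟩ := line_lift_both hG hn S.pe hs S.hy S.hw S.py.qe S.pw.qe wy1
  obtain ⟨u1, u2⟩ := mem_pperp.1 hu
  obtain ⟨R, hR, hRnd, hRdim⟩ := six_perp hG S
  obtain ⟨α, hα⟩ : ∃ α, polar Q y' u = α := ⟨_, rfl⟩
  obtain ⟨β, hβ⟩ : ∃ β, polar Q w' u = β := ⟨_, rfl⟩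
  obtain ⟨r, hrdef⟩ : ∃ r, u - α • y - β • w = r := ⟨_, rfl⟩
  have hrR : r ∈ R := by
    have yy : polar Q y y = 0 := S.py.ee
    have ww : polar Q w w = 0 := S.pw.ee
    have wy' : polar Q w y = 0 := by rw [b_comm, wy1]
    rw [hR, ← hrdef]
    simp only [b_sub_right, b_smul_right, u1, u2, y1, y2, w1, w2, yy, ww, wy1, wy', wy2, hyu, hwu, hα, hβ,
      S.py.de, S.pw.de, b_comm w' y, w'y1]
    refine ⟨?_, ?_, ?_, ?_, ?_, ?_⟩ <;> ring
  have hue : u = α • y + β • w + r := by rw [← hrdef]; abel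
  have hr0 : r ≠ 0 := fun h => by
    rw [hue, h, add_zero] at huH
    refine flat_false hG hsp S.pe S.hy S.hw S.py.qe S.pw.qe wy1 S.py.ne (fun hm => ?_) α β huH
    obtain ⟨t, ht⟩ := Submodule.mem_span_singleton.1 hm
    have h1 := S.pw.ed
    rw [← ht, b_smul_left, w'y1, mul_zero] at h1
    exact zero_ne_one h1
  -- elements fixing e, f, y and w move r inside the line only
  have key : ∀ g : omg Q, app g e = e → app g f = f → app g y = y → app g w = w → app g r - r ∈ R →
      app g r = r := by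
    intro g ge gf gy gw hgr
    obtain ⟨a, ha, haH⟩ := lift_exists hG S.pe hs (g := g) ⟨ge, gf⟩
    have h := lift_comm hG S.pe hs (g := g) (s := tr Q y w) ⟨ge, gf⟩
      ⟨tr_fix hG S.py.qe wy1 y1 w1, tr_fix hG S.py.qe wy1 y2 w2⟩
      (tr_comm_of_fix hG S.py.qe wy1 gy gw) ha hu haH huH
    have gy' : g.1.1 y = y := gy
    have gw' : g.1.1 w = w := gw
    have h1 : app g u - u = app g r - r := by
      show g.1.1 u - u = g.1.1 r - r
      rw [hue, map_add, map_add, map_smul, map_smul, gy', gw']; abel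
    rw [h1, tr_apply hG S.py.qe wy1] at h
    obtain ⟨-, -, -, d4, -, d6⟩ := (hR _).1 hgr
    rw [h] at d4 d6
    simp only [b_add_right, b_sub_right, b_smul_right, S.py.de, S.pw.de, b_comm w' y, w'y1, wy2, mul_zero, mul_one,
      zero_sub, sub_zero, add_zero, zero_add, sub_self] at d4 d6
    rw [← sub_eq_zero, h]
    have k1 : polar Q a y = 0 := by linear_combination d6
    have k2 : polar Q a w + Q w * polar Q a y = 0 := by linear_combination -d4
    rw [k2, k1]
    simp
  have hRin : ∀ a ∈ R, a ∈ pperp Q e f := fun a ha => mem_pperp.2 ⟨((hR a).1 ha).1, ((hR a).1 ha).2.1⟩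
  by_cases hbig : 3 ≤ finrank F R
  · obtain ⟨a, haq, hra⟩ := exists_sing_not_perp (nondeg_restr hRnd) hbig (y := ⟨r, hrR⟩)
      (fun h => hr0 (congrArg Subtype.val h))
    have hra' : polar Q r (a : V) ≠ 0 := hra
    have haq' : Q (a : V) = 0 := haq
    obtain ⟨b, hb, hab, hbn⟩ : ∃ b ∈ R, polar Q (a : V) b = 0 ∧ b ∉ Submodule.span F {(a : V)} := by
      by_contra hcon
      push Not at hcon
      have h1 : R ⊓ perp Q (Submodule.span F {(a : V)}) ≤ Submodule.span F {(a : V)} :=
        fun b hb => hcon b hb.1 (hb.2 _ (Submodule.mem_span_singleton_self _))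
      have h2 := Submodule.finrank_mono h1
      have h3 := Submodule.finrank_sup_add_finrank_inf_eq R (perp Q (Submodule.span F {(a : V)}))
      have h4 := Submodule.finrank_le (R ⊔ perp Q (Submodule.span F {(a : V)}))
      have h5 := finrank_perp_eq hG.nd (Submodule.span F {(a : V)})
      have ha0 : (a : V) ≠ 0 := fun h => hra' (by rw [h, b_zero_right])
      rw [finrank_span_singleton ha0] at h2 h5
      omega
    obtain ⟨a1, a2, a3, a4, a5, a6⟩ := (hR _).1 a.2
    obtain ⟨b1, b2, b3, b4, b5, b6⟩ := (hR b).1 hb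
    obtain ⟨g, hg⟩ : ∃ g, tr Q (a : V) b = g := ⟨_, rfl⟩
    have happ : app g r = r + polar Q r (a : V) • b - (polar Q r b + Q b * polar Q r (a : V)) • (a : V) := by
      rw [← hg, tr_apply hG haq' hab]
    have h := key g (hg ▸ tr_fix hG haq' hab a1 b1) (hg ▸ tr_fix hG haq' hab a2 b2)
      (hg ▸ tr_fix hG haq' hab a3 b3) (hg ▸ tr_fix hG haq' hab a5 b5)
      (by rw [happ, show r + polar Q r (a : V) • b - (polar Q r b + Q b * polar Q r (a : V)) • (a : V) - r =
          polar Q r (a : V) • b - (polar Q r b + Q b * polar Q r (a : V)) • (a : V) by abel]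
          exact R.sub_mem (R.smul_mem _ hb) (R.smul_mem _ a.2))
    rw [happ] at h
    refine hbn ((Submodule.smul_mem_iff _ hra').1 ?_)
    rw [show polar Q r (a : V) • b = (polar Q r b + Q b * polar Q r (a : V)) • (a : V) by
      linear_combination (norm := module) h]
    exact Submodule.smul_mem _ _ (Submodule.mem_span_singleton_self _)
  obtain ⟨hts, hdim⟩ := hbase.resolve_left (by omega)
  have han : ∀ a ∈ R, Q a = 0 → a = 0 := by
    intro a ha haq
    by_contra ha0
    obtain ⟨a1, a2, a3, a4, a5, a6⟩ := (hR a).1 ha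
    have hW := hts (Submodule.span F (Set.range ![e, y, w, a])) (span_ts (by
      rintro _ ⟨i, rfl⟩; fin_cases i
      exacts [S.pe.qe, S.py.qe, S.pw.qe, haq]) (by
      rintro _ ⟨i, rfl⟩ _ ⟨j, rfl⟩
      fin_cases i <;> fin_cases j <;> dsimp only [Matrix.cons_val', Matrix.cons_val_zero, Matrix.cons_val_one,
        Fin.zero_eta, Fin.mk_one, Fin.reduceFinMk, Matrix.cons_val, Matrix.cons_val_fin_one]
      all_goals first
        | exact S.pe.ee | exact S.py.ee | exact S.pw.ee | exact (b_self a).trans (by rw [haq, mul_zero])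
        | assumption | (rw [b_comm]; assumption)))
    have hli : LinearIndependent F ![e, y, w, a] := by
      rw [Fintype.linearIndependent_iff]
      intro g hg
      simp only [Fin.sum_univ_four, Matrix.cons_val_zero, Matrix.cons_val_one, Matrix.cons_val] at hg
      have g0 := congrArg (polar Q f) hg
      have g1 := congrArg (polar Q y') hg
      have g2 := congrArg (polar Q w') hg
      simp only [b_add_right, b_smul_right, b_zero_right, S.pe.de, S.py.de, S.pw.de, y2, w2, a2, a4, a6,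
        b_comm y' e, y'1, b_comm w' e, w'1, b_comm w' y, w'y1, wy2, mul_zero, mul_one, add_zero, zero_add] at g0 g1 g2
      rw [g0, g1, g2, zero_smul, zero_smul, zero_smul, zero_add, zero_add, zero_add] at hg
      have g3 := (smul_eq_zero.1 hg).resolve_right ha0
      intro i
      fin_cases i <;> assumption
    rw [finrank_span_eq_card hli, Fintype.card_fin] at hW
    omega
  rcases hdim with h8 | ⟨h7, h2⟩
  · -- a rotation of the plane R
    obtain ⟨g, hgfix, hgR, hgno⟩ := exists_rot hG.nd (R := R) (by omega) hRnd han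
    have hfx : ∀ v ∈ ({e, f, y, w} : Set V), app g v = v := by
      intro v hv
      refine hgfix v fun b hb => ?_
      obtain ⟨b1, b2, b3, b4, b5, b6⟩ := (hR b).1 hb
      rw [b_comm]
      rcases hv with rfl | rfl | rfl | rfl <;> assumption
    exact hr0 (hgno r hrR (key g (hfx e (by simp)) (hfx f (by simp)) (hfx y (by simp)) (hfx w (by simp))
      (R.sub_mem (hgR r hrR) hrR)))
  · -- move to the point x on the plane of e and y
    obtain ⟨r1, r2, r3, r4, r5, r6⟩ := (hR r).1 hrR
    have hrq : Q r ≠ 0 := fun h => hr0 (han r hrR h)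
    obtain ⟨x, hxdef⟩ : ∃ x, y + β • e = x := ⟨_, rfl⟩
    obtain ⟨v, hvdef⟩ : ∃ v, w - α • e = v := ⟨_, rfl⟩
    have hey : polar Q y e = 0 := by rw [b_comm, y1]
    have hew : polar Q w e = 0 := by rw [b_comm, w1]
    have hxq : Q x = 0 := by rw [← hxdef, q_add, q_smul, S.py.qe, S.pe.qe, b_smul_right, hey]; ring
    have hvq : Q v = 0 := by rw [← hvdef, q_sub, q_smul, S.pw.qe, S.pe.qe, b_smul_right, hew]; ring
    have ey' : polar Q e y' = 0 := y'1
    have px : IsPair Q x y' := ⟨hxq, S.py.qd, by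
      rw [← hxdef, b_add_left, b_smul_left, S.py.ed, ey']; ring⟩
    have hxe : polar Q x e = 0 := by rw [← hxdef, b_add_left, b_smul_left, hey, S.pe.ee]; ring
    have hxv : polar Q x v = 0 := by
      rw [← hxdef, ← hvdef, b_add_left, b_sub_right, b_sub_right, b_smul_left, b_smul_left, b_smul_right,
        b_smul_right, wy1, hey, w1, S.pe.ee]; ring
    have hev : polar Q e v = 0 := by rw [← hvdef, b_sub_right, b_smul_right, w1, S.pe.ee]; ring
    have hxr : polar Q x r = 0 := by rw [← hxdef, b_add_left, b_smul_left, r3, r1]; ring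
    have hvr : polar Q v r = 0 := by rw [← hvdef, b_sub_left, b_smul_left, r5, r1]; ring
    have hy'v : polar Q y' v = 0 := by
      rw [← hvdef, b_sub_right, b_smul_right, wy2, b_comm y' e, ey']; ring
    have hy'e : polar Q y' e = 0 := by rw [b_comm, ey']
    have hyw1 : polar Q e (α • y + β • w) = 0 := by rw [b_add_right, b_smul_right, b_smul_right, y1, w1]; ring
    -- the element of H
    have hH : tr Q x v * tr Q e r ∈ H := by
      rw [hue, add_comm _ r, tr_add hG S.pe.qe r1 hyw1, mul_assoc,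
        flat_eq hG S.pe.qe S.py.qe S.pw.qe y1 w1 wy1, hxdef, hvdef] at huH
      rwa [← tr_comm_of_fix hG hxq hxv (g := tr Q e r) (tr_fix hG S.pe.qe r1 hxe hxr)
        (tr_fix hG S.pe.qe r1 (by rw [b_comm, hev]) hvr)]
    have hsx := hsp x px.ne hxq
    have hv : v ∈ pperp Q x y' := mem_pperp.2 ⟨hxv, hy'v⟩
    have he : e ∈ pperp Q x y' := mem_pperp.2 ⟨hxe, hy'e⟩
    obtain ⟨b, hb, hbH, heb, hvb⟩ := line_lift_both hG hn px hsx he hv S.pe.qe hvq hev
    have hgm : tr Q e r ∈ pairStab Q x y' :=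
      ⟨tr_fix hG S.pe.qe r1 hxe hxr, tr_fix hG S.pe.qe r1 hy'e r4⟩
    have hsm : tr Q e v ∈ pairStab Q x y' :=
      ⟨tr_fix hG S.pe.qe hev hxe hxv, tr_fix hG S.pe.qe hev hy'e hy'v⟩
    have h := lift_comm hG px hsx hgm hsm
      (by rw [← tr_add hG S.pe.qe r1 hev, ← tr_add hG S.pe.qe hev r1, add_comm]) hv hb hH hbH
    rw [tr_apply hG S.pe.qe r1, tr_apply hG S.pe.qe hev, b_comm b e, heb, b_comm v e, hev, b_self v, hvq] at h
    simp only [zero_smul, mul_zero, add_zero, sub_self] at h
    have hbr : polar Q b r = 0 := by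
      have h' : polar Q b r • e = 0 := by linear_combination (norm := module) -h
      exact (smul_eq_zero.1 h').resolve_right S.pe.ne
    obtain ⟨hb1, hb2⟩ := mem_pperp.1 hb
    have hli : LinearIndependent F ![x, e, v, r] := by
      rw [Fintype.linearIndependent_iff]
      intro g hg
      simp only [Fin.sum_univ_four, Matrix.cons_val_zero, Matrix.cons_val_one, Matrix.cons_val] at hg
      have g0 := congrArg (polar Q y') hg
      have g1 := congrArg (polar Q f) hg
      have g2 := congrArg (polar Q w') hg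
      have w'x : polar Q w' x = 0 := by
        rw [← hxdef, b_add_right, b_smul_right, b_comm w' y, w'y1, b_comm w' e, w'1]; ring
      have w'v : polar Q w' v = 1 := by
        rw [← hvdef, b_sub_right, b_smul_right, S.pw.de, b_comm w' e, w'1]; ring
      simp only [b_add_right, b_smul_right, b_zero_right, px.de, hy'e, hy'v, r4, r2, r6, w'x, w'v, b_comm w' e, w'1,
        S.pe.de, mul_zero, mul_one, add_zero, zero_add] at g0 g1 g2
      rw [g0, g2, zero_smul, zero_smul, zero_add, add_zero] at hg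
      have g3 := congrArg (polar Q f) hg
      simp only [b_add_right, b_smul_right, b_zero_right, S.pe.de, r2, mul_zero, mul_one, add_zero] at g3
      rw [g3, zero_smul, zero_add] at hg
      have g4 := (smul_eq_zero.1 hg).resolve_right hr0
      intro i
      fin_cases i <;> assumption
    have hli3 : LinearIndependent F ![x, e, v] := by
      have := hli.comp (Fin.castLE (show 3 ≤ 4 by norm_num)) (Fin.castLE_injective _)
      convert this using 1
      funext i
      fin_cases i <;> rfl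
    have hperp : ∀ {z : V}, polar Q x z = 0 → polar Q e z = 0 → polar Q v z = 0 → polar Q r z = 0 →
        z ∈ perp Q (Submodule.span F (Set.range ![x, e, v, r])) := fun h1 h2 h3 h4 =>
      mem_perp_span.2 (by rintro _ ⟨i, rfl⟩; fin_cases i <;> assumption)
    have hle : Submodule.span F (Set.range ![x, e, v]) ≤ perp Q (Submodule.span F (Set.range ![x, e, v, r])) := by
      refine Submodule.span_le.2 ?_
      rintro _ ⟨i, rfl⟩
      fin_cases i
      · exact hperp px.ee (by rw [b_comm]; exact hxe) (by rw [b_comm]; exact hxv) (by rw [b_comm]; exact hxr)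
      · exact hperp hxe S.pe.ee (by rw [b_comm]; exact hev) (by rw [b_comm]; exact r1)
      · exact hperp hxv hev ((b_self v).trans (by rw [hvq, mul_zero])) (by rw [b_comm]; exact hvr)
    have hd := finrank_perp_eq hG.nd (Submodule.span F (Set.range ![x, e, v, r]))
    rw [finrank_span_eq_card hli, Fintype.card_fin] at hd
    have heq := Submodule.eq_of_le_of_finrank_le hle (by rw [finrank_span_eq_card hli3, Fintype.card_fin]; omega)
    have hbm := heq.ge (hperp hb1 heb hvb (by rw [b_comm]; exact hbr))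
    rw [Submodule.mem_span_range_iff_exists_fun] at hbm
    obtain ⟨c, hc⟩ := hbm
    simp only [Fin.sum_univ_three, Matrix.cons_val_zero, Matrix.cons_val_one, Matrix.cons_val] at hc
    have hc0 := congrArg (polar Q y') hc
    simp only [b_add_right, b_smul_right, px.de, hy'e, hy'v, mul_zero, mul_one, add_zero, hb2] at hc0
    rw [hc0, zero_smul, zero_add] at hc
    refine flat_false hG hsp px he hv S.pe.qe hvq hev S.pe.ne (fun hm => ?_) (c 1) (c 2) (by rw [hc]; exact hbH)
    obtain ⟨t, ht⟩ := Submodule.mem_span_singleton.1 hm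
    have h3 := congrArg (polar Q w') ht
    rw [b_smul_right, b_comm w' e, w'1, mul_zero, ← hvdef, b_sub_right, b_smul_right, S.pw.de, b_comm w' e, w'1] at h3
    exact zero_ne_one (by linear_combination h3)

set_option maxHeartbeats 1000000 in
/-- In characteristic two not every point is sparse, also in dimension eight. -/
theorem sparse_false_two (hG : Good Q) (hn : 8 ≤ finrank F V) (h2 : (2 : F) = 0)
    (hsp : ∀ x, x ≠ 0 → Q x = 0 → IsSparse Q H x) : False := by
  obtain ⟨e, f, y, y', w, w', S⟩ := exists_six hG (by omega)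
  obtain ⟨R, hR, hRnd, hRdim⟩ := six_perp hG S
  obtain ⟨y1, y2⟩ := mem_pperp.1 S.hy
  obtain ⟨w1, w2⟩ := mem_pperp.1 S.hw
  obtain ⟨y'1, y'2⟩ := mem_pperp.1 S.hy'
  obtain ⟨w'1, w'2⟩ := mem_pperp.1 S.hw'
  obtain ⟨wy1, wy2⟩ := mem_pperp.1 S.wy
  obtain ⟨w'y1, w'y2⟩ := mem_pperp.1 S.w'y
  obtain ⟨b, hbdef⟩ : ∃ b, w + w' = b := ⟨_, rfl⟩
  have hbq : Q b = 1 := by rw [← hbdef, q_add, S.pw.qe, S.pw.qd, S.pw.ed]; ring
  have hyb : polar Q y b = 0 := by rw [← hbdef, b_add_right, wy1, w'y1, add_zero]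
  have hby : polar Q b y = 0 := by rw [b_comm, hyb]
  have hy'b : polar Q y' b = 0 := by rw [← hbdef, b_add_right, wy2, w'y2, add_zero]
  have b1 : polar Q e b = 0 := by rw [← hbdef, b_add_right, w1, w'1, add_zero]
  have b2 : polar Q f b = 0 := by rw [← hbdef, b_add_right, w2, w'2, add_zero]
  have hwb : polar Q w b = 1 := by rw [← hbdef, b_add_right, S.pw.ee, S.pw.ed, zero_add]
  have hw'b : polar Q w' b = 1 := by rw [← hbdef, b_add_right, S.pw.de, S.pw.dd, add_zero]
  have hs := hsp e S.pe.ne S.pe.qe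
  obtain ⟨g, hgdef⟩ : ∃ g, tr Q y b = g := ⟨_, rfl⟩
  have hgm : g ∈ pairStab Q e f :=
    hgdef ▸ ⟨tr_fix hG S.py.qe hyb y1 b1, tr_fix hG S.py.qe hyb y2 b2⟩
  obtain ⟨u, hu, huH⟩ := lift_exists hG S.pe hs hgm
  obtain ⟨u1, u2⟩ := mem_pperp.1 hu
  have neg : ∀ v : V, -v = v := fun v => by
    rw [neg_eq_iff_add_eq_zero, ← two_smul F v, h2, zero_smul]
  -- the square of the lift
  have hgu : app g u = u := by
    have h1 := tr_conj hG g S.pe.qe u1
    rw [hgm.1, mul_inv_eq_iff_eq_mul] at h1
    have h3 := (mem_pperp.1 (pairStab_pperp hgm hu)).1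
    have h4 : g * g = 1 := by
      rw [← hgdef, ← tr_add hG S.py.qe hyb hyb, ← two_smul F b, h2, zero_smul, tr_zero hG S.py.qe]
    have h5 := H.mul_mem huH huH
    rw [show tr Q e u * g * (tr Q e u * g) = tr Q e u * (g * tr Q e u) * g by group, h1, mul_assoc, mul_assoc, h4,
      mul_one, ← tr_add hG S.pe.qe u1 h3] at h5
    obtain ⟨t, ht⟩ := Submodule.mem_span_singleton.1 (hs.1 _ (by rw [b_add_right, u1, h3, add_zero]) h5)
    have h6 := congrArg (polar Q f) ht
    rw [b_smul_right, b_add_right, S.pe.de, u2, (mem_pperp.1 (pairStab_pperp hgm hu)).2, mul_one, add_zero] at h6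
    rw [h6, zero_smul] at ht
    rw [eq_neg_of_add_eq_zero_right ht.symm, neg]
  have hfix : polar Q u y = 0 ∧ polar Q u b = 0 := by
    rw [← hgdef, tr_apply hG S.py.qe hyb] at hgu
    have h3 := congrArg (polar Q w) hgu
    have h4 := congrArg (polar Q y') hgu
    simp only [b_add_right, b_sub_right, b_smul_right, hwb, b_comm w y, wy1, mul_zero, mul_one, sub_zero,
      add_eq_left] at h3
    simp only [b_add_right, b_sub_right, b_smul_right, hy'b, S.py.de, h3, mul_zero, mul_one, add_zero,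
      sub_eq_self] at h4
    exact ⟨h3, h4⟩
  obtain ⟨huy, hub⟩ := hfix
  obtain ⟨α, hα⟩ : ∃ α, polar Q y' u = α := ⟨_, rfl⟩
  obtain ⟨β, hβ⟩ : ∃ β, polar Q w' u = β := ⟨_, rfl⟩
  obtain ⟨r, hrdef⟩ : ∃ r, u - α • y - β • b = r := ⟨_, rfl⟩
  have hwu : polar Q w u = β := by
    have h3 : polar Q w u + polar Q w' u = 0 := by rw [← b_add_left, hbdef, b_comm, hub]
    rw [hβ] at h3
    linear_combination h3 - β * h2
  have hrR : r ∈ R := by
    rw [hR, ← hrdef]
    simp only [b_sub_right, b_smul_right, u1, u2, y1, y2, b1, b2, S.py.ee, S.py.de, hyb, hy'b, hwb, hw'b,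
      b_comm w y, wy1, b_comm w' y, w'y1, b_comm y u, huy, hα, hβ, hwu]
    refine ⟨?_, ?_, ?_, ?_, ?_, ?_⟩ <;> ring
  have hue : u = α • y + β • b + r := by rw [← hrdef]; abel
  obtain ⟨r1, r2, r3, r4, r5, r6⟩ := (hR r).1 hrR
  have hrb : polar Q r b = 0 := by rw [← hbdef, b_add_right, b_comm r w, b_comm r w', r5, r6, add_zero]
  -- elements fixing e, f, y and b move r inside the plane of y and b only
  have key : ∀ k : omg Q, app k e = e → app k f = f → app k y = y → app k b = b →
      ∃ s t : F, app k r - r = s • b + t • y := by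
    intro k ke kf ky kb
    obtain ⟨a, ha, haH⟩ := lift_exists hG S.pe hs (g := k) ⟨ke, kf⟩
    have h := lift_comm hG S.pe hs (g := k) (s := g) ⟨ke, kf⟩ hgm
      (hgdef ▸ tr_comm_of_fix hG S.py.qe hyb ky kb) ha hu haH huH
    have ky' : k.1.1 y = y := ky
    have kb' : k.1.1 b = b := kb
    have h1 : app k u - u = app k r - r := by
      show k.1.1 u - u = k.1.1 r - r
      rw [hue, map_add, map_add, map_smul, map_smul, ky', kb']; abel
    rw [h1, ← hgdef, tr_apply hG S.py.qe hyb] at h
    exact ⟨polar Q a y, -(polar Q a b + Q b * polar Q a y), by rw [h]; module⟩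
  have hperp : ∀ a ∈ R, Q a = 0 → polar Q r a = 0 := by
    intro a ha haq
    obtain ⟨a1, a2, a3, a4, a5, a6⟩ := (hR a).1 ha
    have hab : polar Q a b = 0 := by rw [← hbdef, b_add_right, b_comm a w, b_comm a w', a5, a6, add_zero]
    have hba : polar Q b a = 0 := by rw [b_comm, hab]
    obtain ⟨s, t, h⟩ := key (tr Q a b) (tr_fix hG haq hab a1 b1) (tr_fix hG haq hab a2 b2)
      (tr_fix hG haq hab a3 hyb) (tr_fix hG haq hab hba (by rw [b_self, h2, zero_mul]))
    rw [tr_apply hG haq hab] at h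
    have h3 := congrArg (polar Q r) h
    simp only [b_sub_right, b_add_right, b_smul_right, hrb, b_comm r y, r3, hbq, one_mul, mul_zero, add_zero,
      zero_add] at h3
    have h4 : polar Q r a * polar Q r a = 0 := by linear_combination -h3
    exact mul_self_eq_zero.1 h4
  have hr : r = 0 := by
    by_cases hbig : 3 ≤ finrank F R
    · by_contra hr0
      obtain ⟨a, haq, hra⟩ := exists_sing_not_perp (nondeg_restr hRnd) hbig (y := ⟨r, hrR⟩)
        (fun h => hr0 (congrArg Subtype.val h))
      exact hra (hperp a a.2 haq)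
    by_cases hs0 : ∃ a ∈ R, Q a = 0 ∧ a ≠ 0
    · obtain ⟨a, ha, haq, ha0⟩ := hs0
      obtain ⟨d, hd1, hdq⟩ := exists_partner (nondeg_restr hRnd) (e := ⟨a, ha⟩)
        (fun h => ha0 (congrArg Subtype.val h)) haq
      have p : IsPair Q a (d : V) := ⟨haq, hdq, hd1⟩
      have hspan : Submodule.span F ({a, (d : V)} : Set V) = R := by
        refine Submodule.eq_of_le_of_finrank_le (Submodule.span_le.2 (by simp [Set.insert_subset_iff, ha])) ?_
        rw [finrank_span_pair ((LinearIndependent.pair_iff).2 fun s t hst => by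
          have e1 := congrArg (polar Q (d : V)) hst
          have e2 := congrArg (polar Q a) hst
          simp only [b_add_right, b_smul_right, b_zero_right, p.de, p.dd, p.ed, p.ee, mul_zero, mul_one, add_zero,
            zero_add] at e1 e2
          exact ⟨e1, e2⟩)]
        omega
      refine hRnd r hrR fun z hz => ?_
      rw [← hspan] at hz
      obtain ⟨s, t, rfl⟩ := Submodule.mem_span_pair.1 hz
      rw [b_add_right, b_smul_right, b_smul_right, hperp a ha haq, hperp d d.2 hdq]; ring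
    · push Not at hs0
      obtain ⟨k, hkfix, hkR, hkno⟩ := exists_rot hG.nd (R := R) (by omega) hRnd hs0
      have hfx : ∀ v : V, (∀ z ∈ R, polar Q z v = 0) → app k v = v := fun v hv => hkfix v fun z hz => hv z hz
      refine hkno r hrR ?_
      obtain ⟨s, t, h⟩ := key k
        (hfx e fun z hz => by rw [b_comm]; exact ((hR z).1 hz).1)
        (hfx f fun z hz => by rw [b_comm]; exact ((hR z).1 hz).2.1)
        (hfx y fun z hz => by rw [b_comm]; exact ((hR z).1 hz).2.2.1)
        (hfx b fun z hz => by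
          rw [← hbdef, b_add_right, b_comm z w, b_comm z w', ((hR z).1 hz).2.2.2.2.1, ((hR z).1 hz).2.2.2.2.2,
            add_zero])
      obtain ⟨-, -, -, d4, d5, -⟩ := (hR _).1 (R.sub_mem (hkR r hrR) hrR)
      rw [h] at d4 d5
      simp only [b_add_right, b_smul_right, hy'b, hwb, S.py.de, b_comm w y, wy1, mul_zero, mul_one, add_zero,
        zero_add] at d4 d5
      rw [d4, d5, zero_smul, zero_smul, zero_add, sub_eq_zero] at h
      exact h
  rw [hue, hr, add_zero, ← hgdef] at huH
  have hye : polar Q y e = 0 := by rw [b_comm, y1]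
  have hxq : Q (y + β • e) = 0 := by rw [q_add, q_smul, S.py.qe, S.pe.qe, b_smul_right, hye]; ring
  have hx0 : y + β • e ≠ 0 := fun h => S.py.ne (by
    have h1 := congrArg (polar Q f) h
    rw [b_add_right, b_smul_right, y2, S.pe.de, zero_add, mul_one, b_zero_right] at h1
    rwa [h1, zero_smul, add_zero] at h)
  have hA : ∀ γ : F, tr Q y ((-γ) • e) = tr Q e (γ • y) := fun γ => by
    rw [tr_swap hG S.py.qe (by rw [q_smul, S.pe.qe, mul_zero]) (by rw [b_smul_right, hye, mul_zero]),
      tr_scale hG _ S.pe.qe (by rw [← neg_one_smul F y, b_smul_right, y1, mul_zero]), neg_smul_neg]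
  obtain ⟨γ, hγ⟩ : ∃ γ, α - β = γ := ⟨_, rfl⟩
  have hz1 : polar Q (y + β • e) (b + (-γ) • e) = 0 := by
    rw [b_add_left, b_add_right, b_add_right, b_smul_left, b_smul_left, b_smul_right, b_smul_right, hyb, hye, b1,
      S.pe.ee]; ring
  have hzq : Q (b + (-γ) • e) = 1 := by
    rw [q_add, q_smul, hbq, S.pe.qe, b_smul_right, b_comm b e, b1]; ring
  have e1 : ∀ c : F, polar Q e (c • y) = 0 := fun c => by rw [b_smul_right, y1, mul_zero]
  have e2 : ∀ c : F, polar Q e (c • b) = 0 := fun c => by rw [b_smul_right, b1, mul_zero]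
  have hmem : tr Q (y + β • e) (b + (-γ) • e) ∈ H := by
    have hcomm := tr_comm_of_fix hG S.pe.qe (g := tr Q y b) (u := γ • y + β • b + β • y)
      (by rw [b_add_right, b_add_right, e1, e2, e1, add_zero, add_zero]) (tr_fix hG S.py.qe hyb y1 b1)
      (tr_fix hG S.py.qe hyb (by
          rw [b_add_left, b_add_left, b_smul_left, b_smul_left, b_smul_left, S.py.ee, hby]; ring)
        (by rw [b_add_left, b_add_left, b_smul_left, b_smul_left, b_smul_left, hyb, b_self, h2]; ring))
    rw [tr_add_left hG S.py.qe (by rw [q_smul, S.pe.qe, mul_zero]) (by rw [b_smul_right, hye, mul_zero])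
        (by rw [b_add_right, hyb, b_smul_right, hye, mul_zero, add_zero])
        (by rw [b_smul_left, b_add_right, b1, b_smul_right, S.pe.ee, mul_zero, add_zero, mul_zero]), hzq,
      smul_smul, neg_one_mul, hA β, tr_add hG S.py.qe hyb (by rw [b_smul_right, hye, mul_zero]), hA γ,
      tr_scale hG β S.pe.qe (by rw [b_add_right, b1, b_smul_right, S.pe.ee, mul_zero, add_zero]), smul_add, smul_smul,
      tr_shift hG S.pe.qe (e2 β), mul_assoc (tr Q y b), ← tr_add hG S.pe.qe (e1 γ) (e2 β), mul_assoc,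
      ← tr_add hG S.pe.qe (by rw [b_add_right, e1, e2, add_zero]) (e1 β), hcomm]
    rwa [show γ • y + β • b + β • y = α • y + β • b by rw [← hγ]; module]
  obtain ⟨t, ht⟩ := Submodule.mem_span_singleton.1 ((hsp _ hx0 hxq).1 _ hz1 hmem)
  have h3 := congrArg Q ht
  rw [q_smul, hxq, mul_zero, hzq] at h3
  exact zero_ne_one h3

/-- A proper subgroup over a small field has index at least the bound. -/
theorem eq_top_small (hG : Good Q) {c m M : ℕ} (hT : HasType Q c (m + 1)) (hc : c ≤ 2)
    (hn : 7 ≤ finrank F V) (hB : SmallBound (Nat.card F) c (finrank F V - 2) M)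
    (hline : ∀ e, e ≠ 0 → Q e = 0 → M ≤ (lineStab Q e).index)
    (hlev : ∀ p, Q p ≠ 0 → M ≤ (lineStab Q p).index)
    (hbase : ((2 : F) = 0 ∧ 8 ≤ finrank F V) ∨ 9 ≤ finrank F V ∨
      (m = 2 ∧ (finrank F V = 8 ∨ (finrank F V = 7 ∧ (2 : F) ≠ 0))))
    (hI : H.index < M) : H = ⊤ := by
  by_contra hne
  haveI : Finite (omg Q) := finite_omega
  have hcls := fun e (he0 : e ≠ 0) (he : Q e = 0) => classify_small (H := H) hG hT hB hI he0 he
  have hnf : ∀ e, e ≠ 0 → Q e = 0 → ¬ IsFullAt Q H e := fun e he0 he =>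
    no_full_small hG hn hT hne hI hline hc hcls he0 he
  by_cases hL : ∃ x, x ≠ 0 ∧ Q x = 0 ∧ finrank F (wk Q H x) = 2
  · obtain ⟨x, hx0, hx, hL⟩ := hL
    have hS : Small Q H (m + 1) := ⟨hG, hn, hnf, fun e he0 he => by
      rcases (hcls e he0 he).resolve_left (hnf e he0 he) with h | h
      · exact Or.inr (Or.inl h)
      · exact Or.inl (h.ks_le hG he)⟩
    obtain ⟨p, hp, -, hfix⟩ := centre_global hS hx0 hx hL
    have hp0 : p ≠ 0 := fun h1 => hp (by rw [h1, map_zero])
    have hle : H ≤ lineStab Q p := fun h hh => by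
      obtain ⟨t, ht⟩ := Submodule.mem_span_singleton.1 (hfix h hh)
      exact ⟨t, fun h0 => app_ne h hp0 (by rw [← ht, h0, zero_smul]), ht.symm⟩
    have h9 := Nat.le_of_dvd (Nat.pos_of_ne_zero Subgroup.index_ne_zero_of_finite) (Subgroup.index_dvd_of_le hle)
    have := hlev p hp
    omega
  · push Not at hL
    have hsp : ∀ e, e ≠ 0 → Q e = 0 → IsSparse Q H e := fun e he0 he =>
      ((hcls e he0 he).resolve_left (hnf e he0 he)).resolve_left (hL e he0 he)
    rcases hbase with ⟨h2, h8⟩ | hbase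
    · exact sparse_false_two hG h8 h2 hsp
    refine sparse_false hG hn (hbase.imp_right fun h => ⟨fun W hW => ?_, h.2⟩) hsp
    have := sing_dim_le (m + 1) hG.nd hT W hW
    omega

end Cfsg.Agent.OrthMin
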