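/-
Minimal index of the projective Omega groups over fields with two or three elements.
-/
import Cfsg.Agent.Lib.OrthMinIndex.Main
import Cfsg.Agent.Lib.OrthMinIndex.SmallMain

set_option autoImplicit false

namespace Cfsg.Agent.OrthMin

open QuadraticMap Module Cfsg.Agent.Orth Cfsg.Agent.OrthDeg

variable {F V : Type*} [Field F] [AddCommGroup V] [Module F V] {Q : QuadraticForm F V}
  [FiniteDimensional F V] [Fintype F]

omit [FiniteDimensional F V] in
/-- Over two or three elements every square of a non-zero element is one. -/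
theorem sq_eq_one_small (hq : Nat.card F = 2 ∨ Nat.card F = 3) (s : F) (hs : s ≠ 0) : s * s = 1 := by
  have h := FiniteField.pow_card_sub_one_eq_one s hs
  rw [← Nat.card_eq_fintype_card] at h
  rcases hq with e | e <;> rw [e] at h
  · rw [show (2 : ℕ) - 1 = 1 from rfl, pow_one] at h
    rw [h, mul_one]
  · rw [show (3 : ℕ) - 1 = 2 from rfl, pow_two] at h
    exact h

/-- The orbit of the line of a vector has no more than its level. -/
theorem line_le_level (hq : Nat.card F = 2 ∨ Nat.card F = 3) {p : V} (hp : p ≠ 0) :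
    (lineStab Q p).index * (Nat.card F - 1) ≤ Nat.card {v : V // v ≠ 0 ∧ Q v = Q p} := by
  haveI : Finite V := Module.finite_of_finite F
  haveI : Finite (omg Q) := finite_omega
  rw [show Nat.card F - 1 = Nat.card {s : F // s ≠ 0} by have := card_scalar_ne (F := F); omega,
    Subgroup.index, ← Nat.card_prod]
  refine Nat.card_le_card_of_injective
    (fun k => (⟨(k.2 : F) • app k.1.out p, smul_ne_zero k.2.2 (app_ne _ hp),
      by rw [q_smul, q_app, sq_eq_one_small hq _ k.2.2, one_mul]⟩ : {v : V // v ≠ 0 ∧ Q v = Q p})) ?_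
  rintro ⟨k, s, hs⟩ ⟨k', s', hs'⟩ h
  have h' : s • app k.out p = s' • app k'.out p := congrArg Subtype.val h
  have hk : k = k' := by
    rw [← QuotientGroup.out_eq' k, ← QuotientGroup.out_eq' k', QuotientGroup.eq]
    refine ⟨s / s', div_ne_zero hs hs', ?_⟩
    have h2 : app k'.out p = (s'⁻¹ * s) • app k.out p := by
      rw [mul_smul, h', smul_smul, inv_mul_cancel₀ hs', one_smul]
    rw [app_mul, h2, app, map_smul]
    show (s'⁻¹ * s) • app k.out⁻¹ (app k.out p) = _
    rw [app_inv_app, mul_comm, ← div_eq_mul_inv]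
  subst hk
  have hss : s = s' := smul_left_injective F (app_ne _ hp) h'
  subst hss
  rfl

/-- The stabiliser of a line of a given value. -/
theorem index_of_level (hG : Good Q) (hq : Nat.card F = 2 ∨ Nat.card F = 3) {t : F} (ht : t ≠ 0) {p : V}
    (hp : Q p = t) : (lineStab Q p).index * (Nat.card F - 1) = Nat.card {v : V // Q v = t} := by
  have hp0 : p ≠ 0 := fun h => ht (by rw [← hp, h, map_zero])
  have e : Nat.card {v : V // v ≠ 0 ∧ Q v = Q p} = Nat.card {v : V // Q v = t} :=
    Nat.card_congr (Equiv.subtypeEquivRight fun v =>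
      ⟨fun h => h.2.trans hp, fun h => ⟨fun h0 => ht (by rw [← h, h0, map_zero]), h.trans hp.symm⟩⟩)
  rw [← e]
  exact le_antisymm (line_le_level hq hp0) (level_le_line hG hp0)

/-- In odd dimension over three elements some value is taken exactly 9 ^ m - 3 ^ m times. -/
theorem exists_low_level (hq : Nat.card F = 3) : ∀ (m : ℕ) {V : Type*} [AddCommGroup V] [Module F V]
    [FiniteDimensional F V] {Q : QuadraticForm F V}, (polarBilin Q).Nondegenerate → HasType Q 1 m →
      ∃ t : F, t ≠ 0 ∧ Nat.card {v // Q v = t} + 3 ^ m = 3 ^ (2 * m)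
  | 0, V, _, _, _, Q, hQ, h => by
    haveI : Finite V := Module.finite_of_finite F
    have h2 : (2 : F) ≠ 0 := by
      intro h0
      haveI : CharP F 2 := (CharP.charP_iff_prime_eq_zero Nat.prime_two).2 (by exact_mod_cast h0)
      have := FiniteField.even_card_of_char_two (F := F) (ringChar.eq F 2)
      rw [← Nat.card_eq_fintype_card, hq] at this
      omega
    obtain ⟨v₀, hv₀, hspan⟩ := finrank_eq_one_iff'.1 h.1
    have hq₀ : Q v₀ ≠ 0 := fun h0 => hv₀ (by
      haveI := (Nat.card_eq_one_iff_unique.1 h.2).1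
      exact congrArg Subtype.val (Subsingleton.elim (⟨v₀, h0⟩ : {v // Q v = 0}) ⟨0, map_zero Q⟩))
    refine ⟨-Q v₀, neg_ne_zero.2 hq₀, ?_⟩
    haveI : IsEmpty {v // Q v = -Q v₀} := ⟨fun ⟨v, hv⟩ => by
      obtain ⟨s, rfl⟩ := hspan v
      rcases eq_or_ne s 0 with rfl | hs
      · rw [zero_smul, map_zero] at hv
        exact neg_ne_zero.2 hq₀ hv.symm
      · rw [q_smul, sq_eq_one_small (Or.inr hq) s hs, one_mul] at hv
        exact mul_ne_zero h2 hq₀ (by linear_combination hv)⟩
    rw [Nat.card_of_isEmpty]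
    simp
  | m + 1, V, _, _, _, Q, hQ, h => by
    obtain ⟨e, d, p⟩ := h.exists_pair hQ
    have hY := h.restrict p
    obtain ⟨t, ht, hlev⟩ := exists_low_level hq m (pperp_nondeg hQ p) hY
    simp only [restr_apply] at hlev
    refine ⟨t, ht, ?_⟩
    rw [card_level_pair p t, hY.1, hq, show 2 * (m + 1) = 2 * m + 2 by ring, pow_succ 3 m, pow_succ 3 (2 * m + 1),
      pow_succ 3 (2 * m)]
    omega

section Proj

variable {K : Type*} [Field K] [Fintype K] {ι : Type} [Fintype ι] [DecidableEq ι]
  {R : QuadraticForm K (ι → K)} {c m : ℕ}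

/-- The stabiliser of a line gives a subgroup of the projective group of the same index. -/
theorem exists_index_line (hR : (polarBilin R).Nondegenerate) (hn : 7 ≤ finrank K (ι → K)) {v : ι → K}
    (hv : v ≠ 0) : ∃ H : Subgroup (Cfsg.POmega K (⇑R)), H.index = (lineStab R v).index := by
  let π : omg R →* Cfsg.POmega K (⇑R) := (QuotientGroup.mk' _).comp (omegaEquiv R).symm.toMonoidHom
  have hπ : Function.Surjective π := (QuotientGroup.mk'_surjective _).comp (omegaEquiv R).symm.surjective
  refine ⟨(lineStab R v).map π, ?_⟩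
  rw [Subgroup.index_map_eq _ hπ]
  intro g hg
  have hz : omegaEquiv R ((omegaEquiv R).symm g) ∈ Subgroup.center (omg R) := by
    have h1 : (omegaEquiv R).symm g ∈ Subgroup.center _ := (QuotientGroup.eq_one_iff _).1 (MonoidHom.mem_ker.1 hg)
    rw [Subgroup.mem_center_iff] at h1 ⊢
    intro x
    simpa using congrArg (omegaEquiv R) (h1 ((omegaEquiv R).symm x))
  rw [MulEquiv.apply_symm_apply, center_scalar hR hn] at hz
  obtain ⟨a, ha⟩ := hz
  exact ⟨a, fun h => app_ne g hv ((ha v).trans (by rw [h, zero_smul])), ha v⟩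

/-- The bound over two or three elements. -/
theorem small_le_index (hR : (polarBilin R).Nondegenerate) (hT : HasType R c (m + 1)) (hc : c ≤ 2)
    (hn : 7 ≤ 2 * (m + 1) + c) {M : ℕ} (hB : SmallBound (Nat.card K) c (2 * m + c) M)
    (hbase : ((2 : K) = 0 ∧ 8 ≤ 2 * (m + 1) + c) ∨ 9 ≤ 2 * (m + 1) + c ∨
      (m = 2 ∧ (2 * (m + 1) + c = 8 ∨ (2 * (m + 1) + c = 7 ∧ (2 : K) ≠ 0))))
    (hline : M * (Nat.card K - 1) + 1 ≤ zc (Nat.card K) c (m + 1))
    (hlev : ∀ t : K, t ≠ 0 → M * (Nat.card K - 1) ≤ Nat.card {v // R v = t})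
    (H : Subgroup (Cfsg.POmega K (⇑R))) (hH : H ≠ ⊤) : M ≤ H.index := by
  haveI : Finite (omg R) := finite_omega
  have hd : finrank K (ι → K) = 2 * (m + 1) + c := hT.1
  have hG : Good R := ⟨hR, by omega⟩
  have hq : 1 < Nat.card K := Finite.one_lt_card
  let π : omg R →* Cfsg.POmega K (⇑R) := (QuotientGroup.mk' _).comp (omegaEquiv R).symm.toMonoidHom
  have hπ : Function.Surjective π := (QuotientGroup.mk'_surjective _).comp (omegaEquiv R).symm.surjective
  by_contra hlt
  rw [not_le, ← Subgroup.index_comap_of_surjective _ hπ] at hlt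
  have htop := eq_top_small (H := H.comap π) hG hT hc (by omega)
    (M := M) (by rwa [show finrank K (ι → K) - 2 = 2 * m + c by omega])
    (fun e he0 he => by
      have h := card_points hG (by omega) he0 he
      rw [hT.2] at h
      exact Nat.le_of_mul_le_mul_right (by omega) (show 0 < Nat.card K - 1 by omega))
    (fun p hp => by
      have h := (hlev _ hp).trans (le_trans (le_of_eq ?_) (level_le_line hG (p := p) (fun h => hp (by rw [h, map_zero]))))
      · exact Nat.le_of_mul_le_mul_right h (by omega)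
      · exact Nat.card_congr (Equiv.subtypeEquivRight fun v =>
          ⟨fun h => ⟨fun h0 => hp (by rw [← h, h0, map_zero]), h⟩, fun h => h.2⟩))
    (by rwa [hd]) hlt
  refine hH (Subgroup.index_eq_one.1 ?_)
  rw [← Subgroup.index_comap_of_surjective _ hπ, htop, Subgroup.index_top]

end Proj

end Cfsg.Agent.OrthMin
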